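import Mathlib

/-!
# Certificates for coset enumerations with packed data

A list of checked facts `H · rep a · g_l = H · rep b`. Each follows from earlier ones together with a
word known to be trivial; such a list bounds the index of `H` in the group generated by chosen letters.
-/

set_option autoImplicit false

namespace Cfsg.Lib.J3Type

/-- A table in leaves of packed numbers. -/
inductive Tree : Type where
  | leaf : ℕ → Tree
  | node : ℕ → Tree → Tree → Tree

/-- An entry of a table whose entries take `w` bits. -/
def Tree.get (w : ℕ) : Tree → ℕ → ℕ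
  | .leaf v, i => Nat.land (Nat.shiftRight v (Nat.mul w i)) (Nat.sub (Nat.pow 2 w) 1)
  | .node m a b, i => bif Nat.blt i m then a.get w i else b.get w (Nat.sub i m)

/-- The letter standing for the identity. -/
def idL : ℕ := 30

/-- The inverse of a letter. -/
def invL (l : ℕ) : ℕ :=
  bif Nat.blt l idL then (bif Nat.beq (Nat.mod l 2) 0 then Nat.add l 1 else Nat.sub l 1) else l

/-- A letter as an element. -/
def lval {G : Type*} [Group G] (g : ℕ → G) (l : ℕ) : G :=
  if idL ≤ l then 1 else if l % 2 = 0 then g (l / 2) else (g (l / 2))⁻¹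

/-- The value of a word. -/
def wval {G : Type*} [Group G] (g : ℕ → G) (w : List ℕ) : G := (w.map (lval g)).prod

theorem wval_nil {G : Type*} [Group G] (g : ℕ → G) : wval g [] = 1 := rfl

theorem wval_cons {G : Type*} [Group G] (g : ℕ → G) (l : ℕ) (w : List ℕ) :
    wval g (l :: w) = lval g l * wval g w := by simp [wval]

theorem wval_append {G : Type*} [Group G] (g : ℕ → G) (u w : List ℕ) :
    wval g (u ++ w) = wval g u * wval g w := by simp [wval]

theorem wval_map {G H : Type*} [Group G] [Group H] (φ : G →* H) (g : ℕ → G) (w : List ℕ) :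
    φ (wval g w) = wval (fun i => φ (g i)) w := by
  induction w with
  | nil => simp [wval]
  | cons l w ih =>
    rw [wval_cons, wval_cons, map_mul, ih]
    congr 1
    unfold lval
    split <;> [simp; (split <;> simp)]

theorem lval_invL {G : Type*} [Group G] (g : ℕ → G) (l : ℕ) : lval g (invL l) = (lval g l)⁻¹ := by
  unfold invL
  by_cases h : l < idL
  · have e : Nat.blt l idL = true := by simp [h]
    rw [e, cond_true]
    have hl : l < 30 := h
    unfold lval idL
    rw [show Nat.mod l 2 = l % 2 from rfl]
    rcases Nat.mod_two_eq_zero_or_one l with h2 | h2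
    · rw [h2, show Nat.beq 0 0 = true from rfl, cond_true]
      show (if 30 ≤ l + 1 then (1 : G) else if (l + 1) % 2 = 0 then g ((l + 1) / 2) else (g ((l + 1) / 2))⁻¹) = _
      rw [if_neg (by omega), if_neg (by omega), if_neg (by omega), if_pos rfl, show (l + 1) / 2 = l / 2 by omega]
    · rw [h2, show Nat.beq 1 0 = false from rfl, cond_false]
      show (if 30 ≤ l - 1 then (1 : G) else if (l - 1) % 2 = 0 then g ((l - 1) / 2) else (g ((l - 1) / 2))⁻¹) = _
      rw [if_neg (by omega), if_pos (by omega), if_neg (by omega), if_neg (by omega), inv_inv,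
        show (l - 1) / 2 = l / 2 by omega]
  · have e : Nat.blt l idL = false := by
      rw [Bool.eq_false_iff]
      exact fun hb => h (Nat.lt_of_succ_le (Nat.le_of_ble_eq_true hb))
    rw [e, cond_false]
    simp [lval, Nat.le_of_not_lt h]

/-- A certificate. -/
structure Cert where
  /-- the facts: `a + 2^15 b + 2^30 l` -/
  facts : Tree
  /-- for each fact: a rule in 14 bits, then segments `s + 1` in 19 bits each, ended by zero -/
  just : Tree
  /-- the width of an entry of `just` -/
  jw : ℕ
  /-- node ↦ `32 · parent + letter` -/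
  par : Tree
  /-- words with trivial value -/
  rules : List (List (List ℕ))
  /-- letters lying in the subgroup -/
  subs : List ℕ
  /-- the number of facts -/
  nFacts : ℕ
  /-- the live nodes -/
  live : Tree
  /-- their number -/
  nLive : ℕ
  /-- the letters generating the group -/
  gens : List ℕ
  /-- (live, generator) ↦ `2^15 · segment + live` -/
  final : Tree

/-- The start of a fact. -/
def srcF (C : Cert) (i : ℕ) : ℕ := Nat.mod (C.facts.get 36 i) 32768
/-- The end of a fact. -/
def tgtF (C : Cert) (i : ℕ) : ℕ := Nat.mod (Nat.div (C.facts.get 36 i) 32768) 32768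
/-- The letter of a fact. -/
def labF (C : Cert) (i : ℕ) : ℕ := Nat.div (C.facts.get 36 i) 1073741824

/-- The start of a directed fact. -/
def segS (C : Cert) (s : ℕ) : ℕ :=
  bif Nat.beq (Nat.mod s 2) 0 then srcF C (Nat.div s 2) else tgtF C (Nat.div s 2)
/-- The end of a directed fact. -/
def segT (C : Cert) (s : ℕ) : ℕ :=
  bif Nat.beq (Nat.mod s 2) 0 then tgtF C (Nat.div s 2) else srcF C (Nat.div s 2)
/-- The letter of a directed fact. -/
def segW (C : Cert) (s : ℕ) : ℕ :=
  bif Nat.beq (Nat.mod s 2) 0 then labF C (Nat.div s 2) else invL (labF C (Nat.div s 2))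

/-- Check that a packed path of earlier facts leads from `p` to `q` and reads `w`, identities omitted. -/
def walkOK (C : Cert) (bound : ℕ) : ℕ → ℕ → ℕ → ℕ → List ℕ → Bool
  | 0, _, _, _, _ => false
  | n + 1, x, p, q, w =>
    bif Nat.beq x 0 then Nat.beq p q && w.isEmpty else
      let s := Nat.sub (Nat.mod x 524288) 1
      Nat.blt (Nat.div s 2) bound && Nat.beq (segS C s) p &&
        (bif Nat.beq (segW C s) idL then walkOK C bound n (Nat.div x 524288) (segT C s) q w
        else match w with
          | [] => false
          | l :: w' => Nat.beq (segW C s) l && walkOK C bound n (Nat.div x 524288) (segT C s) q w')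

/-- The rule with the given number. -/
def ruleAt (C : Cert) (r : ℕ) : List ℕ := (C.rules.getD (Nat.div r 64) []).getD (Nat.mod r 64) []

/-- One fact. -/
def factOK (C : Cert) (i : ℕ) : Bool :=
  let j := C.just.get C.jw i
  let r := Nat.mod j 16384
  let a := srcF C i
  let b := tgtF C i
  let l := labF C i
  bif Nat.beq r 0 then Nat.blt a b && Nat.blt l 32 && Nat.beq (C.par.get 20 b) (Nat.add (Nat.mul a 32) l)
  else bif Nat.beq r 1 then Nat.beq a 0 && Nat.beq b 0 && C.subs.any (Nat.beq l)
  else
    let w := ruleAt C (Nat.sub r 2)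
    bif Nat.beq l idL then walkOK C i 40 (Nat.div j 16384) a b w
    else match w.getLast? with
      | none => false
      | some l' => Nat.beq l' (invL l) && walkOK C i 40 (Nat.div j 16384) a b w.dropLast

/-- A range of facts. -/
def factsOK (C : Cert) (lo len : ℕ) : Bool := (List.range len).all fun k => factOK C (Nat.add lo k)

/-- One row of the final table. -/
def rowOK (C : Cert) (c : ℕ) : Bool :=
  (List.range C.gens.length).all fun j =>
    let e := C.final.get 40 (Nat.add (Nat.mul C.gens.length c) j)
    let s := Nat.div e 32768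
    let d := Nat.mod e 32768
    Nat.blt (Nat.div s 2) C.nFacts && Nat.blt d C.nLive && Nat.beq (segS C s) (C.live.get 15 c) &&
      Nat.beq (segT C s) (C.live.get 15 d) && Nat.beq (segW C s) (C.gens.getD j idL)

/-- A range of rows. -/
def rowsOK (C : Cert) (lo len : ℕ) : Bool :=
  Nat.beq (C.live.get 15 0) 0 && (List.range len).all fun k => rowOK C (Nat.add lo k)

variable {G : Type*} [Group G] (C : Cert) (g : ℕ → G) (H : Subgroup G)

/-- Representatives of the nodes. -/
def repF : ℕ → ℕ → G
  | 0, _ => 1
  | fuel + 1, n =>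
    if C.par.get 20 n / 32 < n then repF fuel (C.par.get 20 n / 32) * lval g (C.par.get 20 n % 32) else 1

/-- The representative of a node. -/
def rep (n : ℕ) : G := repF C g n n

theorem repF_stable : ∀ fuel n, n ≤ fuel → repF C g fuel n = repF C g n n := by
  intro fuel
  induction fuel using Nat.strong_induction_on with
  | _ fuel ih =>
    intro n hn
    rcases fuel with - | fuel
    · rw [Nat.le_zero.1 hn]
    rcases n with - | n
    · simp [repF]
    simp only [repF]
    split
    · rename_i h
      rw [ih fuel (Nat.lt_succ_self _) _ (by omega), ih n (by omega) _ (by omega)]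
    · rfl

theorem rep_par {n : ℕ} (h : C.par.get 20 n / 32 < n) :
    rep C g n = rep C g (C.par.get 20 n / 32) * lval g (C.par.get 20 n % 32) := by
  rcases n with - | n
  · omega
  unfold rep
  rw [repF, if_pos h, repF_stable C g n _ (by omega)]

/-- The fact `H · rep a · g_l = H · rep b`. -/
def Edge (a l b : ℕ) : Prop := rep C g a * lval g l * (rep C g b)⁻¹ ∈ H

/-- What the certificate assumes about the letters. -/
structure Valid : Prop where
  rules : ∀ ws ∈ C.rules, ∀ w ∈ ws, wval g w = 1
  subs : ∀ s ∈ C.subs, lval g s ∈ H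

variable {C g H}

theorem Edge.symm {a l b : ℕ} (h : Edge C g H a l b) : Edge C g H b (invL l) a := by
  unfold Edge at *
  rw [lval_invL]
  simpa [mul_assoc] using inv_mem h

theorem seg_edge {bound : ℕ} (hE : ∀ i < bound, Edge C g H (srcF C i) (labF C i) (tgtF C i)) {s : ℕ}
    (hs : Nat.div s 2 < bound) : Edge C g H (segS C s) (segW C s) (segT C s) := by
  unfold segS segT segW
  cases Nat.beq (Nat.mod s 2) 0
  · exact (hE _ hs).symm
  · exact hE _ hs

theorem walk_spec {bound : ℕ} (hE : ∀ i < bound, Edge C g H (srcF C i) (labF C i) (tgtF C i)) :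
    ∀ (n x p q : ℕ) (w : List ℕ), walkOK C bound n x p q w = true →
      rep C g p * wval g w * (rep C g q)⁻¹ ∈ H := by
  intro n
  induction n with
  | zero => intro x p q w h; simp [walkOK] at h
  | succ n ih =>
    intro x p q w h
    unfold walkOK at h
    by_cases hx : Nat.beq x 0 = true
    · rw [hx, cond_true, Bool.and_eq_true, List.isEmpty_iff] at h
      rw [Nat.eq_of_beq_eq_true h.1, h.2]
      simp [wval]
    rw [eq_false_of_ne_true hx, cond_false] at h
    simp only [Bool.and_eq_true] at h
    obtain ⟨⟨hb, hp⟩, h⟩ := h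
    have hedge := seg_edge hE (Nat.lt_of_succ_le (Nat.le_of_ble_eq_true hb))
    rw [Nat.eq_of_beq_eq_true hp] at hedge
    set s := Nat.sub (Nat.mod x 524288) 1
    by_cases hone : Nat.beq (segW C s) idL = true
    · rw [hone, cond_true] at h
      rw [Nat.eq_of_beq_eq_true hone] at hedge
      simpa [Edge, lval, mul_assoc] using mul_mem hedge (ih _ _ _ _ h)
    · rw [eq_false_of_ne_true hone, cond_false] at h
      rcases w with - | ⟨l, w⟩
      · simp at h
      simp only [Bool.and_eq_true] at h
      rw [Nat.eq_of_beq_eq_true h.1] at hedge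
      simpa [Edge, wval_cons, mul_assoc] using mul_mem hedge (ih _ _ _ _ h.2)

theorem ruleAt_val (hV : Valid C g H) (r : ℕ) : wval g (ruleAt C r) = 1 := by
  unfold ruleAt
  by_cases h1 : Nat.div r 64 < C.rules.length
  · rw [List.getD_eq_getElem _ _ h1]
    by_cases h2 : Nat.mod r 64 < (C.rules[Nat.div r 64]).length
    · rw [List.getD_eq_getElem _ _ h2]
      exact hV.rules _ (List.getElem_mem h1) _ (List.getElem_mem h2)
    · rw [List.getD_eq_default _ _ (by omega)]; rfl
  · rw [List.getD_eq_default C.rules _ (by omega), List.getD_nil]; rfl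

theorem fact_spec (hV : Valid C g H) {i : ℕ} (hi : factOK C i = true)
    (hE : ∀ k < i, Edge C g H (srcF C k) (labF C k) (tgtF C k)) :
    Edge C g H (srcF C i) (labF C i) (tgtF C i) := by
  unfold factOK at hi
  simp only at hi
  set j := C.just.get C.jw i
  by_cases h0 : Nat.beq (Nat.mod j 16384) 0 = true
  · rw [h0, cond_true] at hi
    simp only [Bool.and_eq_true] at hi
    have hab : srcF C i < tgtF C i := Nat.lt_of_succ_le (Nat.le_of_ble_eq_true hi.1.1)
    have hl : labF C i < 32 := Nat.lt_of_succ_le (Nat.le_of_ble_eq_true hi.1.2)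
    have hp : C.par.get 20 (tgtF C i) = srcF C i * 32 + labF C i := Nat.eq_of_beq_eq_true hi.2
    unfold Edge
    rw [rep_par C g (n := tgtF C i) (by rw [hp]; omega), hp,
      show (srcF C i * 32 + labF C i) / 32 = srcF C i by omega,
      show (srcF C i * 32 + labF C i) % 32 = labF C i by omega, mul_inv_cancel]
    exact one_mem H
  rw [eq_false_of_ne_true h0, cond_false] at hi
  by_cases h1 : Nat.beq (Nat.mod j 16384) 1 = true
  · rw [h1, cond_true] at hi
    simp only [Bool.and_eq_true, List.any_eq_true] at hi
    obtain ⟨⟨ha, hb⟩, s, hs, hsl⟩ := hi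
    rw [Nat.eq_of_beq_eq_true ha, Nat.eq_of_beq_eq_true hb, Nat.eq_of_beq_eq_true hsl]
    unfold Edge
    rw [show rep C g 0 = 1 from rfl, one_mul, inv_one, mul_one]
    exact hV.subs _ hs
  rw [eq_false_of_ne_true h1, cond_false] at hi
  set w := ruleAt C (Nat.sub (Nat.mod j 16384) 2)
  have hw : wval g w = 1 := ruleAt_val hV _
  unfold Edge
  by_cases hone : Nat.beq (labF C i) idL = true
  · rw [hone, cond_true] at hi
    have := walk_spec hE _ _ _ _ _ hi
    rw [hw] at this
    rw [Nat.eq_of_beq_eq_true hone]
    simpa [lval] using this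
  rw [eq_false_of_ne_true hone, cond_false] at hi
  rcases hlast : w.getLast? with - | l'
  · rw [hlast] at hi; simp at hi
  rw [hlast] at hi
  simp only [Bool.and_eq_true] at hi
  have hne : w ≠ [] := by rintro e; rw [e] at hlast; simp at hlast
  have hd : w = w.dropLast ++ [invL (labF C i)] := by
    have e := List.getLast?_eq_some_getLast hne
    rw [e, Option.some.injEq] at hlast
    rw [← Nat.eq_of_beq_eq_true hi.1, ← hlast, List.dropLast_append_getLast hne]
  have hval : wval g w.dropLast = lval g (labF C i) := by
    rw [hd, wval_append, wval_cons, wval_nil, mul_one, lval_invL, mul_inv_eq_one] at hw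
    exact hw
  have := walk_spec hE _ _ _ _ _ hi.2
  rwa [hval] at this

theorem edges (hV : Valid C g H) (hok : ∀ i < C.nFacts, factOK C i = true) :
    ∀ i < C.nFacts, Edge C g H (srcF C i) (labF C i) (tgtF C i) := by
  intro i
  induction i using Nat.strong_induction_on with
  | _ i ih => exact fun hi => fact_spec hV (hok i hi) fun k hk => ih k hk (hk.trans hi)

theorem factOK_of_factsOK {lo len i : ℕ} (h : factsOK C lo len = true) (h1 : lo ≤ i) (h2 : i < lo + len) :
    factOK C i = true := by
  have := List.all_eq_true.1 h (i - lo) (List.mem_range.2 (by omega))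
  rwa [show Nat.add lo (i - lo) = i by show lo + (i - lo) = i; omega] at this

theorem rowOK_of_rowsOK {lo len c : ℕ} (h : rowsOK C lo len = true) (h1 : lo ≤ c) (h2 : c < lo + len) :
    rowOK C c = true := by
  unfold rowsOK at h
  rw [Bool.and_eq_true] at h
  have := List.all_eq_true.1 h.2 (c - lo) (List.mem_range.2 (by omega))
  rwa [show Nat.add lo (c - lo) = c by show lo + (c - lo) = c; omega] at this

/-- The nodes' cosets cover the subgroup generated by the chosen letters. -/
theorem mem_cover (hV : Valid C g H) (hok : ∀ i < C.nFacts, factOK C i = true)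
    (h0 : C.live.get 15 0 = 0) (hfin : ∀ c < C.nLive, rowOK C c = true) (hpos : 0 < C.nLive)
    [Finite G] {x : G}
    (hx : x ∈ Subgroup.closure {y | ∃ j < C.gens.length, lval g (C.gens.getD j idL) = y}) :
    ∃ c < C.nLive, x * (rep C g (C.live.get 15 c))⁻¹ ∈ H := by
  classical
  have hE := edges hV hok
  rw [← Subgroup.mem_toSubmonoid, Subgroup.closure_toSubmonoid_of_finite] at hx
  induction hx using Submonoid.closure_induction_right with
  | one => exact ⟨0, hpos, by rw [h0]; simp [rep, repF]⟩
  | mul_right y _ s hs ih =>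
    obtain ⟨j, hj, rfl⟩ := hs
    obtain ⟨c, hc, hy⟩ := ih
    have h := List.all_eq_true.1 (hfin c hc) j (List.mem_range.2 hj)
    simp only [Bool.and_eq_true] at h
    obtain ⟨⟨⟨⟨hi, hd⟩, ha⟩, hb⟩, hl⟩ := h
    set e := C.final.get 40 (Nat.add (Nat.mul C.gens.length c) j)
    refine ⟨Nat.mod e 32768, Nat.lt_of_succ_le (Nat.le_of_ble_eq_true hd), ?_⟩
    have hedge := seg_edge hE (Nat.lt_of_succ_le (Nat.le_of_ble_eq_true hi))
    rw [Nat.eq_of_beq_eq_true ha, Nat.eq_of_beq_eq_true hb, Nat.eq_of_beq_eq_true hl] at hedge
    simpa [Edge, mul_assoc] using mul_mem hy hedge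

/-- The generated group is covered by `nLive` cosets. -/
theorem card_closure_le (hV : Valid C g H) (hok : ∀ i < C.nFacts, factOK C i = true)
    (h0 : C.live.get 15 0 = 0) (hfin : ∀ c < C.nLive, rowOK C c = true) (hpos : 0 < C.nLive)
    [Finite G] :
    Nat.card ↥(Subgroup.closure {y | ∃ j < C.gens.length, lval g (C.gens.getD j idL) = y}) ≤
      C.nLive * Nat.card H := by
  classical
  have hc := fun x : ↥(Subgroup.closure {y | ∃ j < C.gens.length, lval g (C.gens.getD j idL) = y}) =>
    mem_cover hV hok h0 hfin hpos x.2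
  refine le_trans (Nat.card_le_card_of_injective (fun x =>
      ((⟨(hc x).choose, (hc x).choose_spec.1⟩ : Fin C.nLive),
        (⟨(x : G) * (rep C g (C.live.get 15 (hc x).choose))⁻¹, (hc x).choose_spec.2⟩ : H))) ?_) ?_
  · intro a b h
    simp only [Prod.mk.injEq, Fin.mk.injEq, Subtype.mk.injEq] at h
    obtain ⟨h1, h2⟩ := h
    rw [h1] at h2
    exact Subtype.ext (mul_right_cancel h2)
  · rw [Nat.card_prod, Nat.card_fin]

end Cfsg.Lib.J3Type
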