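import Cfsg.Agent.Lib.J3Type.Enum

/-!
# Groups given by a regular table

A certificate over the trivial subgroup numbers the elements of the generated group. With a table of
words for the numbers this gives a multiplication, which any group satisfying the rules realises.
-/

set_option autoImplicit false

namespace Cfsg.Lib.J3Type

/-- The step of the final table along a generator. -/
def tstep (C : Cert) (c j : ℕ) : ℕ := Nat.mod (C.final.get 40 (Nat.add (Nat.mul C.gens.length c) j)) 32768

/-- Follow a packed word: digits `j + 1` in base `16`, the first one lowest. -/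
def twalk (C : Cert) : ℕ → ℕ → ℕ → ℕ
  | 0, _, c => c
  | n + 1, x, c => bif Nat.beq x 0 then c else twalk C n (Nat.div x 16) (tstep C c (Nat.sub (Nat.mod x 16) 1))

/-- The packed word of a number. -/
def tword (W : Tree) (m : ℕ) : ℕ := W.get 128 m

/-- The product of two numbers. -/
def tmul (C : Cert) (W : Tree) (n m : ℕ) : ℕ := twalk C 32 (tword W m) n

/-- Every digit of a word names a generator and every number is reached by its word. -/
def wordsOK (C : Cert) (W : Tree) : Bool :=
  (List.range C.nLive).all fun m =>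
    Nat.beq (twalk C 32 (tword W m) 0) m &&
      (List.range 32).all fun i =>
        let d := Nat.mod (Nat.shiftRight (tword W m) (Nat.mul 4 i)) 16
        Nat.ble d C.gens.length

variable {G : Type*} [Group G] (C : Cert) (g : ℕ → G)

/-- The element with the given number. -/
def trep (c : ℕ) : G := rep C g (C.live.get 15 c)

/-- A packed word as an element. -/
def pval : ℕ → ℕ → G
  | 0, _ => 1
  | n + 1, x => if x = 0 then 1 else lval g (C.gens.getD (x % 16 - 1) idL) * pval n (x / 16)

/-- The rules hold and the certificate is checked, over the trivial subgroup. -/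
structure Reg : Prop where
  valid : Valid C g (⊥ : Subgroup G)
  facts : ∀ i < C.nFacts, factOK C i = true
  rows : ∀ c < C.nLive, rowOK C c = true
  zero : C.live.get 15 0 = 0
  pos : 0 < C.nLive

variable {C g}

theorem trep_zero (R : Reg C g) : trep C g 0 = 1 := by
  rw [trep, R.zero]; rfl

theorem tstep_spec (R : Reg C g) {c j : ℕ} (hc : c < C.nLive) (hj : j < C.gens.length) :
    tstep C c j < C.nLive ∧ trep C g c * lval g (C.gens.getD j idL) = trep C g (tstep C c j) := by
  have h := List.all_eq_true.1 (R.rows c hc) j (List.mem_range.2 hj)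
  simp only [Bool.and_eq_true] at h
  obtain ⟨⟨⟨⟨hi, hd⟩, ha⟩, hb⟩, hl⟩ := h
  refine ⟨Nat.lt_of_succ_le (Nat.le_of_ble_eq_true hd), ?_⟩
  have hedge := seg_edge (edges R.valid R.facts) (Nat.lt_of_succ_le (Nat.le_of_ble_eq_true hi))
  rw [Nat.eq_of_beq_eq_true ha, Nat.eq_of_beq_eq_true hb, Nat.eq_of_beq_eq_true hl] at hedge
  rw [Edge, Subgroup.mem_bot, mul_inv_eq_one] at hedge
  exact hedge

theorem twalk_spec (R : Reg C g) : ∀ (n x c : ℕ), c < C.nLive →
    (∀ i < n, Nat.mod (Nat.shiftRight x (Nat.mul 4 i)) 16 ≤ C.gens.length) →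
    (∀ i < n, Nat.shiftRight x (Nat.mul 4 i) ≠ 0 → Nat.mod (Nat.shiftRight x (Nat.mul 4 i)) 16 ≠ 0) →
    twalk C n x c < C.nLive ∧ trep C g c * pval C g n x = trep C g (twalk C n x c)
  | 0, _, _, hc, _, _ => ⟨hc, by simp [pval, twalk]⟩
  | n + 1, x, c, hc, h1, h2 => by
    by_cases hx : x = 0
    · subst hx
      simp [pval, twalk, hc]
    have e : Nat.beq x 0 = false := by
      rw [Bool.eq_false_iff]; exact fun h => hx (Nat.eq_of_beq_eq_true h)
    have d1 := h1 0 (Nat.succ_pos n)
    have d2 := h2 0 (Nat.succ_pos n) (by simpa using hx)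
    simp only [Nat.mul_eq, mul_zero, Nat.shiftRight_zero] at d1 d2
    have hd : Nat.sub (Nat.mod x 16) 1 < C.gens.length := by
      show x % 16 - 1 < _
      have d1' : x % 16 ≤ C.gens.length := d1
      have d2' : x % 16 ≠ 0 := d2
      omega
    obtain ⟨hlt, hs⟩ := tstep_spec R hc hd
    have shift : ∀ i, Nat.shiftRight (Nat.div x 16) (Nat.mul 4 i) = Nat.shiftRight x (Nat.mul 4 (i + 1)) := by
      intro i
      show (x / 16) >>> (4 * i) = x >>> (4 * (i + 1))
      rw [show x / 16 = x >>> 4 by simp [Nat.shiftRight_eq_div_pow], ← Nat.shiftRight_add]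
      congr 1; ring
    obtain ⟨h3, h4⟩ := twalk_spec R n (Nat.div x 16) _ hlt
      (fun i hi => by rw [shift]; exact h1 (i + 1) (Nat.succ_lt_succ hi))
      (fun i hi => by rw [shift]; exact h2 (i + 1) (Nat.succ_lt_succ hi))
    refine ⟨by simpa [twalk, e] using h3, ?_⟩
    rw [show twalk C (n + 1) x c = twalk C n (Nat.div x 16) (tstep C c (Nat.sub (Nat.mod x 16) 1)) by simp [twalk, e],
      ← h4, ← hs]
    simp [pval, hx, mul_assoc]
    rfl

/-- Words contain no zero digit below their top. -/
def noGapOK (C : Cert) (W : Tree) : Bool :=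
  (List.range C.nLive).all fun m => (List.range 32).all fun i =>
    let y := Nat.shiftRight (tword W m) (Nat.mul 4 i)
    Nat.beq y 0 || !Nat.beq (Nat.mod y 16) 0

variable {W : Tree}

theorem tmul_spec (R : Reg C g) (hW : wordsOK C W = true) (hgap : noGapOK C W = true) {n m : ℕ}
    (hn : n < C.nLive) (hm : m < C.nLive) :
    tmul C W n m < C.nLive ∧ trep C g (tmul C W n m) = trep C g n * trep C g m := by
  have h := List.all_eq_true.1 hW m (List.mem_range.2 hm)
  rw [Bool.and_eq_true] at h
  have h1 : ∀ i < 32, Nat.mod (Nat.shiftRight (tword W m) (Nat.mul 4 i)) 16 ≤ C.gens.length := fun i hi =>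
    Nat.le_of_ble_eq_true (List.all_eq_true.1 h.2 i (List.mem_range.2 hi))
  have h2 : ∀ i < 32, Nat.shiftRight (tword W m) (Nat.mul 4 i) ≠ 0 →
      Nat.mod (Nat.shiftRight (tword W m) (Nat.mul 4 i)) 16 ≠ 0 := by
    intro i hi hne hz
    have := List.all_eq_true.1 (List.all_eq_true.1 hgap m (List.mem_range.2 hm)) i (List.mem_range.2 hi)
    simp only [Bool.or_eq_true, Bool.not_eq_true'] at this
    rcases this with h' | h'
    · exact hne (Nat.eq_of_beq_eq_true h')
    · rw [hz] at h'; exact Bool.noConfusion h'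
  obtain ⟨a1, a2⟩ := twalk_spec R 32 (tword W m) n hn h1 h2
  obtain ⟨-, b2⟩ := twalk_spec R 32 (tword W m) 0 R.pos h1 h2
  rw [trep_zero R, one_mul, Nat.eq_of_beq_eq_true h.1] at b2
  exact ⟨a1, by rw [show tmul C W n m = twalk C 32 (tword W m) n from rfl, ← a2, b2]⟩

theorem exists_trep [Finite G] (R : Reg C g) {x : G}
    (hx : x ∈ Subgroup.closure {y | ∃ j < C.gens.length, lval g (C.gens.getD j idL) = y}) :
    ∃ c < C.nLive, trep C g c = x := by
  obtain ⟨c, hc, h⟩ := mem_cover R.valid R.facts R.zero R.rows R.pos hx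
  rw [Subgroup.mem_bot, mul_inv_eq_one] at h
  exact ⟨c, hc, h.symm⟩

/-- If the generated group is large enough, the numbering is injective. -/
theorem trep_inj [Finite G] (R : Reg C g)
    (hcard : C.nLive ≤ Nat.card ↥(Subgroup.closure {y | ∃ j < C.gens.length, lval g (C.gens.getD j idL) = y}))
    {c d : ℕ} (hc : c < C.nLive) (hd : d < C.nLive) (h : trep C g c = trep C g d) : c = d := by
  classical
  let S := Subgroup.closure {y | ∃ j < C.gens.length, lval g (C.gens.getD j idL) = y}
  let f : S → Fin C.nLive := fun x => ⟨(exists_trep R x.2).choose, (exists_trep R x.2).choose_spec.1⟩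
  have hf : ∀ x : S, trep C g (f x : ℕ) = (x : G) := fun x => (exists_trep R x.2).choose_spec.2
  have inj : Function.Injective f := fun x y e => Subtype.ext (by rw [← hf x, ← hf y, e])
  have bij : Function.Bijective f := (Nat.bijective_iff_injective_and_card f).2 ⟨inj,
    le_antisymm (Nat.card_le_card_of_injective f inj) (by rw [Nat.card_fin]; exact hcard)⟩
  obtain ⟨x, hx⟩ := bij.2 ⟨c, hc⟩
  obtain ⟨y, hy⟩ := bij.2 ⟨d, hd⟩
  have e : (x : G) = y := by rw [← hf x, ← hf y, hx, hy]; exact h
  have := hx.symm.trans ((congrArg f (Subtype.ext e)).trans hy)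
  exact congrArg Fin.val this

/-- The relators, their inverses and rotations. -/
def invW (w : List ℕ) : List ℕ := w.reverse.map invL

/-- Remove adjacent inverse pairs. -/
def freeRed : List ℕ → List ℕ
  | [] => []
  | l :: w => match freeRed w with
    | [] => [l]
    | m :: v => bif Nat.beq m (invL l) then v else l :: m :: v

/-- A word that is freely trivial or a rotation of a relator or of its inverse. -/
def isRule (R : List (List ℕ)) (w : List ℕ) : Bool :=
  (freeRed w).isEmpty || (List.range w.length).any fun k =>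
    R.any fun r => (w.drop k ++ w.take k == r) || (w.drop k ++ w.take k == invW r)

theorem wval_invW (w : List ℕ) : wval g (invW w) = (wval g w)⁻¹ := by
  induction w with
  | nil => simp [invW, wval]
  | cons l w ih =>
    rw [show invW (l :: w) = invW w ++ [invL l] by simp [invW], wval_append, wval_cons, wval_cons,
      wval_nil, mul_one, lval_invL, ih, mul_inv_rev]

theorem wval_freeRed : ∀ w : List ℕ, wval g (freeRed w) = wval g w
  | [] => rfl
  | l :: w => by
    have ih := wval_freeRed w
    rw [freeRed, wval_cons, ← ih]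
    rcases freeRed w with - | ⟨m, v⟩
    · simp [wval]
    · show wval g (bif Nat.beq m (invL l) then v else l :: m :: v) = _
      by_cases h : Nat.beq m (invL l) = true
      · rw [h, cond_true, Nat.eq_of_beq_eq_true h, wval_cons, lval_invL, mul_inv_cancel_left]
      · rw [eq_false_of_ne_true h, cond_false, wval_cons]

theorem wval_isRule {R : List (List ℕ)} (hR : ∀ r ∈ R, wval g r = 1) {w : List ℕ}
    (h : isRule R w = true) : wval g w = 1 := by
  unfold isRule at h
  rw [Bool.or_eq_true, List.isEmpty_iff, List.any_eq_true] at h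
  rcases h with h | ⟨k, -, h⟩
  · rw [← wval_freeRed, h, wval_nil]
  rw [List.any_eq_true] at h
  obtain ⟨r, hr, h⟩ := h
  rw [Bool.or_eq_true, beq_iff_eq, beq_iff_eq] at h
  have h1 : wval g (w.drop k ++ w.take k) = 1 := by
    rcases h with h | h <;> rw [h]
    · exact hR r hr
    · rw [wval_invW, hR r hr, inv_one]
  rw [wval_append] at h1
  have h2 := mul_eq_one_comm.1 h1
  rwa [← wval_append, List.take_append_drop] at h2

/-- The number of the value of a word, for letters given by numbers with their inverses. -/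
def teval (C : Cert) (W : Tree) (im : List (ℕ × ℕ)) : List ℕ → ℕ
  | [] => 0
  | l :: w =>
    tmul C W (bif Nat.beq (Nat.mod l 2) 0 then (im.getD (Nat.div l 2) (0, 0)).1 else (im.getD (Nat.div l 2) (0, 0)).2)
      (teval C W im w)

/-- The numbers for the letters are in range and inverse in pairs. -/
def imgsOK (C : Cert) (W : Tree) (im : List (ℕ × ℕ)) : Bool :=
  im.all fun p => Nat.blt p.1 C.nLive && Nat.blt p.2 C.nLive && Nat.beq (tmul C W p.1 p.2) 0

/-- The letters of a word are in range. -/
def lettersOK (n : ℕ) (w : List ℕ) : Bool := w.all fun l => Nat.blt l (Nat.mul 2 n) && Nat.blt l idL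

theorem teval_spec (R : Reg C g) (hW : wordsOK C W = true) (hgap : noGapOK C W = true)
    {im : List (ℕ × ℕ)} (him : imgsOK C W im = true) {g' : ℕ → G}
    (hg' : ∀ i < im.length, g' i = trep C g (im.getD i (0, 0)).1) :
    ∀ {w : List ℕ}, lettersOK im.length w = true →
      teval C W im w < C.nLive ∧ wval g' w = trep C g (teval C W im w)
  | [], _ => ⟨R.pos, by simp [teval, wval, trep_zero R]⟩
  | l :: w, h => by
    simp only [lettersOK, List.all_cons, Bool.and_eq_true] at h
    obtain ⟨⟨h1, h30⟩, hw⟩ := h
    obtain ⟨hlt, hv⟩ := teval_spec R hW hgap him hg' (w := w) hw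
    have h1' : l < 2 * im.length := Nat.lt_of_succ_le (Nat.le_of_ble_eq_true h1)
    have h30' : ¬ idL ≤ l := Nat.not_le.2 (Nat.lt_of_succ_le (Nat.le_of_ble_eq_true h30))
    have hl : l / 2 < im.length := by omega
    have hp := List.all_eq_true.1 him (im.getD (l / 2) (0, 0)) (by
      rw [List.getD_eq_getElem _ _ hl]; exact List.getElem_mem hl)
    simp only [Bool.and_eq_true] at hp
    obtain ⟨⟨ha, hb⟩, hab⟩ := hp
    have ha' := Nat.lt_of_succ_le (Nat.le_of_ble_eq_true ha)
    have hb' := Nat.lt_of_succ_le (Nat.le_of_ble_eq_true hb)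
    have hinv : (trep C g (im.getD (l / 2) (0, 0)).1)⁻¹ = trep C g (im.getD (l / 2) (0, 0)).2 := by
      apply inv_eq_of_mul_eq_one_right
      rw [← (tmul_spec R hW hgap ha' hb').2, Nat.eq_of_beq_eq_true hab, trep_zero R]
    rw [wval_cons, hv, teval]
    unfold lval
    rw [if_neg h30', show Nat.mod l 2 = l % 2 from rfl, show Nat.div l 2 = l / 2 from rfl]
    rcases Nat.mod_two_eq_zero_or_one l with h2 | h2
    · rw [h2, if_pos rfl, show Nat.beq 0 0 = true from rfl, cond_true, hg' _ hl]
      exact ⟨(tmul_spec R hW hgap ha' hlt).1, (tmul_spec R hW hgap ha' hlt).2.symm⟩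
    · rw [h2, if_neg (by norm_num), show Nat.beq 1 0 = false from rfl, cond_false, hg' _ hl, hinv]
      exact ⟨(tmul_spec R hW hgap hb' hlt).1, (tmul_spec R hW hgap hb' hlt).2.symm⟩

/-- The letters of a packed word. -/
def unpackW (C : Cert) : ℕ → ℕ → List ℕ
  | 0, _ => []
  | n + 1, x => bif Nat.beq x 0 then [] else C.gens.getD (Nat.sub (Nat.mod x 16) 1) idL :: unpackW C n (Nat.div x 16)

theorem pval_eq : ∀ n x : ℕ, pval C g n x = wval g (unpackW C n x)
  | 0, _ => by simp [pval, unpackW, wval]
  | n + 1, x => by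
    by_cases hx : x = 0
    · subst hx; simp [pval, unpackW, wval]
    · have e : Nat.beq x 0 = false := by rw [Bool.eq_false_iff]; exact fun h => hx (Nat.eq_of_beq_eq_true h)
      rw [pval, if_neg hx, unpackW, e, cond_false, wval_cons, pval_eq n (x / 16)]
      rfl

theorem trep_word (R : Reg C g) (hW : wordsOK C W = true) (hgap : noGapOK C W = true) {m : ℕ}
    (hm : m < C.nLive) : trep C g m = wval g (unpackW C 32 (tword W m)) := by
  have h := List.all_eq_true.1 hW m (List.mem_range.2 hm)
  rw [Bool.and_eq_true] at h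
  obtain ⟨-, b2⟩ := twalk_spec R 32 (tword W m) 0 R.pos
    (fun i hi => Nat.le_of_ble_eq_true (List.all_eq_true.1 h.2 i (List.mem_range.2 hi)))
    (fun i hi hne hz => by
      have := List.all_eq_true.1 (List.all_eq_true.1 hgap m (List.mem_range.2 hm)) i (List.mem_range.2 hi)
      simp only [Bool.or_eq_true, Bool.not_eq_true'] at this
      rcases this with h' | h'
      · exact hne (Nat.eq_of_beq_eq_true h')
      · rw [hz] at h'; exact Bool.noConfusion h')
  rw [trep_zero R, one_mul, Nat.eq_of_beq_eq_true h.1, pval_eq] at b2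
  exact b2.symm

end Cfsg.Lib.J3Type
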