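import Cfsg.Agent.Lib.J3Type.CenData

/-!
Kernel checks of the certificate `cenCert`.
-/

set_option autoImplicit false
set_option maxRecDepth 100000

namespace Cfsg.Lib.J3Type

theorem cenCert_facts0 : factsOK cenCert 0 2000 = true := by decide +kernel

theorem cenCert_facts1 : factsOK cenCert 2000 2000 = true := by decide +kernel

theorem cenCert_facts2 : factsOK cenCert 4000 2000 = true := by decide +kernel

theorem cenCert_facts3 : factsOK cenCert 6000 426 = true := by decide +kernel

theorem cenCert_rows0 : rowsOK cenCert 0 1920 = true := by decide +kernel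

theorem cenCert_fact_ok : ∀ i < cenCert.nFacts, factOK cenCert i = true := by
  intro i hi
  replace hi : i < 6426 := hi
  by_cases h0 : i < 2000
  · exact factOK_of_factsOK cenCert_facts0 (by omega) (by omega)
  by_cases h1 : i < 4000
  · exact factOK_of_factsOK cenCert_facts1 (by omega) (by omega)
  by_cases h2 : i < 6000
  · exact factOK_of_factsOK cenCert_facts2 (by omega) (by omega)
  by_cases h3 : i < 6426
  · exact factOK_of_factsOK cenCert_facts3 (by omega) (by omega)
  omega

theorem cenCert_row_ok : ∀ c < cenCert.nLive, rowOK cenCert c = true := by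
  intro c hc
  replace hc : c < 1920 := hc
  by_cases h0 : c < 1920
  · exact rowOK_of_rowsOK cenCert_rows0 (by omega) (by omega)
  omega

theorem cenCert_live_zero : cenCert.live.get 15 0 = 0 := by decide +kernel

end Cfsg.Lib.J3Type
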