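import Cfsg.Agent.Lib.J3Type.Enum

/-!
# The central involution as a word in the generators of the centralizer
-/

set_option autoImplicit false

namespace Cfsg.Lib.J3Type

/-- A word for an element acting as the first quaternion generator. -/
def wordX : List ℕ := [0, 3, 1, 3, 3, 1, 3]

/-- A word for an element acting as the second quaternion generator. -/
def wordY : List ℕ := [2, 0, 2, 0]

/-- Words for the generators of the extraspecial subgroup. -/
def extraWord : List (List ℕ) :=
  [[0, 3, 1, 3, 3, 1, 3], [2, 0, 2, 0], [1, 3, 1, 2, 1, 3, 1, 2, 2], [0, 3, 0, 2, 0, 3, 3, 0, 2], [0, 2, 0, 2, 0, 2, 0, 2]]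

end Cfsg.Lib.J3Type
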