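import Cfsg.Agent.Lib.J3Type.SignAData

/-!
Kernel checks of the certificate `signA`.
-/

set_option autoImplicit false
set_option maxRecDepth 100000

namespace Cfsg.Lib.J3Type

theorem signA_facts0 : factsOK signA 0 2000 = true := by decide +kernel

theorem signA_facts1 : factsOK signA 2000 2000 = true := by decide +kernel

theorem signA_facts2 : factsOK signA 4000 1896 = true := by decide +kernel

theorem signA_rows0 : rowsOK signA 0 960 = true := by decide +kernel

theorem signA_fact_ok : ∀ i < signA.nFacts, factOK signA i = true := by
  intro i hi
  replace hi : i < 5896 := hi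
  by_cases h0 : i < 2000
  · exact factOK_of_factsOK signA_facts0 (by omega) (by omega)
  by_cases h1 : i < 4000
  · exact factOK_of_factsOK signA_facts1 (by omega) (by omega)
  by_cases h2 : i < 5896
  · exact factOK_of_factsOK signA_facts2 (by omega) (by omega)
  omega

theorem signA_row_ok : ∀ c < signA.nLive, rowOK signA c = true := by
  intro c hc
  replace hc : c < 960 := hc
  by_cases h0 : c < 960
  · exact rowOK_of_rowsOK signA_rows0 (by omega) (by omega)
  omega

theorem signA_live_zero : signA.live.get 15 0 = 0 := by decide +kernel

end Cfsg.Lib.J3Type
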