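import Cfsg.Agent.Lib.J3Type.SignBData

/-!
Kernel checks of the certificate `signB`.
-/

set_option autoImplicit false
set_option maxRecDepth 100000

namespace Cfsg.Lib.J3Type

theorem signB_facts0 : factsOK signB 0 2000 = true := by decide +kernel

theorem signB_facts1 : factsOK signB 2000 2000 = true := by decide +kernel

theorem signB_facts2 : factsOK signB 4000 2000 = true := by decide +kernel

theorem signB_facts3 : factsOK signB 6000 300 = true := by decide +kernel

theorem signB_rows0 : rowsOK signB 0 960 = true := by decide +kernel

theorem signB_fact_ok : ∀ i < signB.nFacts, factOK signB i = true := by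
  intro i hi
  replace hi : i < 6300 := hi
  by_cases h0 : i < 2000
  · exact factOK_of_factsOK signB_facts0 (by omega) (by omega)
  by_cases h1 : i < 4000
  · exact factOK_of_factsOK signB_facts1 (by omega) (by omega)
  by_cases h2 : i < 6000
  · exact factOK_of_factsOK signB_facts2 (by omega) (by omega)
  by_cases h3 : i < 6300
  · exact factOK_of_factsOK signB_facts3 (by omega) (by omega)
  omega

theorem signB_row_ok : ∀ c < signB.nLive, rowOK signB c = true := by
  intro c hc
  replace hc : c < 960 := hc
  by_cases h0 : c < 960
  · exact rowOK_of_rowsOK signB_rows0 (by omega) (by omega)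
  omega

theorem signB_live_zero : signB.live.get 15 0 = 0 := by decide +kernel

end Cfsg.Lib.J3Type
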