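import Cfsg.Agent.Lib.J3Type.TwistData

/-!
Kernel checks of the certificate `twistCert`.
-/

set_option autoImplicit false
set_option maxRecDepth 100000

namespace Cfsg.Lib.J3Type

theorem twistCert_facts0 : factsOK twistCert 0 2000 = true := by decide +kernel

theorem twistCert_facts1 : factsOK twistCert 2000 2000 = true := by decide +kernel

theorem twistCert_facts2 : factsOK twistCert 4000 2000 = true := by decide +kernel

theorem twistCert_facts3 : factsOK twistCert 6000 2000 = true := by decide +kernel

theorem twistCert_facts4 : factsOK twistCert 8000 2000 = true := by decide +kernel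

theorem twistCert_facts5 : factsOK twistCert 10000 2000 = true := by decide +kernel

theorem twistCert_facts6 : factsOK twistCert 12000 356 = true := by decide +kernel

theorem twistCert_rows0 : rowsOK twistCert 0 1920 = true := by decide +kernel

theorem twistCert_fact_ok : ∀ i < twistCert.nFacts, factOK twistCert i = true := by
  intro i hi
  replace hi : i < 12356 := hi
  by_cases h0 : i < 2000
  · exact factOK_of_factsOK twistCert_facts0 (by omega) (by omega)
  by_cases h1 : i < 4000
  · exact factOK_of_factsOK twistCert_facts1 (by omega) (by omega)
  by_cases h2 : i < 6000
  · exact factOK_of_factsOK twistCert_facts2 (by omega) (by omega)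
  by_cases h3 : i < 8000
  · exact factOK_of_factsOK twistCert_facts3 (by omega) (by omega)
  by_cases h4 : i < 10000
  · exact factOK_of_factsOK twistCert_facts4 (by omega) (by omega)
  by_cases h5 : i < 12000
  · exact factOK_of_factsOK twistCert_facts5 (by omega) (by omega)
  by_cases h6 : i < 12356
  · exact factOK_of_factsOK twistCert_facts6 (by omega) (by omega)
  omega

theorem twistCert_row_ok : ∀ c < twistCert.nLive, rowOK twistCert c = true := by
  intro c hc
  replace hc : c < 1920 := hc
  by_cases h0 : c < 1920
  · exact rowOK_of_rowsOK twistCert_rows0 (by omega) (by omega)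
  omega

theorem twistCert_live_zero : twistCert.live.get 15 0 = 0 := by decide +kernel

end Cfsg.Lib.J3Type
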