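import Cfsg.Agent.Lib.J3Type.Extra
import Cfsg.Agent.Lib.J3Type.CenWord
import Cfsg.Agent.Lib.J3Type.CenChecks
import Cfsg.Agent.Lib.J3Type.CenWords
import Cfsg.Agent.Lib.J3Type.SignAChecks
import Cfsg.Agent.Lib.J3Type.SignBChecks
import Cfsg.Agent.Lib.J3Type.TwistChecks

/-!
# Checks for the identification of the involution centralizer
-/

set_option autoImplicit false

namespace Cfsg.Lib.J3Type

/-- Pairs of an element and its inverse in the table of the extraspecial group. -/
def exPairs (l : List ℕ) : List (ℕ × ℕ) :=
  l.map fun c => (c, tmul extraCert extraW c (tmul extraCert extraW c c))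

/-- The composite of two automorphisms given by images: `L` after `M`. -/
def compI (L M : List (ℕ × ℕ)) : List (ℕ × ℕ) :=
  exPairs (M.map fun p => teval extraCert extraW L (unpackW extraCert 32 (tword extraW p.1)))

/-- The identity automorphism. -/
def idI : List (ℕ × ℕ) := exPairs extraGen

/-- The automorphisms of the letters `a`, `a⁻¹`, `b`, `b⁻¹`. -/
def letterI (l : ℕ) : List (ℕ × ℕ) :=
  let A := exPairs imgA
  let B := exPairs imgB
  bif Nat.beq l 0 then A else bif Nat.beq l 1 then compI A A
  else bif Nat.beq l 2 then B else compI (compI B B) (compI B B)

/-- The automorphism of a word. -/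
def actI : List ℕ → List (ℕ × ℕ)
  | [] => idI
  | l :: w => compI (letterI l) (actI w)

/-- Conjugation by an element in the table of the extraspecial group. -/
def conjI (q : ℕ × ℕ) : List (ℕ × ℕ) :=
  exPairs (extraGen.map fun c => tmul extraCert extraW (tmul extraCert extraW q.1 c) q.2)

/-- The letters of the words occurring in the compositions are in range. -/
def smallW (w : List ℕ) : Bool := w.all fun l => Nat.blt l 4

/-- A word with trivial value whenever `full` has one: some rotation of `full` reduces to the same. -/
def sameRule (full r : List ℕ) : Bool :=
  (List.range (full.length + 1)).any fun k => freeRed (full.drop k ++ full.take k) == freeRed r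

theorem wval_sameRule {G : Type*} [Group G] {g : ℕ → G} {full r : List ℕ} (hf : wval g full = 1)
    (h : sameRule full r = true) : wval g r = 1 := by
  obtain ⟨k, -, h⟩ := List.any_eq_true.1 h
  rw [beq_iff_eq] at h
  rw [← wval_freeRed r, ← h, wval_freeRed, wval_append]
  have h1 : wval g (full.take k) * wval g (full.drop k) = 1 := by
    rw [← wval_append, List.take_append_drop]; exact hf
  exact mul_eq_one_comm.1 h1

/-- The word for the central involution. -/
def wordZ : List ℕ := wordX ++ wordY ++ invW wordX ++ invW wordY

/-- The relators with signs, written in full. -/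
def fullRels (e f : Bool) : List (List ℕ) :=
  [cenRels.getD 0 [], cenRels.getD 1 [], cenRels.getD 2 [] ++ (bif e then wordZ else []),
    cenRels.getD 3 [] ++ (bif f then wordZ else []), wordZ ++ wordZ,
    wordZ ++ [0] ++ invW wordZ ++ [1], wordZ ++ [2] ++ invW wordZ ++ [3]]

theorem roots_ok : imgOK (exPairs rootA) = true ∧ imgOK (exPairs rootB) = true := by decide +kernel

theorem roots_sq : compI (exPairs rootA) (exPairs rootA) = exPairs imgA ∧
    compI (exPairs rootB) (exPairs rootB) = exPairs imgB := by decide +kernel

theorem rootWords_ok : ((rootA ++ rootB ++ imgA ++ imgB).all fun c => Nat.blt c 32) = true := by decide +kernel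

theorem extraGen_eq : ∀ j < 5, tstep extraCert 0 j = extraGen.getD j 0 := by decide +kernel

theorem letters_inv : (compI (exPairs imgA) (compI (exPairs imgA) (exPairs imgA)) = idI) ∧
    compI (compI (compI (exPairs imgB) (exPairs imgB)) (compI (exPairs imgB) (exPairs imgB))) (exPairs imgB) = idI := by
  decide +kernel

theorem rels_act : ∀ r ∈ cenRels, actI r = idI := by decide +kernel

theorem rels_small : ∀ r ∈ cenRels, smallW r = true := by decide +kernel

theorem words_act : ∀ j < 5, actI (extraWord.getD j []) = conjI ((idI).getD j (0, 0)) := by decide +kernel

theorem words_small : ∀ j < 5, smallW (extraWord.getD j []) = true := by decide +kernel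

theorem wordXY : wordX = extraWord.getD 0 [] ∧ wordY = extraWord.getD 1 [] := by decide +kernel

theorem rels_head : cenRels.take 2 = [[1, 1, 1], [2, 2, 2, 2, 2]] := by decide +kernel

theorem cenRules_ok : (cenCert.rules.all fun ws => ws.all fun w => isRule cenRels w) = true := by decide +kernel

theorem cenW_ok : wordsOK cenCert cenW = true := by decide +kernel

theorem cenW_gap : noGapOK cenCert cenW = true := by decide +kernel

theorem twistW_ok : wordsOK twistCert twistW = true := by decide +kernel

theorem twistW_gap : noGapOK twistCert twistW = true := by decide +kernel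

theorem signA_rules : (signA.rules.all fun ws => ws.all fun w => isRule signARels w) = true := by decide +kernel

theorem signB_rules : (signB.rules.all fun ws => ws.all fun w => isRule signBRels w) = true := by decide +kernel

theorem twist_rules : (twistCert.rules.all fun ws => ws.all fun w => isRule twistCertRels w) = true := by
  decide +kernel

theorem signA_same : (signARels.all fun r => (fullRels false true).any fun u => sameRule u r) = true := by
  decide +kernel

theorem signB_same : (signBRels.all fun r => (fullRels true false).any fun u => sameRule u r) = true := by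
  decide +kernel

theorem twist_same : (twistCertRels.all fun r => (fullRels true true).any fun u => sameRule u r) = true := by
  decide +kernel

/-- The generators of the centralizer in a table, with inverses. -/
def genI (C : Cert) : List (ℕ × ℕ) := [(tstep C 0 0, tstep C 0 1), (tstep C 0 2, tstep C 0 3)]

theorem twist_z : imgsOK twistCert twistW (genI twistCert) = true ∧ lettersOK 2 wordZ = true ∧
    teval twistCert twistW (genI twistCert) wordZ = twistZ ∧ twistE < twistCert.nLive ∧
    tmul twistCert twistW twistE twistE = 0 ∧ twistE ≠ twistZ ∧ twistE ≠ 0 := by decide +kernel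

theorem twist_invol : ((List.range 1920).all fun c =>
    !Nat.beq (tmul twistCert twistW c c) 0 || Nat.beq c 0 || Nat.beq c twistZ ||
      (List.range 1920).any fun d =>
        Nat.beq (tmul twistCert twistW d twistE) (tmul twistCert twistW c d)) = true := by decide +kernel

/-- The elements commuting with `twistE` with square `s`. -/
def twistRoots (s : ℕ) : List ℕ :=
  (List.range 1920).filter fun c => Nat.beq (tmul twistCert twistW c c) s &&
    Nat.beq (tmul twistCert twistW c twistE) (tmul twistCert twistW twistE c)

theorem twist_count : (twistRoots twistZ).length = 36 ∧ (twistRoots twistE).length = 12 := by decide +kernel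

theorem cen_z : imgsOK cenCert cenW (genI cenCert) = true ∧ lettersOK 2 wordZ = true ∧
    teval cenCert cenW (genI cenCert) wordZ = extraIn.getD 4 0 := by decide +kernel

end Cfsg.Lib.J3Type
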