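import Cfsg.Prelude.Def_Transfer
import Cfsg.Agent.Lib.J3Type.CenCheck
import Cfsg.Agent.S4413

/-!
# The involution centralizer `2^(1+4).A₅` in a group with one class of involutions
-/

set_option autoImplicit false
set_option linter.unusedSectionVars false

namespace Cfsg.Lib.J3Type

open Subgroup

variable {P : Type*} [Group P] [Finite P] {z : P} {q : ℕ → P}

theorem pow_three' {M : Type*} [Monoid M] (x : M) : x ^ 3 = x * (x * x) := by
  rw [pow_succ', pow_two]

theorem pow_four' {M : Type*} [Monoid M] (x : M) : x ^ 4 = x * x * (x * x) := by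
  rw [show (4 : ℕ) = 2 + 2 by rfl, pow_add, pow_two]

theorem pow_five' {M : Type*} [Monoid M] (x : M) : x ^ 5 = x * x * (x * x) * x := by
  rw [pow_succ, pow_four']

theorem gen_eq (B : Basis z q) {j : ℕ} (hj : j < 5) : trep extraCert q (extraGen.getD j 0) = q j := by
  have R := extra_valid B.rels
  obtain ⟨-, h⟩ := tstep_spec R (c := 0) (j := j) R.pos hj
  have hgen : ∀ i < 5, extraCert.gens.getD i idL = 2 * i := by decide
  rw [trep_zero R, one_mul, hgen j hj, extraGen_eq j hj, lval, if_neg (by show ¬ 30 ≤ 2 * j; omega),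
    if_pos (by omega), Nat.mul_div_cancel_left j (by norm_num)] at h
  exact h.symm

/-- An endomorphism is described by the images of the generators. -/
def Desc (q : ℕ → P) (φ : MulAut P) (L : List (ℕ × ℕ)) : Prop :=
  L.length = 5 ∧ imgsOK extraCert extraW L = true ∧ ∀ j < 5, φ (q j) = trep extraCert q (L.getD j (0, 0)).1

theorem getD_map {α β : Type*} (f : α → β) (l : List α) (a : α) (b : β) {j : ℕ} (hj : j < l.length) :
    (l.map f).getD j b = f (l.getD j a) := by
  rw [List.getD_eq_getElem _ _ (by simpa using hj), List.getD_eq_getElem _ _ hj, List.getElem_map]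

theorem exPairs_ok (B : Basis z q) {l : List ℕ} (hl : ∀ c ∈ l, c < 32) :
    imgsOK extraCert extraW (exPairs l) = true := by
  have h : ∀ c < 32, (Nat.blt c 32 && Nat.blt (tmul extraCert extraW c (tmul extraCert extraW c c)) 32 &&
      Nat.beq (tmul extraCert extraW c (tmul extraCert extraW c (tmul extraCert extraW c c))) 0) = true := by
    decide +kernel
  simp only [imgsOK, exPairs, List.all_map, List.all_eq_true]
  intro c hc
  exact h c (hl c hc)

theorem words_small32 : ∀ c < 32, lettersOK 5 (unpackW extraCert 32 (tword extraW c)) = true := by decide +kernel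

theorem desc_comp (B : Basis z q) {φ ψ : MulAut P} {L M : List (ℕ × ℕ)} (hφ : Desc q φ L) (hψ : Desc q ψ M) :
    Desc q (φ * ψ) (compI L M) := by
  have R := extra_valid B.rels
  obtain ⟨hl, hlo, hle⟩ := hφ
  obtain ⟨hm, hmo, hme⟩ := hψ
  have hb : ∀ p ∈ M, p.1 < 32 := by
    intro p hp
    have := List.all_eq_true.1 hmo p hp
    simp only [Bool.and_eq_true] at this
    exact Nat.lt_of_succ_le (Nat.le_of_ble_eq_true this.1.1)
  have key : ∀ c < 32, teval extraCert extraW L (unpackW extraCert 32 (tword extraW c)) < 32 ∧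
      φ (trep extraCert q c) = trep extraCert q (teval extraCert extraW L (unpackW extraCert 32 (tword extraW c))) := by
    intro c hc
    have hlt := words_small32 c hc
    rw [← hl] at hlt
    obtain ⟨h1, h2⟩ := teval_spec R extraW_ok extraW_gap hlo (g' := fun i => φ (q i))
      (fun i hi => hle i (hl ▸ hi)) hlt
    refine ⟨h1, ?_⟩
    rw [← h2, trep_word R extraW_ok extraW_gap (show c < extraCert.nLive from hc)]
    exact wval_map φ.toMonoidHom q _
  refine ⟨by simp [compI, exPairs, hm], exPairs_ok B ?_, fun j hj => ?_⟩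
  · intro c hc
    obtain ⟨p, hp, rfl⟩ := List.mem_map.1 hc
    exact (key _ (hb p hp)).1
  · rw [MulAut.mul_apply, hme j hj, compI, exPairs, List.map_map,
      getD_map _ _ (0, 0) _ (by omega)]
    refine (key _ ?_).2
    rw [List.getD_eq_getElem _ _ (by omega)]
    exact hb _ (List.getElem_mem _)

theorem desc_one (B : Basis z q) : Desc q (1 : MulAut P) idI := by
  refine ⟨by decide +kernel, by decide +kernel, fun j hj => ?_⟩
  rw [MulAut.one_apply, idI, exPairs, getD_map _ _ 0 _ (show j < extraGen.length from hj), gen_eq B hj]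

theorem desc_inj (B : Basis z q) {φ ψ : MulAut P} {L : List (ℕ × ℕ)} (hφ : Desc q φ L) (hψ : Desc q ψ L) :
    φ = ψ := by
  have R := extra_valid B.rels
  ext x
  obtain ⟨c, hc, rfl⟩ := B.full x
  have hlt := words_small32 c hc
  rw [← hφ.1] at hlt
  rw [trep_word R extraW_ok extraW_gap (show c < extraCert.nLive from hc)]
  have h1 := (teval_spec R extraW_ok extraW_gap hφ.2.1 (g' := fun i => φ (q i))
    (fun i hi => hφ.2.2 i (hφ.1 ▸ hi)) hlt).2
  have h2 := (teval_spec R extraW_ok extraW_gap hφ.2.1 (g' := fun i => ψ (q i))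
    (fun i hi => hψ.2.2 i (hφ.1 ▸ hi)) hlt).2
  exact ((wval_map φ.toMonoidHom q _).trans h1).trans (((wval_map ψ.toMonoidHom q _).trans h2).symm)

/-- The facts used about a centralizer `2^(1+4).A₅`. -/
structure Cen {G : Type*} [Group G] (t : G) (g : ℕ → G) : Prop where
  reg : Reg cenCert g
  full : ∀ x : G, x * t = t * x ↔ ∃ c < 1920, trep cenCert g c = x
  inj : ∀ c < 1920, ∀ d < 1920, trep cenCert g c = trep cenCert g d → c = d
  center : trep cenCert g (extraIn.getD 4 0) = t

theorem reg_of_rels {G : Type*} [Group G] {g : ℕ → G} (h : ∀ r ∈ cenRels, wval g r = 1) : Reg cenCert g where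
  valid := ⟨fun ws hws w hw => wval_isRule h
      (List.all_eq_true.1 (List.all_eq_true.1 cenRules_ok ws hws) w hw), fun s hs => by simp [cenCert] at hs⟩
  facts := cenCert_fact_ok
  rows := cenCert_row_ok
  zero := cenCert_live_zero
  pos := by show 0 < 1920; norm_num

theorem gens_two {G : Type*} [Group G] (g : ℕ → G) (C : Cert) (hC : C.gens = [0, 2] ∨ C.gens = [0, 1, 2, 3]) :
    closure {y | ∃ j < C.gens.length, lval g (C.gens.getD j idL) = y} = closure {g 0, g 1} := by
  refine le_antisymm ((closure_le _).2 ?_) ((closure_le _).2 ?_)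
  · rintro y ⟨j, hj, rfl⟩
    have h0 : g 0 ∈ closure {g 0, g 1} := subset_closure (by simp)
    have h1 : g 1 ∈ closure {g 0, g 1} := subset_closure (by simp)
    rcases hC with hC | hC <;> rw [hC] at hj ⊢ <;> simp only [List.length_cons, List.length_nil] at hj <;>
      interval_cases j <;> simp [lval, idL, h0, h1]
  · rintro y (rfl | rfl)
    · rcases hC with hC | hC <;> rw [hC] <;> exact subset_closure ⟨0, by decide, by simp [lval, idL]⟩
    · rcases hC with hC | hC <;> rw [hC]
      · exact subset_closure ⟨1, by decide, by simp [lval, idL]⟩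
      · exact subset_closure ⟨2, by decide, by simp [lval, idL]⟩

/-- The alternating group of degree five has no proper subgroup of order divisible by fifteen. -/
theorem a5_top (H : Subgroup (alternatingGroup (Fin 5))) (h3 : ∃ x ∈ H, orderOf x = 3)
    (h5 : ∃ x ∈ H, orderOf x = 5) : H = ⊤ := by
  classical
  obtain ⟨x, hx, hox⟩ := h3
  obtain ⟨y, hy, hoy⟩ := h5
  have h60 : Nat.card (alternatingGroup (Fin 5)) = 60 := by
    rw [Nat.card_eq_fintype_card]; decide +kernel
  have d3 : 3 ∣ Nat.card H := (dvd_of_eq hox.symm).trans (Subgroup.orderOf_dvd_natCard _ hx)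
  have d5 : 5 ∣ Nat.card H := (dvd_of_eq hoy.symm).trans (Subgroup.orderOf_dvd_natCard _ hy)
  have d15 : 15 ∣ Nat.card H := Nat.Coprime.mul_dvd_of_dvd_of_dvd (m := 3) (n := 5) (by norm_num) d3 d5
  have hmul := H.card_mul_index
  rw [h60] at hmul
  haveI : IsSimpleGroup (alternatingGroup (Fin 5)) := alternatingGroup.isSimpleGroup_five
  rcases (inferInstance : H.normalCore.Normal).eq_bot_or_eq_top with h | h
  · have hdvd : Nat.card (alternatingGroup (Fin 5)) ∣ Nat.card (Equiv.Perm (alternatingGroup (Fin 5) ⧸ H)) :=
      Subgroup.card_dvd_of_injective (MulAction.toPermHom (alternatingGroup (Fin 5)) _)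
        ((MonoidHom.ker_eq_bot_iff _).1 (by rw [← Subgroup.normalCore_eq_ker, h]))
    rw [Nat.card_perm, h60] at hdvd
    have hi : H.index ≤ 4 := by
      obtain ⟨k, hk⟩ := d15
      rw [hk] at hmul
      by_contra hlt
      rcases Nat.eq_zero_or_pos k with rfl | hk0
      · simp at hmul
      nlinarith
    rw [← Subgroup.index_eq_card] at hdvd
    exact absurd (Nat.le_of_dvd (Nat.factorial_pos _) hdvd) (by
      have := Nat.factorial_le hi
      norm_num [Nat.factorial] at this
      omega)
  · exact top_le_iff.1 (h ▸ H.normalCore_le)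

variable {G : Type*} [Group G] [Finite G] (t : G) (ht : orderOf t = 2)
  (Q : Subgroup (centralizer ({t} : Set G))) [Q.Normal] (hQ : Cfsg.IsExtraspecial 2 Q) (hcard : Nat.card Q = 32)
  (hminus : ∀ E : Subgroup Q, Cfsg.IsElementaryAbelian 2 E → Nat.card E ≤ 4)
  (h2c : centralizer (Q : Set (centralizer ({t} : Set G))) ≤ Q)
  (e : (centralizer ({t} : Set G)) ⧸ Q ≃* alternatingGroup (Fin 5))
  (hone : ∀ x y : G, orderOf x = 2 → orderOf y = 2 → IsConj x y)

include ht hQ hcard hminus h2c e hone in
/-- The centralizer is given by the table. -/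
theorem exists_cen : ∃ g : ℕ → G, Cen t g := by
  classical
  have htC : t ∈ (centralizer ({t} : Set G)) := mem_centralizer_singleton_iff.2 rfl
  set zC : (centralizer ({t} : Set G)) := ⟨t, htC⟩ with hzCdef
  have hzc : ∀ x : (centralizer ({t} : Set G)), Commute x zC := fun x => Subtype.ext (mem_centralizer_singleton_iff.1 x.2)
  have hzz : zC * zC = 1 := Subtype.ext (by show t * t = 1; rw [← pow_two, ← ht, pow_orderOf_eq_one])
  have hz1 : zC ≠ 1 := fun h => by
    have h' : t = 1 := congrArg Subtype.val h
    rw [h', orderOf_one] at ht; norm_num at ht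
  have hzQ : zC ∈ Q := h2c (mem_centralizer_iff.2 fun x _ => hzc x)
  set zP : Q := ⟨zC, hzQ⟩
  have hzP : zP ∈ center Q := mem_center_iff.2 fun x => Subtype.ext (hzc x)
  obtain ⟨q, B⟩ := exists_basis hQ hcard hminus hzP (fun h => hz1 (congrArg Subtype.val h))
  have R := extra_valid B.rels
  have hC1920 : Nat.card (centralizer ({t} : Set G)) = 1920 := by
    rw [card_eq_card_quotient_mul_card_subgroup Q, Nat.card_congr e.toEquiv, hcard, Nat.card_eq_fintype_card]
    decide +kernel
  let Θ : (centralizer ({t} : Set G)) →* MulAut Q := MulAut.conjNormal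
  have hΘ : ∀ (x : (centralizer ({t} : Set G))) (y : Q), (Θ x y : (centralizer ({t} : Set G))) = x * y * x⁻¹ := fun x y => MulAut.conjNormal_apply x y
  have hkerC : ∀ x : (centralizer ({t} : Set G)), Θ x = 1 → x = 1 ∨ x = zC := by
    intro x hx
    have hcx : ∀ y ∈ Q, y * x = x * y := fun y hy => by
      have := hΘ x ⟨y, hy⟩
      rw [hx, MulAut.one_apply] at this
      rw [eq_mul_inv_iff_mul_eq] at this
      exact this
    have hxQ : x ∈ Q := h2c (mem_centralizer_iff.2 hcx)
    have hxc : (⟨x, hxQ⟩ : Q) ∈ center Q := mem_center_iff.2 fun y => Subtype.ext (hcx y y.2)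
    obtain ⟨u, v, huv, heq⟩ := Nat.card_eq_two_iff.1 hQ.2
    have hm : ∀ w : center Q, w = u ∨ w = v := fun w => by
      have := (heq.symm ▸ Set.mem_univ w : w ∈ ({u, v} : Set (center Q)))
      simpa using this
    rcases hm ⟨_, hxc⟩ with h1 | h1 <;> rcases hm 1 with h2 | h2 <;> rcases hm ⟨zP, hzP⟩ with h3 | h3 <;>
      first
      | exact absurd (congrArg (fun w : center Q => ((w : Q) : (centralizer ({t} : Set G)))) (h3.trans h2.symm)) hz1
      | exact Or.inl (congrArg (fun w : center Q => ((w : Q) : (centralizer ({t} : Set G)))) (h1.trans h2.symm))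
      | exact Or.inr (congrArg (fun w : center Q => ((w : Q) : (centralizer ({t} : Set G)))) (h1.trans h3.symm))
  have hker : Nat.card Θ.ker = 2 := by
    rw [Nat.card_eq_two_iff]
    refine ⟨1, ⟨zC, MonoidHom.mem_ker.2 (MulEquiv.ext fun y => Subtype.ext ?_)⟩, fun h => hz1 ?_, ?_⟩
    · rw [hΘ, ← (hzc _).eq, mul_inv_cancel_right]; rfl
    · exact (congrArg Subtype.val h).symm
    · refine Set.eq_univ_of_forall fun x => ?_
      rcases hkerC x.1 (MonoidHom.mem_ker.1 x.2) with h | h
      · exact Or.inl (Subtype.ext h)
      · exact Or.inr (Subtype.ext h)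
  haveI : (MulAut.conj : Q →* MulAut Q).range.Normal := ⟨by
    rintro _ ⟨y, rfl⟩ φ
    exact ⟨φ y, by ext w; simp [MulAut.conj_apply]⟩⟩
  have hidx : Θ.range.index = 2 := by
    have h := Θ.range.card_mul_index
    have h' := Θ.ker.card_mul_index
    rw [Subgroup.index_ker, hker, hC1920] at h'
    rw [(Cfsg.Agent.S4413.result hQ hcard hminus).2.1] at h
    have : Nat.card Θ.range = 960 := by omega
    rw [this] at h
    omega
  have mk : ∀ (rt im : List ℕ), imgOK (exPairs rt) = true →
      compI (exPairs rt) (exPairs rt) = exPairs im → ∃ x : (centralizer ({t} : Set G)), Desc q (Θ x) (exPairs im) := by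
    intro rt im h1 h2
    obtain ⟨ρ, hρ⟩ := exists_aut B h1
    obtain ⟨x, hx⟩ := Subgroup.mul_self_mem_of_index_two hidx ρ
    simp only [imgOK, Bool.and_eq_true] at h1
    have hd : Desc q ρ (exPairs rt) := ⟨Nat.eq_of_beq_eq_true h1.1.1.1, h1.1.1.2, hρ⟩
    exact ⟨x, by rw [hx, ← h2]; exact desc_comp B hd hd⟩
  obtain ⟨α, hα⟩ := mk rootA imgA roots_ok.1 roots_sq.1
  obtain ⟨β, hβ⟩ := mk rootB imgB roots_ok.2 roots_sq.2
  have fixOrder : ∀ (x : (centralizer ({t} : Set G))) (k : ℕ), Θ (x ^ k) = 1 → k % 2 = 1 → ∃ y : (centralizer ({t} : Set G)), y ^ k = 1 ∧ Θ y = Θ x := by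
    intro x k hk hodd
    rcases hkerC _ hk with h | h
    · exact ⟨x, h, rfl⟩
    refine ⟨x * zC, ?_, ?_⟩
    · rw [(hzc x).mul_pow, h, ← Nat.div_add_mod k 2, hodd, pow_succ, pow_mul, pow_two, hzz, one_pow, one_mul]
      exact hzz
    · rw [map_mul, MonoidHom.mem_ker.1 (show zC ∈ Θ.ker from MonoidHom.mem_ker.2 (MulEquiv.ext fun y =>
        Subtype.ext (by rw [hΘ, ← (hzc _).eq, mul_inv_cancel_right]; rfl))), mul_one]
  have hα3 : Θ (α ^ 3) = 1 := by
    refine desc_inj B ?_ (desc_one B)
    rw [pow_three', map_mul, map_mul, ← letters_inv.1]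
    exact desc_comp B hα (desc_comp B hα hα)
  have hβ5 : Θ (β ^ 5) = 1 := by
    refine desc_inj B ?_ (desc_one B)
    rw [pow_five', map_mul, map_mul, map_mul, ← letters_inv.2]
    exact desc_comp B (desc_comp B (desc_comp B hβ hβ) (desc_comp B hβ hβ)) hβ
  obtain ⟨a, ha3, haΘ⟩ := fixOrder α 3 hα3 rfl
  obtain ⟨b, hb5, hbΘ⟩ := fixOrder β 5 hβ5 rfl
  rw [← haΘ] at hα
  rw [← hbΘ] at hβ
  let gC : ℕ → (centralizer ({t} : Set G)) := fun i => if i = 0 then a else b
  have hlet : ∀ l < 4, Desc q (Θ (lval gC l)) (letterI l) := by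
    intro l hl
    interval_cases l
    · simpa [lval, idL, gC, letterI] using hα
    · have e : lval gC 1 = a * a := by
        simp only [lval, idL, gC, show ¬ (30 ≤ 1) by omega, if_false, Nat.reduceMod, one_ne_zero, Nat.reduceDiv, if_true]
        exact inv_eq_of_mul_eq_one_right (by rw [← ha3, pow_three'])
      rw [e, map_mul]
      exact desc_comp B hα hα
    · simpa [lval, idL, gC, letterI, show Nat.beq 2 0 = false from rfl, show Nat.beq 2 1 = false from rfl] using hβ
    · have e : lval gC 3 = (b * b) * (b * b) := by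
        simp only [lval, idL, gC, show ¬ (30 ≤ 3) by omega, if_false, Nat.reduceMod, one_ne_zero, Nat.reduceDiv]
        exact inv_eq_of_mul_eq_one_right (by rw [← hb5, pow_five']; simp only [mul_assoc])
      rw [e, map_mul, map_mul]
      exact desc_comp B (desc_comp B hβ hβ) (desc_comp B hβ hβ)
  have hact : ∀ w, smallW w = true → Desc q (Θ (wval gC w)) (actI w) := by
    intro w
    induction w with
    | nil => intro _; rw [wval_nil, map_one]; exact desc_one B
    | cons l w ih =>
      intro h
      simp only [smallW, List.all_cons, Bool.and_eq_true] at h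
      rw [wval_cons, map_mul]
      exact desc_comp B (hlet l (Nat.lt_of_succ_le (Nat.le_of_ble_eq_true h.1))) (ih h.2)
  have hconj : ∀ j < 5, Desc q (Θ (q j : (centralizer ({t} : Set G)))) (conjI (idI.getD j (0, 0))) := by
    intro j hj
    have hg : ∀ i < 5, (idI.getD i (0, 0)).1 < 32 ∧ (idI.getD i (0, 0)).2 < 32 ∧
        tmul extraCert extraW (idI.getD i (0, 0)).1 (idI.getD i (0, 0)).2 = 0 ∧
        (idI.getD i (0, 0)).1 = extraGen.getD i 0 := by decide +kernel
    obtain ⟨h1, h2, h3, h4⟩ := hg j hj
    have hp : ∀ c < 32, ∀ d < 32, tmul extraCert extraW c d < 32 ∧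
        trep extraCert q (tmul extraCert extraW c d) = trep extraCert q c * trep extraCert q d :=
      fun c hc d hd => tmul_spec R extraW_ok extraW_gap hc hd
    have hgl : ∀ i < 5, extraGen.getD i 0 < 32 := by decide +kernel
    have hinv : (trep extraCert q (idI.getD j (0, 0)).1)⁻¹ = trep extraCert q (idI.getD j (0, 0)).2 :=
      inv_eq_of_mul_eq_one_right (by rw [← (hp _ h1 _ h2).2, h3, trep_zero R])
    refine ⟨by simp [conjI, exPairs]; rfl, exPairs_ok B ?_, fun i hi => ?_⟩
    · intro c hc
      obtain ⟨d, hd, rfl⟩ := List.mem_map.1 hc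
      have hd' : d < 32 := by
        have : ∀ x ∈ extraGen, x < 32 := by decide +kernel
        exact this d hd
      exact (hp _ (hp _ h1 _ hd').1 _ h2).1
    · apply Subtype.ext
      rw [hΘ, conjI, exPairs, List.map_map, getD_map _ _ 0 _ (show i < extraGen.length from hi)]
      simp only [Function.comp_apply]
      rw [(hp _ (hp _ h1 _ (hgl i hi)).1 _ h2).2, (hp _ h1 _ (hgl i hi)).2, gen_eq B hi, ← hinv, h4, gen_eq B hj]
      simp
  have hword : ∀ j < 5, wval gC (extraWord.getD j []) = (q j : (centralizer ({t} : Set G))) ∨ wval gC (extraWord.getD j []) = (q j : (centralizer ({t} : Set G))) * zC := by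
    intro j hj
    have h1 := hact _ (words_small j hj)
    rw [words_act j hj] at h1
    have h2 := desc_inj B h1 (hconj j hj)
    rcases hkerC ((q j : (centralizer ({t} : Set G)))⁻¹ * wval gC (extraWord.getD j [])) (by rw [map_mul, map_inv, h2, inv_mul_cancel]) with h | h
    · exact Or.inl (inv_mul_eq_one.1 h).symm
    · exact Or.inr (eq_mul_of_inv_mul_eq h)
  have hzW : wval gC wordZ = zC := by
    have hx := hword 0 (by norm_num)
    have hy := hword 1 (by norm_num)
    rw [← wordXY.1] at hx
    rw [← wordXY.2] at hy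
    have hcomm : (q 0 : (centralizer ({t} : Set G))) * (q 1 : (centralizer ({t} : Set G))) * (q 0 : (centralizer ({t} : Set G)))⁻¹ * (q 1 : (centralizer ({t} : Set G)))⁻¹ = zC := by
      have h := B.rels [0, 2, 1, 3, 9] (by decide +kernel)
      simp [wval, lval, idL] at h
      rw [← mul_assoc, ← mul_assoc, ← mul_assoc, mul_inv_eq_one, B.last] at h
      exact congrArg Subtype.val h
    rw [wordZ, wval_append, wval_append, wval_append, wval_invW, wval_invW]
    have hzi : zC⁻¹ = zC := inv_eq_of_mul_eq_one_right hzz
    have hcz : ∀ x : (centralizer ({t} : Set G)), x * zC = zC * x := fun x => (hzc x).eq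
    have pull : ∀ x y : (centralizer ({t} : Set G)), x * (zC * y) = zC * (x * y) := fun x y => by
      rw [← mul_assoc, hcz, mul_assoc]
    rcases hx with hx | hx <;> rcases hy with hy | hy <;> rw [hx, hy] <;>
      simp only [mul_inv_rev, hzi, hcz, mul_assoc, pull, ← mul_assoc zC zC, hzz, one_mul] <;>
      simpa only [mul_assoc] using hcomm
  have hrel : ∀ r ∈ cenRels, wval gC r = 1 ∨ wval gC r = zC := fun r hr =>
    hkerC _ (desc_inj B (by rw [← rels_act r hr]; exact hact r (rels_small r hr)) (desc_one B))
  set S := closure ({gC 0, gC 1} : Set (centralizer ({t} : Set G))) with hS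
  have hwS : ∀ w, smallW w = true → wval gC w ∈ S := by
    intro w
    induction w with
    | nil => intro _; exact one_mem _
    | cons l w ih =>
      intro h
      simp only [smallW, List.all_cons, Bool.and_eq_true] at h
      rw [wval_cons]
      refine mul_mem ?_ (ih h.2)
      have hl : l < 4 := Nat.lt_of_succ_le (Nat.le_of_ble_eq_true h.1)
      interval_cases l <;> simp [lval, idL] <;> exact subset_closure (by simp)
  have hzS : zC ∈ S := hzW ▸ hwS _ (by decide +kernel)
  have hQS : Q ≤ S := by
    have hgen : ∀ j < 5, (q j : (centralizer ({t} : Set G))) ∈ S := fun j hj => by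
      rcases hword j hj with h | h
      · exact h ▸ hwS _ (words_small j hj)
      · have := mul_mem (hwS _ (words_small j hj)) hzS
        rwa [h, mul_assoc, hzz, mul_one] at this
    intro x hx
    obtain ⟨c, hc, hcx⟩ := B.full ⟨x, hx⟩
    rw [trep_word R extraW_ok extraW_gap (show c < extraCert.nLive from hc)] at hcx
    have hx' : x = wval (fun i => (q i : (centralizer ({t} : Set G)))) (unpackW extraCert 32 (tword extraW c)) :=
      (congrArg Subtype.val hcx).symm.trans (wval_map Q.subtype q _)
    rw [hx']
    have hlt := words_small32 c hc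
    clear hx' hcx
    generalize unpackW extraCert 32 (tword extraW c) = w at hlt ⊢
    induction w with
    | nil => exact one_mem _
    | cons l w ih =>
      simp only [lettersOK, List.all_cons, Bool.and_eq_true] at hlt
      rw [wval_cons]
      refine mul_mem ?_ (ih hlt.2)
      have hl : l < 2 * 5 := Nat.lt_of_succ_le (Nat.le_of_ble_eq_true hlt.1.1)
      unfold lval
      split
      · exact one_mem _
      split
      · exact hgen _ (by omega)
      · exact inv_mem (hgen _ (by omega))
  have hStop : S = ⊤ := by
    set π : (centralizer ({t} : Set G)) →* alternatingGroup (Fin 5) := e.toMonoidHom.comp (QuotientGroup.mk' Q) with hπ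
    have hπk : ∀ x, π x = 1 ↔ x ∈ Q := fun x => by
      rw [hπ]; simp
    have hπo : ∀ (x : (centralizer ({t} : Set G))) (p : ℕ) [Fact p.Prime], x ^ p = 1 → x ∉ Q → orderOf (π x) = p := fun x p _ h hn =>
      orderOf_eq_prime (by rw [← map_pow, h, map_one]) fun h' => hn ((hπk x).1 h')
    have hne : ∀ (x : (centralizer ({t} : Set G))) (L : List (ℕ × ℕ)), Desc q (Θ x) L → x ^ 2 ≠ 1 → ∀ k, x ^ k = 1 → k % 2 = 1 → x ∉ Q := by
      intro x L _ h2 k hk hodd hxQ
      have h4 : x ^ 4 = 1 := by
        obtain ⟨c, hc, hcx⟩ := B.full ⟨x, hxQ⟩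
        have hp : ∀ d < 32, tmul extraCert extraW (tmul extraCert extraW d d) (tmul extraCert extraW d d) = 0 := by
          decide +kernel
        obtain ⟨a1, a2⟩ := tmul_spec R extraW_ok extraW_gap (show c < extraCert.nLive from hc) (show c < extraCert.nLive from hc)
        have := (tmul_spec R extraW_ok extraW_gap a1 a1).2
        rw [hp c hc, trep_zero R, a2, hcx] at this
        have := congrArg (fun y : Q => (y : (centralizer ({t} : Set G)))) this.symm
        rw [pow_four']
        simpa using this
      apply h2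
      have hdvd : orderOf x ∣ Nat.gcd 4 k := Nat.dvd_gcd (orderOf_dvd_of_pow_eq_one h4) (orderOf_dvd_of_pow_eq_one hk)
      have : Nat.gcd 4 k = 1 := by
        have h2k : Nat.Coprime 2 k := Nat.prime_two.coprime_iff_not_dvd.2 (by omega)
        exact (Nat.Coprime.pow_left 2 h2k)
      rw [this, Nat.dvd_one, orderOf_eq_one_iff] at hdvd
      rw [hdvd, one_pow]
    haveI : Fact (Nat.Prime 3) := ⟨by norm_num⟩
    haveI : Fact (Nat.Prime 5) := ⟨by norm_num⟩
    have hane : a ^ 2 ≠ 1 := fun h => by
      have : a = 1 := by
        rw [pow_two] at h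
        rw [pow_three', h, mul_one] at ha3
        exact ha3
      rw [this, map_one] at hα
      have key : ∀ j < 5, (idI.getD j (0, 0)).1 = ((exPairs imgA).getD j (0, 0)).1 := fun j hj => by
        refine B.inj _ ?_ _ ?_ ((desc_one B).2.2 j hj |>.symm.trans (hα.2.2 j hj))
        · revert j; decide +kernel
        · revert j; decide +kernel
      revert key
      decide +kernel
    have hbne : b ^ 2 ≠ 1 := fun h => by
      have : b = 1 := by
        rw [pow_two] at h
        rw [pow_five', h, one_mul, one_mul] at hb5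
        exact hb5
      rw [this, map_one] at hβ
      have key : ∀ j < 5, (idI.getD j (0, 0)).1 = ((exPairs imgB).getD j (0, 0)).1 := fun j hj => by
        refine B.inj _ ?_ _ ?_ ((desc_one B).2.2 j hj |>.symm.trans (hβ.2.2 j hj))
        · revert j; decide +kernel
        · revert j; decide +kernel
      revert key
      decide +kernel
    have himg := a5_top (S.map π)
      ⟨π a, mem_map_of_mem π (subset_closure (by simp [gC])), hπo a 3 ha3 (hne a _ hα hane 3 ha3 rfl)⟩
      ⟨π b, mem_map_of_mem π (subset_closure (by simp [gC])), hπo b 5 hb5 (hne b _ hβ hbne 5 hb5 rfl)⟩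
    rw [eq_top_iff]
    intro x _
    obtain ⟨s, hs, hsx⟩ := himg.ge (mem_top (π x))
    have : s⁻¹ * x ∈ Q := (hπk _).1 (by rw [map_mul, map_inv, hsx, inv_mul_cancel])
    simpa using mul_mem hs (hQS this)
  have hfull : ∀ e f : Bool, wval gC (cenRels.getD 2 []) = (bif e then zC else 1) →
      wval gC (cenRels.getD 3 []) = (bif f then zC else 1) → ∀ u ∈ fullRels e f, wval gC u = 1 := by
    intro e f he hf u hu
    have h0 : ∀ l : ℕ, ∀ x, wval gC [l] = x → x = lval gC l := fun l x h => by
      rw [← h]; simp [wval]
    simp only [fullRels, List.mem_cons, List.not_mem_nil, or_false] at hu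
    rcases hu with rfl | rfl | rfl | rfl | rfl | rfl | rfl
    · show wval gC [1, 1, 1] = 1
      simp [wval, lval, idL, gC, ← mul_inv_rev]
      rw [← ha3, pow_three']; simp only [mul_assoc]
    · show wval gC [2, 2, 2, 2, 2] = 1
      simp [wval, lval, idL, gC]
      rw [← hb5, pow_five']; simp only [mul_assoc]
    · rw [wval_append, he]; cases e <;> simp [wval_nil, hzW, hzz]
    · rw [wval_append, hf]; cases f <;> simp [wval_nil, hzW, hzz]
    · rw [wval_append, hzW, hzz]
    · rw [wval_append, wval_append, wval_append, wval_invW, hzW, wval_cons, wval_cons, wval_nil]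
      simp [lval, idL, gC]
      rw [← (hzc a).eq]; group
    · rw [wval_append, wval_append, wval_append, wval_invW, hzW, wval_cons, wval_cons, wval_nil]
      simp [lval, idL, gC]
      rw [← (hzc b).eq]; group
  have regS : ∀ (K : Cert) (Rr : List (List ℕ)) (ee ff : Bool),
      wval gC (cenRels.getD 2 []) = (bif ee then zC else 1) →
      wval gC (cenRels.getD 3 []) = (bif ff then zC else 1) →
      (K.rules.all fun ws => ws.all fun w => isRule Rr w) = true →
      (Rr.all fun r => (fullRels ee ff).any fun u => sameRule u r) = true →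
      K.subs = [] → Valid K gC (⊥ : Subgroup (centralizer ({t} : Set G))) := by
    intro K Rr ee ff he hf h1 h2 h3
    refine ⟨fun ws hws w hw => wval_isRule (fun r hr => ?_)
      (List.all_eq_true.1 (List.all_eq_true.1 h1 ws hws) w hw), fun s hs => by simp [h3] at hs⟩
    obtain ⟨u, hu, hsame⟩ := List.any_eq_true.1 (List.all_eq_true.1 h2 r hr)
    exact wval_sameRule (hfull ee ff he hf u hu) hsame
  have hbig : ∀ K : Cert, (K.gens = [0, 2] ∨ K.gens = [0, 1, 2, 3]) →
      Nat.card ↥(closure {y | ∃ j < K.gens.length, lval gC (K.gens.getD j idL) = y}) = 1920 := fun K hK => by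
    rw [gens_two gC K hK, ← hS, hStop, card_top, hC1920]
  have r2 := hrel (cenRels.getD 2 []) (by decide +kernel)
  have r3 := hrel (cenRels.getD 3 []) (by decide +kernel)
  have small : ∀ (K : Cert) (Rr : List (List ℕ)) (ee ff : Bool),
      wval gC (cenRels.getD 2 []) = (bif ee then zC else 1) →
      wval gC (cenRels.getD 3 []) = (bif ff then zC else 1) →
      (K.rules.all fun ws => ws.all fun w => isRule Rr w) = true →
      (Rr.all fun r => (fullRels ee ff).any fun u => sameRule u r) = true → K.subs = [] →
      (∀ i < K.nFacts, factOK K i = true) → (∀ c < K.nLive, rowOK K c = true) →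
      K.live.get 15 0 = 0 → K.gens = [0, 2] → 0 < K.nLive → K.nLive < 1920 → False := by
    intro K Rr ee ff he hf h1 h2 h3 h4 h5 h6 h7 h8 h9
    have := card_closure_le (regS K Rr ee ff he hf h1 h2 h3) h4 h6 h5 h8
    rw [hbig K (Or.inl h7), card_bot, mul_one] at this
    omega
  rcases r2 with r2 | r2 <;> rcases r3 with r3 | r3
  · -- the split case
    have hrels : ∀ r ∈ cenRels, wval gC r = 1 := by
      intro r hr
      have hl : cenRels = [cenRels.getD 0 [], cenRels.getD 1 [], cenRels.getD 2 [], cenRels.getD 3 []] := rfl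
      rw [hl] at hr
      simp only [List.mem_cons, List.not_mem_nil, or_false] at hr
      rcases hr with rfl | rfl | rfl | rfl
      · exact hfull false false r2 r3 _ (by simp [fullRels])
      · exact hfull false false r2 r3 _ (by simp [fullRels])
      · exact r2
      · exact r3
    have RC := reg_of_rels hrels
    let gG : ℕ → G := fun i => (gC i : G)
    have hmap : ∀ c, trep cenCert gG c = (Subtype.val (trep cenCert gC c) : G) := by
      intro c
      unfold trep rep
      generalize cenCert.live.get 15 c = n
      have : ∀ fuel k, repF cenCert gG fuel k = (Subtype.val (repF cenCert gC fuel k) : G) := by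
        intro fuel
        induction fuel with
        | zero => intro k; rfl
        | succ m ih =>
          intro k
          simp only [repF]
          split
          · rw [ih, Subgroup.coe_mul]
            congr 1
            unfold lval
            split <;> [rfl; (split <;> simp [gG])]
          · rfl
      exact this n n
    have hg : ∀ r ∈ cenRels, wval gG r = 1 := fun r hr => by
      exact (wval_map (centralizer ({t} : Set G)).subtype gC r).symm.trans (by rw [hrels r hr, map_one])
    refine ⟨gG, reg_of_rels hg, fun x => ⟨fun hx => ?_, ?_⟩, fun c hc d hd h => ?_, ?_⟩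
    · obtain ⟨c, hc, hcx⟩ := exists_trep RC (x := (⟨x, mem_centralizer_singleton_iff.2 hx⟩ : (centralizer ({t} : Set G))))
        (by rw [gens_two gC cenCert (Or.inr rfl), ← hS, hStop]; exact mem_top _)
      exact ⟨c, hc, by rw [hmap, hcx]⟩
    · rintro ⟨c, -, rfl⟩
      rw [hmap]
      exact mem_centralizer_singleton_iff.1 (trep cenCert gC c).2
    · refine trep_inj RC (by rw [hbig cenCert (Or.inr rfl)]; exact le_rfl) hc hd (Subtype.ext ?_)
      rw [← hmap, ← hmap, h]
    · rw [hmap]
      obtain ⟨h1, h2, h3⟩ := cen_z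
      have := (teval_spec RC cenW_ok cenW_gap h1 (g' := gC) (fun i hi => by
        have hi' : i < 2 := hi
        interval_cases i
        · have h := (tstep_spec RC (c := 0) (j := 0) RC.pos (by decide)).2
          rw [trep_zero RC, one_mul] at h
          exact (show gC 0 = lval gC (cenCert.gens.getD 0 idL) by simp [lval, idL, cenCert]).trans h
        · have h := (tstep_spec RC (c := 0) (j := 2) RC.pos (by decide)).2
          rw [trep_zero RC, one_mul] at h
          exact (show gC 1 = lval gC (cenCert.gens.getD 2 idL) by simp [lval, idL, cenCert]).trans h) h2).2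
      rw [hzW, h3] at this
      rw [← this]
  · exact (small signA signARels false true r2 r3 signA_rules signA_same rfl signA_fact_ok signA_row_ok
      signA_live_zero rfl (by decide) (by decide)).elim
  · exact (small signB signBRels true false r2 r3 signB_rules signB_same rfl signB_fact_ok signB_row_ok
      signB_live_zero rfl (by decide) (by decide)).elim
  · -- the twisted case has too many roots of the centre
    exfalso
    have RT : Reg twistCert gC := ⟨regS twistCert twistCertRels true true r2 r3 twist_rules twist_same rfl,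
      twistCert_fact_ok, twistCert_row_ok, twistCert_live_zero, by decide⟩
    have hnl : twistCert.nLive = 1920 := rfl
    have full : ∀ x : (centralizer ({t} : Set G)), ∃ c < 1920, trep twistCert gC c = x := fun x =>
      exists_trep RT (by rw [gens_two gC twistCert (Or.inr rfl), ← hS, hStop]; exact mem_top _)
    have inj : ∀ c < 1920, ∀ d < 1920, trep twistCert gC c = trep twistCert gC d → c = d := fun c hc d hd h =>
      trep_inj RT (by rw [hbig twistCert (Or.inr rfl)]; exact le_rfl) hc hd h
    have mul : ∀ c < 1920, ∀ d < 1920, tmul twistCert twistW c d < 1920 ∧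
        trep twistCert gC (tmul twistCert twistW c d) = trep twistCert gC c * trep twistCert gC d :=
      fun c hc d hd => tmul_spec RT twistW_ok twistW_gap hc hd
    obtain ⟨h1, h2, h3, hE, hE2, hEz, hE0⟩ := twist_z
    obtain ⟨hZlt, hZ⟩ := teval_spec RT twistW_ok twistW_gap h1 (g' := gC) (fun i hi => by
      have hi' : i < 2 := hi
      interval_cases i
      · have h := (tstep_spec RT (c := 0) (j := 0) RT.pos (by decide)).2
        rw [trep_zero RT, one_mul] at h
        exact (show gC 0 = lval gC (twistCert.gens.getD 0 idL) by simp [lval, idL, twistCert]).trans h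
      · have h := (tstep_spec RT (c := 0) (j := 2) RT.pos (by decide)).2
        rw [trep_zero RT, one_mul] at h
        exact (show gC 1 = lval gC (twistCert.gens.getD 2 idL) by simp [lval, idL, twistCert]).trans h) h2
    rw [h3] at hZlt hZ
    rw [hzW] at hZ
    set E := trep twistCert gC twistE with hEdef
    have hEE : E * E = 1 := by rw [← (mul _ hE _ hE).2, hE2, trep_zero RT]
    have hE1 : E ≠ 1 := fun h => hE0 (inj _ hE 0 (by norm_num) (h.trans (trep_zero RT).symm))
    have ho : orderOf (E : G) = 2 := by
      rw [Subgroup.orderOf_coe]; exact orderOf_eq_prime (by rw [pow_two, hEE]) hE1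
    obtain ⟨g₀, hg₀⟩ := isConj_iff.1 (hone t (E : G) ht ho)
    -- move the conjugating element so that it swaps `t` and `E`
    set y : G := g₀⁻¹ * t * g₀ with hy
    have hEt : Commute (E : G) t := mem_centralizer_singleton_iff.1 E.2
    have hyt : Commute y t := by
      have : Commute (g₀ * y * g₀⁻¹) (g₀ * t * g₀⁻¹) := by
        rw [hg₀, hy, show g₀ * (g₀⁻¹ * t * g₀) * g₀⁻¹ = t by group]; exact hEt.symm
      have h' := this.map (MulAut.conj g₀⁻¹).toMonoidHom
      simpa [MulAut.conj_apply, mul_assoc] using h'
    set yC : (centralizer ({t} : Set G)) := ⟨y, mem_centralizer_singleton_iff.2 hyt.eq⟩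
    obtain ⟨c, hc, hcy⟩ := full yC
    have hyy : yC * yC = 1 := Subtype.ext (by
      show g₀⁻¹ * t * g₀ * (g₀⁻¹ * t * g₀) = 1
      have : t * t = 1 := by rw [← pow_two, ← ht, pow_orderOf_eq_one]
      calc g₀⁻¹ * t * g₀ * (g₀⁻¹ * t * g₀) = g₀⁻¹ * (t * t) * g₀ := by group
        _ = 1 := by rw [this]; group)
    have hyz : c ≠ twistZ := fun h => by
      rw [h, ← hZ] at hcy
      have h' : t = g₀⁻¹ * t * g₀ := congrArg Subtype.val hcy
      have : (E : G) = t := by
        rw [← hg₀]
        calc g₀ * t * g₀⁻¹ = g₀ * (g₀⁻¹ * t * g₀) * g₀⁻¹ := by rw [← h']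
          _ = t := by group
      exact hEz (inj _ hE _ hZlt ((Subtype.ext this : E = zC).trans hZ))
    have hy0 : c ≠ 0 := fun h => by
      rw [h, trep_zero RT] at hcy
      have h' : (1 : G) = g₀⁻¹ * t * g₀ := congrArg Subtype.val hcy
      exact hz1 (Subtype.ext (by
        show t = 1
        calc t = g₀ * (g₀⁻¹ * t * g₀) * g₀⁻¹ := by group
          _ = 1 := by rw [← h']; group))
    have hc2 : tmul twistCert twistW c c = 0 := inj _ (mul c hc c hc).1 0 (by norm_num)
      (by rw [(mul c hc c hc).2, hcy, hyy, trep_zero RT])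
    have hex := List.all_eq_true.1 twist_invol c (List.mem_range.2 hc)
    simp only [Bool.or_eq_true, Bool.not_eq_true', List.any_eq_true, List.mem_range] at hex
    rcases hex with ((hex | hex) | hex) | ⟨d, hd, hde⟩
    · rw [hc2] at hex; exact Bool.noConfusion hex
    · exact hy0 (Nat.eq_of_beq_eq_true hex)
    · exact hyz (Nat.eq_of_beq_eq_true hex)
    have hdy : trep twistCert gC d * E = yC * trep twistCert gC d := by
      rw [← (mul d hd _ hE).2, Nat.eq_of_beq_eq_true hde, (mul c hc d hd).2, hcy]
    set h := g₀ * (Subtype.val (trep twistCert gC d) : G) with hh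
    have hd_t : Commute (Subtype.val (trep twistCert gC d) : G) t := mem_centralizer_singleton_iff.1 (trep twistCert gC d).2
    have hht : h * t * h⁻¹ = (E : G) := by
      rw [hh, ← hg₀]
      calc g₀ * (Subtype.val (trep twistCert gC d) : G) * t * (g₀ * (Subtype.val (trep twistCert gC d) : G))⁻¹
          = g₀ * ((Subtype.val (trep twistCert gC d) : G) * t * (Subtype.val (trep twistCert gC d) : G)⁻¹) * g₀⁻¹ := by group
        _ = g₀ * t * g₀⁻¹ := by rw [hd_t.eq, mul_inv_cancel_right]
    have hhE : h * (E : G) * h⁻¹ = t := by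
      have h' : (Subtype.val (trep twistCert gC d) : G) * (E : G) = g₀⁻¹ * t * g₀ * (Subtype.val (trep twistCert gC d) : G) :=
        congrArg Subtype.val hdy
      rw [hh]
      calc g₀ * (Subtype.val (trep twistCert gC d) : G) * (E : G) * (g₀ * (Subtype.val (trep twistCert gC d) : G))⁻¹
          = g₀ * ((Subtype.val (trep twistCert gC d) : G) * (E : G)) * (Subtype.val (trep twistCert gC d) : G)⁻¹ * g₀⁻¹ := by group
        _ = t := by rw [h']; group
    have hroot : ∀ x ∈ twistRoots twistZ, ∃ x' ∈ twistRoots twistE,
        h * (Subtype.val (trep twistCert gC x) : G) * h⁻¹ = (Subtype.val (trep twistCert gC x') : G) := by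
      intro x hx
      simp only [twistRoots, List.mem_filter, List.mem_range, Bool.and_eq_true] at hx
      obtain ⟨hx, hsq, hcm⟩ := hx
      have hxE : Commute (trep twistCert gC x) E := by
        show _ * _ = _ * _
        rw [← (mul x hx _ hE).2, ← (mul _ hE x hx).2, Nat.eq_of_beq_eq_true hcm]
      have hxx : trep twistCert gC x * trep twistCert gC x = zC := by
        rw [← (mul x hx x hx).2, Nat.eq_of_beq_eq_true hsq, hZ]
      have hxt : h * (Subtype.val (trep twistCert gC x) : G) * h⁻¹ ∈ (centralizer ({t} : Set G)) := mem_centralizer_singleton_iff.2 (by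
        have := (hxE.map (centralizer ({t} : Set G)).subtype).map (MulAut.conj h).toMonoidHom
        simpa [MulAut.conj_apply, hhE] using this.eq)
      obtain ⟨x', hx', hx'e⟩ := full ⟨_, hxt⟩
      refine ⟨x', ?_, (congrArg Subtype.val hx'e).symm⟩
      simp only [twistRoots, List.mem_filter, List.mem_range, Bool.and_eq_true]
      refine ⟨hx', ?_, ?_⟩
      · have he : trep twistCert gC x' * trep twistCert gC x' = E := by
          rw [hx'e]; apply Subtype.ext
          show h * (Subtype.val (trep twistCert gC x) : G) * h⁻¹ * (h * (Subtype.val (trep twistCert gC x) : G) * h⁻¹) = (E : G)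
          have h2 : (Subtype.val (trep twistCert gC x) : G) * (Subtype.val (trep twistCert gC x) : G) = t := congrArg Subtype.val hxx
          calc h * (Subtype.val (trep twistCert gC x) : G) * h⁻¹ * (h * (Subtype.val (trep twistCert gC x) : G) * h⁻¹)
              = h * ((Subtype.val (trep twistCert gC x) : G) * (Subtype.val (trep twistCert gC x) : G)) * h⁻¹ := by group
            _ = h * t * h⁻¹ := congrArg (fun w => h * w * h⁻¹) h2
            _ = (E : G) := hht
        rw [inj _ (mul x' hx' x' hx').1 _ hE ((mul x' hx' x' hx').2.trans he)]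
        exact Nat.beq_refl _
      · have he : trep twistCert gC x' * E = E * trep twistCert gC x' := by
          rw [hx'e]; apply Subtype.ext
          show h * (Subtype.val (trep twistCert gC x) : G) * h⁻¹ * (E : G) = (E : G) * (h * (Subtype.val (trep twistCert gC x) : G) * h⁻¹)
          have h2 : (Subtype.val (trep twistCert gC x) : G) * t = t * (Subtype.val (trep twistCert gC x) : G) :=
            mem_centralizer_singleton_iff.1 (trep twistCert gC x).2
          rw [← hht]
          calc h * (Subtype.val (trep twistCert gC x) : G) * h⁻¹ * (h * t * h⁻¹) = h * ((Subtype.val (trep twistCert gC x) : G) * t) * h⁻¹ := by group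
            _ = _ := by rw [h2]; group
        rw [inj _ (mul x' hx' _ hE).1 _ (mul _ hE x' hx').1 (by rw [(mul x' hx' _ hE).2, (mul _ hE x' hx').2, he])]
        exact Nat.beq_refl _
    choose! f hf hfe using hroot
    have hnd : (twistRoots twistZ).Nodup := List.Nodup.filter _ List.nodup_range
    have hle : (twistRoots twistZ).length ≤ (twistRoots twistE).length := by
      rw [← List.toFinset_card_of_nodup hnd]
      refine le_trans (Finset.card_le_card_of_injOn (t := (twistRoots twistE).toFinset) f
        (fun x hx => ?_) ?_) (List.toFinset_card_le _)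
      · rw [Finset.mem_coe, List.mem_toFinset] at hx
        rw [Finset.mem_coe, List.mem_toFinset]
        exact hf x hx
      · intro x hx y hy hxy
        rw [Finset.mem_coe, List.mem_toFinset] at hx hy
        have e1 := hfe x hx
        rw [hxy, ← hfe y hy] at e1
        have e2 : trep twistCert gC x = trep twistCert gC y := Subtype.ext (mul_left_cancel (mul_right_cancel e1))
        have hb : ∀ w ∈ twistRoots twistZ, w < 1920 := fun w hw => by
          simp only [twistRoots, List.mem_filter, List.mem_range] at hw; exact hw.1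
        exact inj x (hb x hx) y (hb y hy) e2
    rw [twist_count.1, twist_count.2] at hle
    omega

end Cfsg.Lib.J3Type
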