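import Cfsg.Agent.Lib.JThree.Outer
import Cfsg.Agent.Lib.JThree.InvolShape
import Mathlib.GroupTheory.Transfer

/-!
# A copy of `J₃` containing the centralizers of its involutions is everything
-/

set_option autoImplicit false
set_option linter.unusedSectionVars false
set_option linter.style.haveILetI false
set_option maxRecDepth 100000

namespace Cfsg.Lib.J3Type

open Subgroup Cfsg.Spor

theorem sylow_count : ∀ e ∈ [1, 3, 5, 9, 15], ∀ m ∈ [19, 57, 171],
    392445 / e % m = 0 → 392445 / e / m % 19 = 1 → e = 15 ∧ m = 171 := by decide +kernel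

theorem small_divisors : ∀ e < 16, 392445 % e = 0 → e ∈ [1, 3, 5, 9, 15] := by decide +kernel

theorem divisors_1539 : ∀ e < 1540, 1539 % e = 0 → e % 17 = 1 → e = 1 ∨ e = 171 := by decide +kernel

theorem divisors_81 : ∀ e < 82, 81 % e = 0 → e % 19 = 1 → e = 1 := by decide +kernel

/-- An element of odd order acting on a group of order seventeen centralizes it. -/
theorem seventeen_fix {D : Type*} [Group D] [Finite D] (Q : Subgroup D) (hQ : Nat.card Q = 17) {x : D}
    (hx : x ∈ normalizer (Q : Set D)) (hodd : Odd (orderOf x)) : ∀ q ∈ Q, x * q = q * x := by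
  haveI : Fact (Nat.Prime 17) := ⟨by norm_num⟩
  haveI : IsCyclic Q := isCyclic_of_prime_card hQ
  let ψ := Q.normalizerMonoidHom
  have h1 : orderOf (ψ ⟨x, hx⟩) ∣ 16 := by
    have h := orderOf_dvd_natCard (ψ ⟨x, hx⟩)
    rwa [IsCyclic.card_mulAut Q, hQ, Nat.totient_prime (by norm_num)] at h
  have h2 : orderOf (ψ ⟨x, hx⟩) ∣ orderOf x := by
    rw [← orderOf_mk x hx]
    exact orderOf_map_dvd ψ _
  have h3 : orderOf (ψ ⟨x, hx⟩) = 1 := by
    refine Nat.eq_one_of_dvd_coprimes ?_ h1 h2
    exact Nat.Coprime.pow_left 4 (Nat.coprime_two_left.2 hodd)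
  have hk : (⟨x, hx⟩ : normalizer (Q : Set D)) ∈ ψ.ker := orderOf_eq_one_iff.1 h3
  rw [Subgroup.normalizerMonoidHom_ker, mem_subgroupOf] at hk
  intro q hq
  exact ((mem_centralizer_iff.1 hk) q hq).symm

/-- There is no group of odd order at least 26163 with these local properties. -/
theorem no_odd_group {D : Type*} [Group D] [Finite D] {m : ℕ} (hm : m = Nat.card D)
    (hodd : m ∣ 392445) (hbig : 26163 ≤ m)
    (hC : ∀ x : D, orderOf x = 19 → Nat.card (centralizer ({x} : Set D)) = 19) : False := by
  classical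
  haveI : Fact (Nat.Prime 19) := ⟨by norm_num⟩
  haveI : Fact (Nat.Prime 17) := ⟨by norm_num⟩
  obtain ⟨e, he⟩ := hodd
  have he' : e < 16 := by
    rcases Nat.lt_or_ge e 16 with h | h
    · exact h
    · have h2 := Nat.mul_le_mul hbig h
      rw [← he] at h2
      omega
  have he0 : 0 < e := Nat.pos_of_ne_zero fun h => by rw [h, Nat.mul_zero] at he; norm_num at he
  have hemem : e ∈ [1, 3, 5, 9, 15] := small_divisors e he' (Nat.mod_eq_zero_of_dvd ⟨m, by rw [he, mul_comm]⟩)
  have hdiv : 392445 / e = m := by rw [he, Nat.mul_div_cancel _ he0]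
  have oddOrd : ∀ x : D, Odd (orderOf x) := fun x =>
    Odd.of_dvd_nat (by decide : Odd 392445) ((orderOf_dvd_natCard x).trans (hm ▸ ⟨e, he⟩))
  -- the Sylow 19-subgroups
  obtain ⟨P⟩ := (inferInstance : Nonempty (Sylow 19 D))
  have h19 : 19 ∣ m := by
    simp only [List.mem_cons, List.not_mem_nil, or_false] at hemem
    rcases hemem with rfl | rfl | rfl | rfl | rfl <;> norm_num at hdiv <;> rw [← hdiv] <;> norm_num
  obtain ⟨x, hxP, hx⟩ : ∃ x : D, x ∈ (P : Subgroup D) ∧ orderOf x = 19 := by
    obtain ⟨y, hy⟩ := exists_prime_orderOf_dvd_card' (G := ↥(P : Subgroup D)) 19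
      (P.dvd_card_of_dvd_card (hm ▸ h19))
    exact ⟨y, y.2, by rw [Subgroup.orderOf_coe, hy]⟩
  have hPc : Nat.card (P : Subgroup D) = 19 := by
    rw [P.card_eq_multiplicity, ← hm, ← hdiv]
    simp only [List.mem_cons, List.not_mem_nil, or_false] at hemem
    rcases hemem with rfl | rfl | rfl | rfl | rfl <;> norm_num
    all_goals
      first
      | rw [show (392445 : ℕ) = 19 * 20655 by norm_num]
      | rw [show (130815 : ℕ) = 19 * 6885 by norm_num]
      | rw [show (78489 : ℕ) = 19 * 4131 by norm_num]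
      | rw [show (43605 : ℕ) = 19 * 2295 by norm_num]
      | rw [show (26163 : ℕ) = 19 * 1377 by norm_num]
    all_goals
      rw [Nat.factorization_mul (by norm_num) (by norm_num), Finsupp.add_apply,
        Nat.Prime.factorization_self (by norm_num : Nat.Prime 19),
        Nat.factorization_eq_zero_of_not_dvd (by norm_num), Nat.add_zero, pow_one]
  haveI : IsCyclic (P : Subgroup D) := isCyclic_of_prime_card hPc
  have hPx : (P : Subgroup D) = zpowers x :=
    (eq_of_le_of_card_ge (zpowers_le.2 hxP) (by rw [Nat.card_zpowers, hx, hPc])).symm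
  set N := normalizer ((P : Subgroup D) : Set D) with hN
  have hNdvd : Nat.card N ∣ 171 := by
    let ψ := (P : Subgroup D).normalizerMonoidHom
    have h1 := ψ.ker.card_mul_index
    rw [Subgroup.index_ker] at h1
    have h2 : Nat.card ψ.ker ∣ 19 := by
      rw [Subgroup.normalizerMonoidHom_ker]
      have hle : centralizer ((P : Subgroup D) : Set D) ≤ centralizer ({x} : Set D) :=
        centralizer_le (Set.singleton_subset_iff.2 hxP)
      have := card_dvd_of_le hle
      rw [hC x hx] at this
      refine dvd_trans ?_ this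
      exact card_dvd_of_injective
        ((N.subtype.comp ((centralizer ((P : Subgroup D) : Set D)).subgroupOf N).subtype).codRestrict
          (centralizer ((P : Subgroup D) : Set D)) fun y => y.2)
        fun a b h => Subtype.ext (Subtype.ext (congrArg (fun z : centralizer ((P : Subgroup D) : Set D) => (z : D)) h))
    have h3 : Nat.card ψ.range ∣ 9 := by
      have h4 : Nat.card ψ.range ∣ 18 := by
        have := ψ.range.card_subgroup_dvd_card
        rwa [IsCyclic.card_mulAut, hPc, Nat.totient_prime (by norm_num)] at this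
      have h5 : Nat.card ψ.range ∣ 392445 :=
        ((Subgroup.card_range_dvd ψ).trans N.card_subgroup_dvd_card).trans (hm ▸ ⟨e, he⟩)
      have := Nat.dvd_gcd h4 h5
      rwa [show Nat.gcd 18 392445 = 9 by norm_num] at this
    rw [← h1]
    exact mul_dvd_mul h2 h3
  have hN19 : 19 ∣ Nat.card N := hPc ▸ card_dvd_of_le le_normalizer
  have hNmem : Nat.card N ∈ [19, 57, 171] := by
    have h1 : ∀ q < 172, 171 % q = 0 → q % 19 = 0 → q ∈ [19, 57, 171] := by decide +kernel
    exact h1 _ (Nat.lt_succ_of_le (Nat.le_of_dvd (by norm_num) hNdvd)) (Nat.mod_eq_zero_of_dvd hNdvd)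
      (Nat.mod_eq_zero_of_dvd hN19)
  have hcount : Nat.card (Sylow 19 D) * Nat.card N = m := by
    rw [Sylow.card_eq_index_normalizer P, mul_comm]
    exact (card_mul_index _).trans hm.symm
  have hpos : 0 < Nat.card N := Nat.card_pos
  obtain ⟨rfl, hN171⟩ := sylow_count e hemem (Nat.card N) hNmem
    (by rw [hdiv, ← hcount]; exact Nat.mul_mod_left _ _)
    (by
      rw [hdiv, ← hcount, Nat.mul_div_cancel _ hpos]
      exact card_sylow_modEq_one 19 D)
  norm_num at hdiv
  subst hdiv
  have h153 : Nat.card (Sylow 19 D) = 153 := by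
    rw [hN171] at hcount
    omega
  -- the Sylow 17-subgroups
  obtain ⟨Q⟩ := (inferInstance : Nonempty (Sylow 17 D))
  have hQc : Nat.card (Q : Subgroup D) = 17 := by
    rw [Q.card_eq_multiplicity, ← hm, show (26163 : ℕ) = 17 * 1539 by norm_num,
      Nat.factorization_mul (by norm_num) (by norm_num), Finsupp.add_apply,
      Nat.Prime.factorization_self (by norm_num : Nat.Prime 17),
      Nat.factorization_eq_zero_of_not_dvd (by norm_num), Nat.add_zero, pow_one]
  have hcQ : Nat.card (Sylow 17 D) * Nat.card (normalizer ((Q : Subgroup D) : Set D)) = 26163 := by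
    rw [Sylow.card_eq_index_normalizer Q, mul_comm]
    exact (card_mul_index _).trans hm.symm
  have hn1539 : Nat.card (Sylow 17 D) ∣ 1539 := by
    have := Q.card_dvd_index
    have h2 := (Q : Subgroup D).card_mul_index
    rw [hQc, ← hm] at h2
    rwa [show (Q : Subgroup D).index = 1539 by omega] at this
  rcases divisors_1539 _ (Nat.lt_succ_of_le (Nat.le_of_dvd (by norm_num) hn1539))
    (Nat.mod_eq_zero_of_dvd hn1539) (card_sylow_modEq_one 17 D) with h | h
  · -- a normal one would be centralized by `x`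
    rw [h, one_mul] at hcQ
    have htop : normalizer ((Q : Subgroup D) : Set D) = ⊤ := eq_top_of_card_eq _ (by rw [hcQ, hm])
    have hcen : ((Q : Subgroup D) ⊔ zpowers x) ≤ centralizer ({x} : Set D) := by
      refine sup_le (fun q hq => mem_centralizer_singleton_iff.2 ?_)
        (zpowers_le.2 (mem_centralizer_singleton_iff.2 rfl))
      exact (seventeen_fix _ hQc (x := x) (htop ▸ mem_top _) (oddOrd x) q hq).symm
    have := card_dvd_of_le (le_sup_left.trans hcen)
    rw [hQc, hC x hx] at this
    norm_num at this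
  · rw [h] at hcQ
    have hle : normalizer ((Q : Subgroup D) : Set D) ≤ centralizer ((Q : Subgroup D) : Set D) := fun y hy =>
      mem_centralizer_iff.2 fun q hq => (seventeen_fix _ hQc hy (oddOrd y) q hq).symm
    set K := (MonoidHom.transferSylow Q hle).ker
    have hcompl := MonoidHom.ker_transferSylow_isComplement' Q hle
    have hK : Nat.card K = 1539 := by
      have h3 : Nat.card K * Nat.card (Q : Subgroup D) = Nat.card D := hcompl.card_mul_card
      rw [hQc, ← hm] at h3
      omega
    have hPK : ∀ R : Sylow 19 D, (R : Subgroup D) ≤ K := by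
      intro R y hy
      have hRc : Nat.card (R : Subgroup D) = 19 := by rw [R.card_eq_multiplicity, ← P.card_eq_multiplicity, hPc]
      have hidx : K.index = 17 := by
        have h2 := K.card_mul_index
        rw [hK, ← hm] at h2
        omega
      haveI : K.Normal := MonoidHom.normal_ker _
      have h1 : orderOf (y : D ⧸ K) ∣ 19 := (orderOf_map_dvd (QuotientGroup.mk' K) y).trans
        (hRc ▸ Subgroup.orderOf_dvd_natCard _ hy)
      have h2 : orderOf (y : D ⧸ K) ∣ 17 := hidx ▸ orderOf_dvd_natCard _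
      exact (QuotientGroup.eq_one_iff y).1
        (orderOf_eq_one_iff.1 (Nat.eq_one_of_dvd_coprimes (by norm_num) h1 h2))
    have hone : Nat.card (Sylow 19 K) = 1 := by
      obtain ⟨R⟩ := (inferInstance : Nonempty (Sylow 19 K))
      have hR : Nat.card (R : Subgroup K) = 19 := by
        rw [R.card_eq_multiplicity, hK, show (1539 : ℕ) = 19 * 81 by norm_num,
          Nat.factorization_mul (by norm_num) (by norm_num), Finsupp.add_apply,
          Nat.Prime.factorization_self (by norm_num : Nat.Prime 19),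
          Nat.factorization_eq_zero_of_not_dvd (by norm_num), Nat.add_zero, pow_one]
      have h2 := (R : Subgroup K).card_mul_index
      rw [hR, hK] at h2
      have h3 := R.card_dvd_index
      rw [show (R : Subgroup K).index = 81 by omega] at h3
      exact divisors_81 _ (Nat.lt_succ_of_le (Nat.le_of_dvd (by norm_num) h3)) (Nat.mod_eq_zero_of_dvd h3)
        (card_sylow_modEq_one 19 K)
    have : Nat.card (Sylow 19 D) ≤ 1 := by
      rw [← hone]
      refine Nat.card_le_card_of_injective (fun R : Sylow 19 D => R.subtype (hPK R)) fun R S e => ?_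
      refine Sylow.ext ?_
      have h1 := congrArg (fun T : Sylow 19 K => (T : Subgroup K).map K.subtype) e
      simpa [Sylow.coe_subtype, Subgroup.map_subgroupOf_eq_of_le (hPK R), Subgroup.map_subgroupOf_eq_of_le (hPK S)]
        using h1
    omega

variable {F : Type} [Field F] [Fintype F] {ω : F}

/-- The centralizer of an element of order nineteen. -/
theorem cent_nineteen (hF : Fintype.card F = 4) (H : Cfsg.Lib.JThree.Hyp F ω) {x : J3 F ω} (hx : orderOf x = 19) :
    Nat.card (centralizer ({x} : Set (J3 F ω))) = 19 := by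
  haveI : Fact (Nat.Prime 19) := ⟨by norm_num⟩
  have hJ := Cfsg.Lib.JThree.card_J3 hF H
  haveI : Finite (J3 F ω) := Nat.finite_of_card_ne_zero (by rw [hJ]; norm_num)
  obtain ⟨hc, -⟩ := Cfsg.Lib.JThree.orders hF H
  set c : J3 F ω := QuotientGroup.mk (Cfsg.Lib.JThree.elT ω Cfsg.Lib.JThree.elN19)
  have hp : ∀ u : J3 F ω, orderOf u = 19 → Nat.card (zpowers u) = 19 ^ (Nat.card (J3 F ω)).factorization 19 := by
    intro u hu
    rw [Nat.card_zpowers, hu, hJ, show (50232960 : ℕ) = 19 * 2643840 by norm_num,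
      Nat.factorization_mul (by norm_num) (by norm_num), Finsupp.add_apply,
      Nat.Prime.factorization_self (by norm_num : Nat.Prime 19),
      Nat.factorization_eq_zero_of_not_dvd (by norm_num), Nat.add_zero, pow_one]
  let S : Sylow 19 (J3 F ω) := Sylow.ofCard (zpowers x) (hp x hx)
  let T : Sylow 19 (J3 F ω) := Sylow.ofCard (zpowers c) (hp c hc)
  obtain ⟨y, hy⟩ := MulAction.exists_smul_eq (J3 F ω) T S
  have hmem : x ∈ (zpowers c).map (MulAut.conj y).toMonoidHom := by
    have h : x ∈ (S : Subgroup (J3 F ω)) := mem_zpowers x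
    rw [← hy, Sylow.coe_subgroup_smul] at h
    exact h
  obtain ⟨z, hz, hzx⟩ := hmem
  have hzo : orderOf z = 19 := by rw [← hx, ← hzx]; exact (MulEquiv.orderOf_eq (MulAut.conj y) z).symm
  have hzc : zpowers c = zpowers z :=
    (eq_of_le_of_card_ge (zpowers_le.2 hz) (by rw [Nat.card_zpowers, Nat.card_zpowers, hzo, hc])).symm
  have hle : centralizer ({z} : Set (J3 F ω)) ≤ zpowers z := by
    intro w hw
    have hwc : w * c = c * w := by
      obtain ⟨q, hq⟩ := mem_zpowers_iff.1 (hzc ▸ mem_zpowers c : c ∈ zpowers z)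
      rw [← hq]
      exact ((show Commute w z from mem_centralizer_singleton_iff.1 hw).zpow_right q).eq
    obtain ⟨q, hq⟩ := Cfsg.Lib.JThree.centralizer_nineteen hF H hwc
    rw [← hzc, hq]
    exact pow_mem (mem_zpowers c) q
  refine le_antisymm ?_ ?_
  · have h1 : Nat.card (centralizer ({z} : Set (J3 F ω))) ≤ 19 :=
      (Subgroup.card_le_of_le hle).trans (le_of_eq (by rw [Nat.card_zpowers, hzo]))
    refine le_trans ?_ h1
    refine Nat.card_le_card_of_injective (fun w : centralizer ({x} : Set (J3 F ω)) =>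
      (⟨y⁻¹ * w * y, mem_centralizer_singleton_iff.2 ?_⟩ : centralizer ({z} : Set (J3 F ω)))) ?_
    · have hw := mem_centralizer_singleton_iff.1 w.2
      have e : y * z * y⁻¹ = x := hzx
      calc y⁻¹ * w * y * z = y⁻¹ * ((w : J3 F ω) * (y * z * y⁻¹)) * y := by group
        _ = y⁻¹ * ((y * z * y⁻¹) * w) * y := by rw [e, hw]
        _ = z * (y⁻¹ * w * y) := by group
    · intro a b e
      exact Subtype.ext (mul_left_cancel (mul_right_cancel (congrArg Subtype.val e)))
  · exact hx ▸ (Nat.card_zpowers x).symm.trans_le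
      (Subgroup.card_le_of_le (zpowers_le.2 (mem_centralizer_singleton_iff.2 rfl)))

/-- The involutions are counted by the centralizer. -/
theorem card_invols {M : Type*} [Group M] [Finite M] (t : M) (ht : orderOf t = 2)
    (hone : ∀ x y : M, orderOf x = 2 → orderOf y = 2 → IsConj x y) :
    Nat.card {x : M // orderOf x = 2} * Nat.card (centralizer ({t} : Set M)) = Nat.card M := by
  set C := centralizer ({t} : Set M)
  let f : M ⧸ C → {x : M // orderOf x = 2} := Quotient.lift
    (fun a : M => (⟨a * t * a⁻¹, by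
      rw [← ht]; exact (MulEquiv.orderOf_eq (MulAut.conj a) t)⟩ : {x : M // orderOf x = 2}))
    (fun a b hab => Subtype.ext (by
      have h := mem_centralizer_singleton_iff.1 (QuotientGroup.leftRel_apply.1 hab)
      calc a * t * a⁻¹ = a * (t * (a⁻¹ * b)) * b⁻¹ := by group
        _ = a * (a⁻¹ * b * t) * b⁻¹ := by rw [h]
        _ = b * t * b⁻¹ := by group))
  have hf : Function.Bijective f := by
    refine ⟨fun a b => ?_, fun x => ?_⟩
    · induction a using QuotientGroup.induction_on with | _ a => ?_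
      induction b using QuotientGroup.induction_on with | _ b => ?_
      intro e
      have e' : a * t * a⁻¹ = b * t * b⁻¹ := congrArg Subtype.val e
      refine QuotientGroup.eq.2 (mem_centralizer_singleton_iff.2 ?_)
      calc a⁻¹ * b * t = a⁻¹ * (b * t * b⁻¹) * b := by group
        _ = a⁻¹ * (a * t * a⁻¹) * b := by rw [e']
        _ = t * (a⁻¹ * b) := by group
    · obtain ⟨a, ha⟩ := isConj_iff.1 (hone t x ht x.2)
      exact ⟨(a : M ⧸ C), Subtype.ext ha⟩
  rw [← Nat.card_congr (Equiv.ofBijective f hf), card_eq_card_quotient_mul_card_subgroup C]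

/-- The copy of `J₃` is the whole group. -/
theorem top_of_range (hF : Fintype.card F = 4) (H : Cfsg.Lib.JThree.Hyp F ω) {G : Type*} [Group G] [Finite G]
    (t : G) (ht : orderOf t = 2) (hone : ∀ x y : G, orderOf x = 2 → orderOf y = 2 → IsConj x y)
    (hC : Nat.card (centralizer ({t} : Set G)) = 1920)
    (φ : J3 F ω →* G) (hφ : Function.Injective φ) (hle : ∀ x : G, x * t = t * x → x ∈ φ.range) :
    Function.Surjective φ := by
  classical
  set M := φ.range
  rw [← MonoidHom.range_eq_top]
  by_contra hne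
  have hJ := Cfsg.Lib.JThree.card_J3 hF H
  let e : J3 F ω ≃* M := MonoidHom.ofInjective hφ
  have hM : Nat.card M = 50232960 := by rw [← Nat.card_congr e.toEquiv, hJ]
  have hMone : ∀ x y : M, orderOf x = 2 → orderOf y = 2 → IsConj x y := by
    intro x y hx hy
    have h1 := Cfsg.Lib.JThree.isConj_invT hF H (e.symm x) (by rw [MulEquiv.orderOf_eq, hx])
    have h2 := Cfsg.Lib.JThree.isConj_invT hF H (e.symm y) (by rw [MulEquiv.orderOf_eq, hy])
    have := MonoidHom.map_isConj e.toMonoidHom (h1.symm.trans h2)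
    simpa using this
  have htM : t ∈ M := hle t rfl
  have hto : orderOf (⟨t, htM⟩ : M) = 2 := by rw [orderOf_mk, ht]
  -- centralizers of the involutions in `M`
  have hcent : ∀ x ∈ M, orderOf x = 2 → ∀ y : G, y * x = x * y → y ∈ M := by
    intro x hx ho y hy
    obtain ⟨m, hm⟩ := isConj_iff.1 (hMone ⟨t, htM⟩ ⟨x, hx⟩ hto (by rw [orderOf_mk, ho]))
    have hm' : (m : G) * t * (m : G)⁻¹ = x := congrArg Subtype.val hm
    have : (m : G)⁻¹ * y * m ∈ M := hle _ (by
      calc (m : G)⁻¹ * y * m * t = (m : G)⁻¹ * (y * ((m : G) * t * (m : G)⁻¹)) * m := by group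
        _ = (m : G)⁻¹ * (((m : G) * t * (m : G)⁻¹) * y) * m := by rw [hm', hy]
        _ = t * ((m : G)⁻¹ * y * m) := by group)
    have h2 := mul_mem (mul_mem m.2 this) (inv_mem m.2)
    simpa [mul_assoc] using h2
  -- the numbers of involutions
  have hCM : Nat.card (centralizer ({(⟨t, htM⟩ : M)} : Set M)) = 1920 := by
    rw [← hC]
    refine Nat.card_congr
      { toFun := fun x => ⟨((x : M) : G), mem_centralizer_singleton_iff.2
          (congrArg Subtype.val (mem_centralizer_singleton_iff.1 x.2))⟩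
        invFun := fun x => ⟨⟨x, hle _ (mem_centralizer_singleton_iff.1 x.2)⟩,
          mem_centralizer_singleton_iff.2 (Subtype.ext (mem_centralizer_singleton_iff.1 x.2))⟩
        left_inv := fun x => rfl
        right_inv := fun x => rfl }
  have hIM := card_invols (⟨t, htM⟩ : M) hto hMone
  rw [hCM, hM] at hIM
  have hI := card_invols t ht hone
  rw [hC, ← M.card_mul_index, hM] at hI
  have hn : 2 ≤ M.index := by
    have h1 : M.index ≠ 1 := fun h => hne (index_eq_one.1 h)
    have h0 : M.index ≠ 0 := index_ne_zero_of_finite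
    omega
  haveI := Fintype.ofFinite G
  let I : Finset G := Finset.univ.filter fun x => orderOf x = 2
  let J : Finset G := I.filter fun x => x ∉ M
  have hIc : I.card = 26163 * M.index := by
    have : Nat.card {x : G // orderOf x = 2} = I.card := by
      rw [Nat.card_eq_fintype_card, Fintype.card_subtype]
    rw [this] at hI
    omega
  have hJin : (I.filter fun x => x ∈ M).card = 26163 := by
    have : Nat.card {x : M // orderOf x = 2} = (I.filter fun x => x ∈ M).card := by
      rw [Nat.card_congr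
        ({ toFun := fun x => ⟨((x : M) : G), Finset.mem_filter.2 ⟨Finset.mem_filter.2
              ⟨Finset.mem_univ _, by rw [Subgroup.orderOf_coe]; exact x.2⟩, (x : M).2⟩⟩
           invFun := fun x => ⟨⟨x, (Finset.mem_filter.1 x.2).2⟩, by
              rw [orderOf_mk]; exact (Finset.mem_filter.1 (Finset.mem_filter.1 x.2).1).2⟩
           left_inv := fun x => rfl
           right_inv := fun x => rfl } :
          {x : M // orderOf x = 2} ≃ ↥(I.filter fun x => x ∈ M)), Nat.card_eq_finsetCard]
    rw [this] at hIM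
    omega
  have hJc : J.card = 26163 * (M.index - 1) := by
    have := Finset.card_filter_add_card_filter_not (s := I) (fun x => x ∈ M)
    rw [hJin, hIc] at this
    show (I.filter fun x => x ∉ M).card = _
    rw [Nat.mul_sub, Nat.mul_one]
    omega
  let T : Finset (G ⧸ M) := Finset.univ.erase ((1 : G) : G ⧸ M)
  have hT : T.card = M.index - 1 := by
    rw [Finset.card_erase_of_mem (Finset.mem_univ _), Finset.card_univ, ← Nat.card_eq_fintype_card, index_eq_card]
  have hmaps : ∀ x ∈ J, (QuotientGroup.mk x : G ⧸ M) ∈ T := by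
    intro x hx
    refine Finset.mem_erase.2 ⟨fun h => (Finset.mem_filter.1 hx).2 ?_, Finset.mem_univ _⟩
    have := QuotientGroup.eq.1 h
    rw [mul_one, inv_mem_iff] at this
    exact this
  obtain ⟨q, -, hq⟩ : ∃ q ∈ T, 26163 ≤ (J.filter fun x : G => (QuotientGroup.mk x : G ⧸ M) = q).card := by
    refine Finset.exists_le_card_fiber_of_mul_le_card_of_maps_to hmaps (Finset.card_pos.1 (by omega)) ?_
    rw [hT, hJc, mul_comm]
  set S := J.filter fun x : G => (QuotientGroup.mk x : G ⧸ M) = q
  obtain ⟨u, hu⟩ : S.Nonempty := Finset.card_pos.1 (by omega)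
  have hS : ∀ v ∈ S, orderOf v = 2 ∧ v ∉ M ∧ (QuotientGroup.mk v : G ⧸ M) = q := fun v hv => by
    obtain ⟨hvJ, hvq⟩ := Finset.mem_filter.1 hv
    obtain ⟨hvI, hvM⟩ := Finset.mem_filter.1 hvJ
    exact ⟨(Finset.mem_filter.1 hvI).2, hvM, hvq⟩
  obtain ⟨huo, huM, huq⟩ := hS u hu
  have sq : ∀ {v : G}, orderOf v = 2 → v * v = 1 := fun {v} h => by rw [← pow_two, ← h, pow_orderOf_eq_one]
  have hui : u⁻¹ = u := inv_eq_of_mul_eq_one_right (sq huo)
  set D₀ : Subgroup G := M ⊓ M.map (MulAut.conj u).toMonoidHom with hD0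
  have hS' : ∀ v ∈ S, u * v ∈ D₀ := by
    intro v hv
    obtain ⟨hvo, -, hvq⟩ := hS v hv
    have h1 : u * v ∈ M := by
      have := QuotientGroup.eq.1 (huq.trans hvq.symm)
      rwa [hui] at this
    refine ⟨h1, (u * v)⁻¹, inv_mem h1, ?_⟩
    show u * (u * v)⁻¹ * u⁻¹ = u * v
    rw [mul_inv_rev, inv_eq_of_mul_eq_one_right (sq hvo), hui]
    calc u * (v * u) * u = u * v * (u * u) := by group
      _ = u * v := by rw [sq huo, mul_one]
  have hbig : 26163 ≤ Nat.card D₀ := by
    refine hq.trans (le_trans ?_ (Nat.card_le_card_of_injective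
      (fun v : S => (⟨u * v, hS' v v.2⟩ : D₀)) fun a b h => Subtype.ext (mul_left_cancel (congrArg Subtype.val h))))
    rw [Nat.card_eq_finsetCard]
  have hodd : ¬ 2 ∣ Nat.card D₀ := by
    intro h
    haveI : Fact (Nat.Prime 2) := ⟨Nat.prime_two⟩
    obtain ⟨x, hx⟩ := exists_prime_orderOf_dvd_card' (G := D₀) 2 h
    obtain ⟨⟨hxM, y, hy, hyx⟩, hxo⟩ : ((x : G) ∈ M ∧ ∃ y ∈ M, u * y * u⁻¹ = x) ∧ orderOf (x : G) = 2 :=
      ⟨⟨x.2.1, x.2.2⟩, by rw [Subgroup.orderOf_coe, hx]⟩
    have hyo : orderOf y = 2 := by rw [← hxo, ← hyx]; exact (MulEquiv.orderOf_eq (MulAut.conj u) y).symm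
    obtain ⟨m, hm⟩ := isConj_iff.1 (hMone ⟨x, hxM⟩ ⟨y, hy⟩ (by rw [orderOf_mk, hxo]) (by rw [orderOf_mk, hyo]))
    have hm' : (m : G) * (x : G) * (m : G)⁻¹ = y := congrArg Subtype.val hm
    refine huM ?_
    have h3 : u * m ∈ M := hcent _ hxM hxo _ (by
      calc u * m * (x : G) = u * ((m : G) * (x : G) * (m : G)⁻¹) * u⁻¹ * (u * m) := by group
        _ = (x : G) * (u * m) := by rw [hm', hyx])
    simpa using mul_mem h3 (inv_mem m.2)
  let D : Subgroup (J3 F ω) := D₀.comap φ
  have hmap : D.map φ = D₀ := Subgroup.map_comap_eq_self inf_le_left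
  have hDc : Nat.card D = Nat.card D₀ := by
    rw [← hmap, Subgroup.card_map_of_injective hφ]
  refine no_odd_group (D := D) rfl ?_ (hDc ▸ hbig) fun x hx => ?_
  · have h1 : Nat.card D ∣ 2 ^ 7 * 392445 := by
      rw [show 2 ^ 7 * 392445 = Nat.card (J3 F ω) by rw [hJ]; norm_num]
      exact D.card_subgroup_dvd_card
    have hc : Nat.Coprime (Nat.card D) (2 ^ 7) :=
      Nat.Coprime.pow_right 7 (Nat.prime_two.coprime_iff_not_dvd.2 (hDc ▸ hodd)).symm
    exact hc.dvd_of_dvd_mul_left h1
  · have hxo : orderOf (x : J3 F ω) = 19 := by rw [Subgroup.orderOf_coe, hx]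
    haveI : Finite (J3 F ω) := Nat.finite_of_card_ne_zero (by rw [hJ]; norm_num)
    refine le_antisymm ?_ ?_
    · rw [← cent_nineteen hF H hxo]
      refine Nat.card_le_card_of_injective (fun w : centralizer ({x} : Set D) =>
        (⟨((w : D) : J3 F ω), mem_centralizer_singleton_iff.2
          (congrArg Subtype.val (mem_centralizer_singleton_iff.1 w.2))⟩ : centralizer ({(x : J3 F ω)} : Set (J3 F ω))))
        fun a b h => Subtype.ext (Subtype.ext (congrArg (fun z : centralizer ({(x : J3 F ω)} : Set (J3 F ω)) => (z : J3 F ω)) h))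
    · exact hx ▸ (Nat.card_zpowers x).symm.trans_le
        (Subgroup.card_le_of_le (zpowers_le.2 (mem_centralizer_singleton_iff.2 rfl)))

end Cfsg.Lib.J3Type
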