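import Cfsg.Agent.Lib.J3Type.Reduce
import Cfsg.Agent.Lib.J2Type.OfCentralizer
import Cfsg.Agent.Lib.J2Type.Main
import Cfsg.Agent.Lib.JThree.Simple
import Cfsg.Prelude.Def_Sporadic

/-!
# The dichotomy between `J₂` and `J₃`
-/

set_option autoImplicit false
set_option linter.style.haveILetI false

namespace Cfsg.Lib.J3Type

open Cfsg Subgroup

variable {G : Type*} [Group G] [Finite G]

/-- A copy of `J₃` is simple of the order of `J₃`. -/
theorem isJ3_of_isoJ3 (h : Cfsg.Spor.IsoJ3 G) : Cfsg.IsJ3 G := by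
  obtain ⟨F, _, _, ω, hF, hω, ⟨e⟩⟩ := h
  have H := Cfsg.Lib.JThree.Hyp.of_card hF hω
  haveI := Cfsg.Lib.JThree.simple_J3 hF H
  exact ⟨e.isSimpleGroup, (Nat.card_congr e.toEquiv).trans (Cfsg.Lib.JThree.card_J3 hF H)⟩

/-- With more than one class of involutions the group has the order of `J₂`. -/
theorem isJ2_of_two_classes [hG : IsSimpleGroup G] (t : G) (ht : Cfsg.IsTwoCentralInvolution t)
    (E : Subgroup (centralizer ({t} : Set G))) [E.Normal] (hE : Nat.card E = 32)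
    (hX : Cfsg.IsExtraspecial 2 E)
    (e : (centralizer ({t} : Set G)) ⧸ E ≃* alternatingGroup (Fin 5))
    (hcl : ∃ x y : G, orderOf x = 2 ∧ orderOf y = 2 ∧ ¬ IsConj x y) : Cfsg.IsJ2 G := by
  obtain ⟨hminus, h2c⟩ := reduce t ht E hE hX e
  have hS := Cfsg.Lib.J2Type.Setup.of_centralizer t ht.1 E hX hE hminus h2c e hcl
  obtain ⟨u, hu, hnc⟩ := hS.exists_outer
  obtain ⟨V, L, -, hcard⟩ := hS.main hu hnc
  exact ⟨hG, hcard⟩

end Cfsg.Lib.J3Type
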