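import Cfsg.Agent.Lib.J3Type.Kill
import Cfsg.Agent.Lib.JThree.InvolShape

/-!
# The third Janko group inside a group of its type
-/

set_option autoImplicit false
set_option linter.unusedSectionVars false
set_option maxRecDepth 100000

namespace Cfsg.Lib.J3Type

open Subgroup Cfsg.Spor

variable {G : Type*} [Group G] [Finite G] {t : G} {g : ℕ → G} {d k n : G}

theorem cen_words : lettersOK 8 cenWordA = true ∧ lettersOK 8 cenWordB = true ∧
    teval cenCert cenW smallIdx cenWordA = tstep cenCert 0 0 ∧ teval cenCert cenW smallIdx cenWordB = tstep cenCert 0 2 ∧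
    ((cenWordA ++ cenWordB ++ genWordA ++ genWordB).all fun l =>
      [1, 5, 6, 8].any (Nat.beq (Nat.div l 2))) = true ∧
    cenCert.gens.getD 0 idL = 0 ∧ cenCert.gens.getD 2 idL = 2 ∧ cenCert.gens.length = 4 ∧
    (∀ c < 1920, lettersOK 2 (unpackW cenCert 32 (tword cenW c)) = true) ∧
    (smallIdx.getD 5 (0, 0)).1 ≠ 0 := by decide +kernel

theorem cert_lists : mainCert.gens = [2, 10, 12, 16] ∧ mainCert.subs = subCertL.gens ∧
    subCertL.subs = subCertH.gens ∧ subCertH.subs = [] ∧
    mainCert.nLive = 6156 ∧ subCertL.nLive = 17 ∧ subCertH.nLive = 480 := ⟨rfl, rfl, rfl, rfl, rfl, rfl, rfl⟩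

theorem closure_list {M : Type*} [Group M] (f : ℕ → M) (l : List ℕ) :
    closure {y | ∃ j < l.length, lval f (l.getD j idL) = y} = closure {y | ∃ s ∈ l, lval f s = y} := by
  congr 1
  ext y
  constructor
  · rintro ⟨j, hj, rfl⟩
    exact ⟨_, by rw [List.getD_eq_getElem _ _ hj]; exact List.getElem_mem hj, rfl⟩
  · rintro ⟨s, hs, rfl⟩
    obtain ⟨j, hj, rfl⟩ := List.mem_iff_getElem.1 hs
    exact ⟨j, hj, by rw [List.getD_eq_getElem _ _ hj]⟩

theorem wval_mem {M : Type*} [Group M] {f : ℕ → M} {K : Subgroup M} : ∀ {w : List ℕ},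
    (∀ l ∈ w, f (l / 2) ∈ K) → wval f w ∈ K
  | [], _ => one_mem K
  | l :: w, h => by
    rw [wval_cons]
    refine mul_mem ?_ (wval_mem fun m hm => h m (List.mem_cons_of_mem _ hm))
    have := h l (List.mem_cons_self ..)
    unfold lval
    split
    · exact one_mem K
    · split
      · exact this
      · exact inv_mem this

/-- A group with the data maps onto a copy of `J₃` containing the centralizer of `t`. -/
theorem Cfg.embed (C : Cfg t g d k n) {i : G}
    (hx : (uEl g n)⁻¹ * d * uEl g n = trep cenCert g xTrue.1)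
    (hy : (uEl g n)⁻¹ * i * uEl g n = trep cenCert g (yReps.getD 3 (0, 0)).1)
    (hik : i * k * i * k⁻¹ = 1)
    (F : Type) [Field F] [Fintype F] (hF : Fintype.card F = 4) {ω : F} (H : Cfsg.Lib.JThree.Hyp F ω) :
    ∃ φ : J3 F ω →* G, Function.Injective φ ∧ ∀ x : G, x * t = t * x → x ∈ φ.range := by
  classical
  haveI : Finite (J3 F ω) := Nat.finite_of_card_ne_zero (by rw [Cfsg.Lib.JThree.card_J3 hF H]; norm_num)
  let f : ℕ → G × J3 F ω := fun j => (gL g d k n i j, gJ ω j)
  have hw : ∀ j ∈ yDom, (uEl g n)⁻¹ * gL g d k n i j * uEl g n = trep cenCert g ((wImgY 3).getD j (0, 0)).1 :=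
    fun j hj => C.wImg_val_y i hx hy hj
  have hdom : ∀ j ∈ yDom, j < 12 := by decide
  have hlen : (wImgY 3).length = 12 := wImg_len _ _
  have hv := C.fullY_val (s := 3) (by norm_num) hx hy hik
  have hrules : ∀ (K : Cert) (ex : List (List ℕ)), (∀ r ∈ ex, wval (gL g d k n i) r = 1) →
      gRules yDom (wImgY 3) ex K = true → (K.rules.all fun ws => ws.all fun w => jRule w) = true →
      ∀ ws ∈ K.rules, ∀ w ∈ ws, wval f w = 1 := by
    intro K ex hex hg hj ws hws w hw'
    refine Prod.ext ?_ ?_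
    · exact (wval_map (MonoidHom.fst G (J3 F ω)) f w).trans
        (C.rules_val i hdom (wImg_ok.1 3 (by norm_num)) hlen hw hex hg ws hws w hw')
    · exact (wval_map (MonoidHom.snd G (J3 F ω)) f w).trans
        (jRule_val hF H (List.all_eq_true.1 (List.all_eq_true.1 hj ws hws) w hw'))
  obtain ⟨hg, hsM, hsL, hsH, nM, nL, nH⟩ := cert_lists
  obtain ⟨e1, e2, e3, -⟩ := ex_ok
  -- the three bounds
  let HM : Subgroup (G × J3 F ω) := closure {y | ∃ s ∈ mainCert.subs, lval f s = y}
  let HL : Subgroup (G × J3 F ω) := closure {y | ∃ s ∈ subCertL.subs, lval f s = y}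
  have bH : Nat.card ↥(closure {y | ∃ j < subCertH.gens.length, lval f (subCertH.gens.getD j idL) = y}) ≤ 480 := by
    have := card_closure_le (C := subCertH) (g := f) (H := (⊥ : Subgroup (G × J3 F ω)))
      ⟨hrules subCertH subCertHEx (by rw [e3]; simp) subH_g subH_j, fun s hs => by rw [hsH] at hs; simp at hs⟩
      subCertH_fact_ok subCertH_live_zero subCertH_row_ok (by rw [nH]; norm_num)
    rwa [card_bot, mul_one, nH] at this
  have bL : Nat.card ↥(closure {y | ∃ j < subCertL.gens.length, lval f (subCertL.gens.getD j idL) = y}) ≤ 8160 := by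
    have := card_closure_le (C := subCertL) (g := f) (H := HL)
      ⟨hrules subCertL subCertLEx (ex_val e2 hv) subL_g subL_j, fun s hs => subset_closure ⟨s, hs, rfl⟩⟩
      subCertL_fact_ok subCertL_live_zero subCertL_row_ok (by rw [nL]; norm_num)
    have hHL : Nat.card HL ≤ 480 := by
      show Nat.card ↥(closure {y | ∃ s ∈ subCertL.subs, lval f s = y}) ≤ 480
      rw [hsL, ← closure_list]; exact bH
    rw [nL] at this
    exact this.trans (by omega)
  set D : Subgroup (G × J3 F ω) := closure {y | ∃ j < mainCert.gens.length, lval f (mainCert.gens.getD j idL) = y}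
  have bD : Nat.card D ≤ 50232960 := by
    have := card_closure_le (C := mainCert) (g := f) (H := HM)
      ⟨hrules mainCert mainCertEx (ex_val e1 hv) main_g main_j, fun s hs => subset_closure ⟨s, hs, rfl⟩⟩
      mainCert_fact_ok mainCert_live_zero mainCert_row_ok (by rw [nM]; norm_num)
    have hHM : Nat.card HM ≤ 8160 := by
      show Nat.card ↥(closure {y | ∃ s ∈ mainCert.subs, lval f s = y}) ≤ 8160
      rw [hsM, ← closure_list]; exact bL
    rw [nM] at this
    exact this.trans (by omega)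
  have hfgen : ∀ j ∈ [1, 5, 6, 8], f j ∈ D := by
    intro j hj
    simp only [List.mem_cons, List.not_mem_nil, or_false] at hj
    rcases hj with rfl | rfl | rfl | rfl
    · exact subset_closure ⟨0, by rw [hg]; norm_num, by rw [hg]; rfl⟩
    · exact subset_closure ⟨1, by rw [hg]; norm_num, by rw [hg]; rfl⟩
    · exact subset_closure ⟨2, by rw [hg]; norm_num, by rw [hg]; rfl⟩
    · exact subset_closure ⟨3, by rw [hg]; norm_num, by rw [hg]; rfl⟩
  obtain ⟨hA, hB, eA, eB, hall, hg0, hg2, hg4, hlet, h5⟩ := cen_words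
  have hw4 : ∀ l ∈ cenWordA ++ cenWordB ++ genWordA ++ genWordB, l / 2 ∈ [1, 5, 6, 8] := fun l hl => by
    obtain ⟨j, hj, e⟩ := List.any_eq_true.1 (List.all_eq_true.1 hall l hl)
    rw [show l / 2 = Nat.div l 2 from rfl, Nat.eq_of_beq_eq_true e]; exact hj
  -- the projection is onto
  let π : D →* J3 F ω := (MonoidHom.snd G (J3 F ω)).comp D.subtype
  have hπ : Function.Surjective π := by
    intro x
    obtain ⟨y, rfl⟩ := QuotientGroup.mk_surjective x
    obtain ⟨hlt, hwA, hwB⟩ := genWords_ok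
    rw [List.all_append, Bool.and_eq_true] at hlt
    have hgen : ∀ j ∈ [1, 5, 6, 8], gJ ω j ∈ π.range := fun j hj => ⟨⟨f j, hfgen j hj⟩, rfl⟩
    have key : ∀ w : List ℕ, (∀ l ∈ w, l / 2 ∈ [1, 5, 6, 8]) → wval (gJ ω) w ∈ π.range :=
      fun w hw' => wval_mem fun l hl => hgen _ (hw' l hl)
    have hle : Cfsg.Lib.JThree.Γ0 H ≤ (π.range.comap (QuotientGroup.mk' _)).map (threeJ3 F ω).subtype := by
      refine (closure_le _).2 ?_
      have hmem : ∀ q < 2, ∀ w : List ℕ, (w.all fun l => Nat.blt l 24) = true →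
          ((List.range 3).any fun r => Nat.beq (Cfsg.Lib.JThree.wordC jW w)
            (Cfsg.Lib.JThree.mmul (Cfsg.Lib.JThree.powC Cfsg.Lib.JThree.scal r) (Cfsg.Lib.JThree.gC q))) = true →
          (∀ l ∈ w, l / 2 ∈ [1, 5, 6, 8]) →
          Cfsg.Lib.JThree.gEl H q ∈ (π.range.comap (QuotientGroup.mk' _)).map (threeJ3 F ω).subtype := by
        intro q hq w hw24 hm hw8
        obtain ⟨r, -, er⟩ := List.any_eq_true.1 hm
        have hin : Cfsg.Lib.JThree.gEl H q ∈ threeJ3 F ω := by
          rw [Cfsg.Lib.JThree.gEl, dif_pos hq]; exact (Cfsg.Lib.JThree.gens_mem H q hq).choose_spec.1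
        refine ⟨⟨_, hin⟩, ?_, rfl⟩
        show (QuotientGroup.mk (⟨_, hin⟩ : threeJ3 F ω) : J3 F ω) ∈ π.range
        rw [word_eq hF H hw24 (Nat.eq_of_beq_eq_true er) (x := ⟨_, hin⟩) (Cfsg.Lib.JThree.gEl_val H hq)]
        exact key w hw8
      rintro z (rfl | rfl)
      · exact hmem 0 (by norm_num) genWordA hlt.1 hwA (fun l hl => hw4 l (by simp [hl]))
      · exact hmem 1 (by norm_num) genWordB hlt.2 hwB (fun l hl => hw4 l (by simp [hl]))
    obtain ⟨z, hz, e⟩ := hle (show (y : GL F9 F) ∈ Cfsg.Lib.JThree.Γ0 H by rw [Cfsg.Lib.JThree.Γ0_eq H]; exact y.2)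
    obtain rfl : z = y := Subtype.ext e
    exact hz
  have hcardJ := Cfsg.Lib.JThree.card_J3 hF H
  have hπb : Function.Bijective π := by
    refine (Nat.bijective_iff_surjective_and_card π).2 ⟨hπ, le_antisymm ?_ (Nat.card_le_card_of_surjective π hπ)⟩
    exact bD.trans hcardJ.ge
  let e := MulEquiv.ofBijective π hπb
  let φ : J3 F ω →* G := ((MonoidHom.fst G (J3 F ω)).comp D.subtype).comp e.symm.toMonoidHom
  have hφ : ∀ j ∈ [1, 5, 6, 8], φ (gJ ω j) = gL g d k n i j := fun j hj => by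
    have : e.symm (gJ ω j) = ⟨f j, hfgen j hj⟩ := e.injective (by rw [MulEquiv.apply_symm_apply]; rfl)
    show ((e.symm (gJ ω j) : G × J3 F ω)).1 = _
    rw [this]
  haveI := Cfsg.Lib.JThree.simple_J3 hF H
  refine ⟨φ, ?_, ?_⟩
  · rcases (inferInstance : φ.ker.Normal).eq_bot_or_eq_top with h | h
    · exact (MonoidHom.ker_eq_bot_iff φ).1 h
    · exfalso
      have h1 : φ (gJ ω 5) = 1 := MonoidHom.mem_ker.1 (h ▸ mem_top _)
      rw [hφ 5 (by simp), gL_small i (by norm_num)] at h1
      exact h5 (C.cen.inj _ (letters_facts.2.2.2.2.2.2.2 5 (by norm_num)) 0 (by norm_num)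
        (h1.trans (trep_zero C.cen.reg).symm))
  · intro x hxt
    obtain ⟨c, hc, rfl⟩ := (C.cen.full x).1 hxt
    rw [trep_word C.cen.reg cenW_ok cenW_gap (show c < cenCert.nLive from hc)]
    obtain ⟨hi, hl8, -⟩ := letters_facts
    have hr : ∀ w : List ℕ, (∀ l ∈ w, l / 2 ∈ [1, 5, 6, 8]) → wval (gL g d k n i) w ∈ φ.range := fun w hw' =>
      wval_mem fun l hl => ⟨_, hφ _ (hw' l hl)⟩
    have hgmem : ∀ q < 2, g q ∈ φ.range := by
      intro q hq
      interval_cases q
      · have h := (tstep_spec C.cen.reg (c := 0) (j := 0) C.cen.reg.pos (by rw [hg4]; norm_num)).2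
        rw [trep_zero C.cen.reg, one_mul, hg0, show lval g 0 = g 0 from rfl, ← eA,
          ← (teval_spec C.cen.reg cenW_ok cenW_gap hi (g' := gL g d k n i)
            (fun j hj => gL_small i (hl8 ▸ hj)) (w := cenWordA) (hl8.symm ▸ hA)).2] at h
        rw [h]; exact hr _ fun l hl => hw4 l (by simp [hl])
      · have h := (tstep_spec C.cen.reg (c := 0) (j := 2) C.cen.reg.pos (by rw [hg4]; norm_num)).2
        rw [trep_zero C.cen.reg, one_mul, hg2, show lval g 2 = g 1 from rfl, ← eB,
          ← (teval_spec C.cen.reg cenW_ok cenW_gap hi (g' := gL g d k n i)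
            (fun j hj => gL_small i (hl8 ▸ hj)) (w := cenWordB) (hl8.symm ▸ hB)).2] at h
        rw [h]; exact hr _ fun l hl => hw4 l (by simp [hl])
    refine wval_mem fun l hl => hgmem _ ?_
    have h' := List.all_eq_true.1 (hlet c hc) l hl
    rw [Bool.and_eq_true] at h'
    have h4 : l < 2 * 2 := Nat.lt_of_succ_le (Nat.le_of_ble_eq_true h'.1)
    omega

end Cfsg.Lib.J3Type
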