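import Cfsg.Agent.Lib.J3Type.ExtraData

/-!
Kernel checks of the certificate `extraCert`.
-/

set_option autoImplicit false
set_option maxRecDepth 100000

namespace Cfsg.Lib.J3Type

theorem extraCert_facts0 : factsOK extraCert 0 160 = true := by decide +kernel

theorem extraCert_rows0 : rowsOK extraCert 0 32 = true := by decide +kernel

theorem extraCert_fact_ok : ∀ i < extraCert.nFacts, factOK extraCert i = true := by
  intro i hi
  replace hi : i < 160 := hi
  by_cases h0 : i < 160
  · exact factOK_of_factsOK extraCert_facts0 (by omega) (by omega)
  omega

theorem extraCert_row_ok : ∀ c < extraCert.nLive, rowOK extraCert c = true := by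
  intro c hc
  replace hc : c < 32 := hc
  by_cases h0 : c < 32
  · exact rowOK_of_rowsOK extraCert_rows0 (by omega) (by omega)
  omega

theorem extraCert_live_zero : extraCert.live.get 15 0 = 0 := by decide +kernel

end Cfsg.Lib.J3Type
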