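import Cfsg.Prelude.Def_Transfer
import Cfsg.Agent.Lib.J3Type.Table
import Cfsg.Agent.Lib.J3Type.ExtraChecks
import Cfsg.Agent.Lib.PGroup.ExtraspecialClassify

/-!
# The extraspecial group `2^(1+4)` of minus type as a table, and its automorphisms
-/

set_option autoImplicit false

namespace Cfsg.Lib.J3Type

open Cfsg.Lib.PGroup Cfsg.Lib.Extraspecial Subgroup
open scoped commutatorElement

theorem extraRules_ok : (extraCert.rules.all fun ws => ws.all fun w => isRule extraRels w) = true := by
  decide +kernel

theorem extraW_ok : wordsOK extraCert extraW = true := by decide +kernel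

theorem extraW_gap : noGapOK extraCert extraW = true := by decide +kernel

theorem extra_valid {G : Type*} [Group G] {g : ℕ → G} (h : ∀ r ∈ extraRels, wval g r = 1) :
    Reg extraCert g where
  valid := ⟨fun ws hws w hw => wval_isRule h
      (List.all_eq_true.1 (List.all_eq_true.1 extraRules_ok ws hws) w hw), fun s hs => by simp [extraCert] at hs⟩
  facts := extraCert_fact_ok
  rows := extraCert_row_ok
  zero := extraCert_live_zero
  pos := by show 0 < 32; norm_num

variable {P : Type*} [Group P] [Finite P]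

/-- A basis: two quaternion and two dihedral generators, and the centre. -/
structure Basis (z : P) (q : ℕ → P) : Prop where
  rels : ∀ r ∈ extraRels, wval q r = 1
  last : q 4 = z
  full : ∀ x : P, ∃ c < 32, trep extraCert q c = x
  inj : ∀ c < 32, ∀ d < 32, trep extraCert q c = trep extraCert q d → c = d

theorem gens_closure {G : Type*} [Group G] (g : ℕ → G) :
    {y | ∃ j < extraCert.gens.length, lval g (extraCert.gens.getD j idL) = y} = g '' {j | j < 5} := by
  have e : ∀ j < 5, lval g (extraCert.gens.getD j idL) = g j := by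
    intro j hj
    interval_cases j <;> simp [extraCert, lval, idL]
  ext y
  constructor
  · rintro ⟨j, hj, rfl⟩
    exact ⟨j, hj, (e j hj).symm⟩
  · rintro ⟨j, hj, rfl⟩
    exact ⟨j, hj, e j hj⟩

theorem exists_basis (hex : Cfsg.IsExtraspecial 2 P) (h32 : Nat.card P = 32)
    (hminus : ∀ E : Subgroup P, Cfsg.IsElementaryAbelian 2 E → Nat.card E ≤ 4)
    {z : P} (hz : z ∈ center P) (hz1 : z ≠ 1) : ∃ q : ℕ → P, Basis z q := by
  haveI : Fact (Nat.Prime 2) := ⟨Nat.prime_two⟩
  obtain ⟨z₀, L, hS, hL, -, hcard, hkind⟩ := two_kinds hex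
  have hlen : L.length = 2 := by
    rw [h32, show (32 : ℕ) = 2 ^ 5 by norm_num] at hcard
    have := Nat.pow_right_injective le_rfl hcard
    omega
  obtain ⟨⟨a, b⟩, L₁, rfl⟩ : ∃ t L₁, L = t :: L₁ := by
    rcases L with - | ⟨t, L₁⟩
    · simp at hlen
    · exact ⟨t, L₁, rfl⟩
  obtain ⟨⟨c, d⟩, rfl⟩ : ∃ t, L₁ = [t] := by
    rcases L₁ with - | ⟨t, L₂⟩
    · simp at hlen
    rcases L₂ with - | ⟨t', L₃⟩
    · exact ⟨t, rfl⟩
    · simp at hlen
  obtain ⟨ha, hb, hab, hL₂⟩ := hL.inv_cons
  obtain ⟨hc, hd, hcd, hL₃⟩ := hL₂.inv_cons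
  have hz₀ : z = z₀ := by
    have hzm : z ∈ zpowers z₀ := by
      obtain ⟨i, j, hi, hj, m, hm, rfl⟩ := decomp hS ha hb hab (mem_top z)
      have h := comm_coords hS hab (a := i) (b := j) hm
      rw [commutatorElement_eq_one_iff_commute.2 (show Commute a _ from Subgroup.mem_center_iff.1 hz a),
        commutatorElement_eq_one_iff_commute.2 (show Commute _ b from (Subgroup.mem_center_iff.1 hz b).symm)] at h
      interval_cases i <;> interval_cases j <;>
        first
        | exact absurd (by simpa using h.1.symm) hS.ne_one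
        | exact absurd (by simpa using h.2.symm) hS.ne_one
        | skip
      obtain ⟨i, j, hi, hj, m', hm', rfl⟩ := decomp hS hc hd hcd hm
      have h' := comm_coords hS hcd (a := i) (b := j) hm'
      rw [commutatorElement_eq_one_iff_commute.2 (show Commute c _ by
          show _ = _
          simpa using Subgroup.mem_center_iff.1 hz c),
        commutatorElement_eq_one_iff_commute.2 (show Commute _ d by
          show _ = _
          simpa using (Subgroup.mem_center_iff.1 hz d).symm)] at h'
      interval_cases i <;> interval_cases j <;>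
        first
        | exact absurd (by simpa using h'.1.symm) hS.ne_one
        | exact absurd (by simpa using h'.2.symm) hS.ne_one
        | skip
      simpa [hL₃.inv_nil] using hm'
    obtain ⟨k, hk, hk'⟩ := hS.exists_pow hzm
    interval_cases k
    · exact absurd (by simpa using hk'.symm) hz1
    · simpa using hk'.symm
  subst hz₀
  obtain ⟨-, hca, hcb⟩ := mem_perp.1 hc
  obtain ⟨-, hda, hdb⟩ := mem_perp.1 hd
  have hzc : ∀ x : P, Commute x z := fun x => Subgroup.mem_center_iff.1 hz x
  rcases hkind with ⟨hD, -⟩ | ⟨⟨⟨u, v⟩, L', heq, hQ, hD⟩, -⟩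
  · exfalso
    obtain ⟨ha2, -⟩ := hD (a, b) (by simp)
    obtain ⟨hc2, -⟩ := hD (c, d) (by simp)
    let E : Subgroup P := closure {z, a, c}
    have hcomm : IsMulCommutative E := by
      refine Subgroup.isMulCommutative_closure ?_
      intro x hx y hy
      simp only [Set.mem_insert_iff, Set.mem_singleton_iff] at hx hy
      rcases hx with rfl | rfl | rfl <;> rcases hy with rfl | rfl | rfl <;>
        first
        | rfl
        | exact (hzc _).eq
        | exact (hzc _).eq.symm
        | exact hca.eq
        | exact hca.eq.symm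
    have helem : Cfsg.IsElementaryAbelian 2 E := by
      refine ⟨hcomm, fun x hxm => ?_⟩
      induction hxm using Subgroup.closure_induction with
      | mem y hy =>
        rcases hy with rfl | rfl | rfl
        exacts [hS.pow_z, ha2, hc2]
      | one => simp
      | mul y w hy hw h1 h2 =>
        rw [Commute.mul_pow (by
          have := hcomm.is_comm.comm ⟨y, hy⟩ ⟨w, hw⟩
          exact congrArg Subtype.val this), h1, h2, one_mul]
      | inv y _ h1 => rw [inv_pow, h1, inv_one]
    have hcard4 := hminus E helem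
    have hne : ∀ i : Fin 8, ∀ j : Fin 8, i ≠ j →
        z ^ (i.1 % 2) * a ^ (i.1 / 2 % 2) * c ^ (i.1 / 4) ≠ z ^ (j.1 % 2) * a ^ (j.1 / 2 % 2) * c ^ (j.1 / 4) := by
      have hinj : ∀ i j k i' j' k' : ℕ, i < 2 → j < 2 → k < 2 → i' < 2 → j' < 2 → k' < 2 →
          z ^ i * a ^ j * c ^ k = z ^ i' * a ^ j' * c ^ k' → i = i' ∧ j = j' ∧ k = k' := by
        intro i j k i' j' k' hi hj hk hi' hj' hk' e
        have key : ∀ x : P, ⁅x, z ^ i * a ^ j * c ^ k⁆ = ⁅x, z ^ i' * a ^ j' * c ^ k'⁆ := fun x => by rw [e]
        have k1 := key b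
        have k2 := key d
        simp only [commutatorElement_mul_right hS.le_center, commutatorElement_pow_right hS.le_center,
          commutatorElement_eq_one_iff_commute.2 (hzc b), commutatorElement_eq_one_iff_commute.2 hcb.symm,
          commutatorElement_eq_one_iff_commute.2 (hzc d), commutatorElement_eq_one_iff_commute.2 hda,
          hS.symm hab, hS.symm hcd, one_pow, one_mul, mul_one] at k1 k2
        have hj2 : j = j' := pow_injOn_Iio_orderOf (by rwa [Set.mem_Iio, hS.ord]) (by rwa [Set.mem_Iio, hS.ord]) k1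
        have hk2 : k = k' := pow_injOn_Iio_orderOf (by rwa [Set.mem_Iio, hS.ord]) (by rwa [Set.mem_Iio, hS.ord]) k2
        subst hj2; subst hk2
        exact ⟨pow_injOn_Iio_orderOf (by rwa [Set.mem_Iio, hS.ord]) (by rwa [Set.mem_Iio, hS.ord])
          (mul_right_cancel (mul_right_cancel e)), rfl, rfl⟩
      intro i j hij e
      obtain ⟨h1, h2, h3⟩ := hinj _ _ _ _ _ _ (by omega) (by omega) (by omega) (by omega) (by omega) (by omega) e
      exact hij (Fin.ext (by omega))
    have h8 := Nat.card_le_card_of_injective (fun i : Fin 8 =>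
      (⟨z ^ (i.1 % 2) * a ^ (i.1 / 2 % 2) * c ^ (i.1 / 4), mul_mem (mul_mem
        (pow_mem (subset_closure (by simp)) _) (pow_mem (subset_closure (by simp)) _))
        (pow_mem (subset_closure (by simp)) _)⟩ : E))
      fun i j e => by_contra fun h => hne i j h (congrArg Subtype.val e)
    rw [Nat.card_fin] at h8
    omega
  simp only [List.cons.injEq, Prod.mk.injEq] at heq
  obtain ⟨⟨rfl, rfl⟩, rfl⟩ := heq
  obtain ⟨hc2, hd2⟩ := hD (c, d) (by simp)
  obtain ⟨ha2, hb2⟩ := hQ
  simp only [pow_two] at ha2 hb2 hc2 hd2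
  let q : ℕ → P := fun i => [a, b, c, d, z].getD i 1
  have hrels : ∀ r ∈ extraRels, wval q r = 1 := by
    have hcomm : ∀ {x y : P}, Commute x y → x * (y * (x⁻¹ * y⁻¹)) = 1 := fun {x y} h => by
      rw [← mul_assoc, h.eq]; group
    have hzz := hS.sq_z
    have hzi : z⁻¹ = z := inv_eq_of_mul_eq_one_right hzz
    intro r hr
    simp only [extraRels, List.mem_cons, List.not_mem_nil, or_false] at hr
    rcases hr with rfl | rfl | rfl | rfl | rfl | rfl | rfl | rfl | rfl | rfl | rfl | rfl | rfl | rfl | rfl <;>
      simp only [wval, List.map_cons, List.map_nil, List.prod_cons, List.prod_nil, mul_one, lval, idL, q,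
        List.getD_cons_zero, List.getD_cons_succ, show ¬ (30 ≤ 0) by omega, show ¬ (30 ≤ 1) by omega,
        show ¬ (30 ≤ 2) by omega, show ¬ (30 ≤ 3) by omega, show ¬ (30 ≤ 4) by omega, show ¬ (30 ≤ 5) by omega,
        show ¬ (30 ≤ 6) by omega, show ¬ (30 ≤ 7) by omega, show ¬ (30 ≤ 8) by omega, show ¬ (30 ≤ 9) by omega,
        if_false, if_true, Nat.reduceMod, Nat.reduceDiv, one_ne_zero, if_neg, if_pos] <;>
      first
      | (rw [← mul_assoc, ha2, mul_inv_cancel])
      | (rw [← mul_assoc, hb2, mul_inv_cancel])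
      | exact hc2
      | exact hd2
      | exact hzz
      | (rw [show a * (b * (a⁻¹ * (b⁻¹ * z⁻¹))) = ⁅a, b⁆ * z⁻¹ by rw [commutatorElement_def]; group, hab, mul_inv_cancel])
      | (rw [show c * (d * (c⁻¹ * (d⁻¹ * z⁻¹))) = ⁅c, d⁆ * z⁻¹ by rw [commutatorElement_def]; group, hcd, mul_inv_cancel])
      | exact hcomm hca.symm
      | exact hcomm hda.symm
      | exact hcomm hcb.symm
      | exact hcomm hdb.symm
      | exact hcomm (hzc _)
  have R := extra_valid hrels
  have htop : closure (q '' {j | j < 5}) = ⊤ := by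
    rw [eq_top_iff]
    intro x _
    have hg : ∀ j < 5, q j ∈ closure (q '' {j | j < 5}) := fun j hj => subset_closure ⟨j, hj, rfl⟩
    obtain ⟨i, j, -, -, m, hm, rfl⟩ := decomp hS ha hb hab (mem_top x)
    obtain ⟨i', j', -, -, m', hm', rfl⟩ := decomp hS hc hd hcd hm
    rw [hL₃.inv_nil] at hm'
    obtain ⟨k, rfl⟩ := mem_zpowers_iff.1 hm'
    exact mul_mem (mul_mem (pow_mem (hg 0 (by norm_num)) i) (pow_mem (hg 1 (by norm_num)) j))
      (mul_mem (mul_mem (pow_mem (hg 2 (by norm_num)) i') (pow_mem (hg 3 (by norm_num)) j'))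
        (zpow_mem (hg 4 (by norm_num)) k))
  refine ⟨q, hrels, rfl, fun x => exists_trep R (by rw [gens_closure, htop]; exact mem_top x), ?_⟩
  intro i hi j hj e
  exact trep_inj R (by rw [gens_closure, htop, card_top, h32]; exact le_rfl) hi hj e

/-- The checks that make images of the generators define an automorphism. -/
def imgOK (L : List (ℕ × ℕ)) : Bool :=
  Nat.beq L.length 5 && imgsOK extraCert extraW L &&
    (extraRels.all fun r => lettersOK L.length r && Nat.beq (teval extraCert extraW L r) 0) &&
    ((List.range 32).all fun c => Nat.beq c 0 ||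
      (lettersOK L.length (unpackW extraCert 32 (tword extraW c)) &&
        !Nat.beq (teval extraCert extraW L (unpackW extraCert 32 (tword extraW c))) 0))

/-- Images passing the checks come from an automorphism. -/
theorem exists_aut {z : P} {q : ℕ → P} (B : Basis z q) {L : List (ℕ × ℕ)} (hL : imgOK L = true) :
    ∃ φ : MulAut P, ∀ j < 5, φ (q j) = trep extraCert q (L.getD j (0, 0)).1 := by
  classical
  simp only [imgOK, Bool.and_eq_true, List.all_eq_true] at hL
  obtain ⟨⟨⟨hlen, him⟩, hrel⟩, hinj⟩ := hL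
  have hlen' : L.length = 5 := Nat.eq_of_beq_eq_true hlen
  have R := extra_valid B.rels
  let q' : ℕ → P := fun j => trep extraCert q (L.getD j (0, 0)).1
  have hev := @teval_spec P _ extraCert q extraW R extraW_ok extraW_gap L him q' fun i _ => rfl
  have R' : Reg extraCert q' := extra_valid fun r hr => by
    obtain ⟨h1, h2⟩ := hrel r hr
    rw [(hev h1).2, Nat.eq_of_beq_eq_true h2, trep_zero R]
  let num : P → ℕ := fun x => (B.full x).choose
  have num_lt : ∀ x, num x < 32 := fun x => (B.full x).choose_spec.1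
  have num_spec : ∀ x, trep extraCert q (num x) = x := fun x => (B.full x).choose_spec.2
  have hnl : extraCert.nLive = 32 := rfl
  let f : P →* P := MonoidHom.mk' (fun x => trep extraCert q' (num x)) fun x y => by
    obtain ⟨h1, h2⟩ := tmul_spec R extraW_ok extraW_gap (n := num x) (m := num y)
      (hnl ▸ num_lt x) (hnl ▸ num_lt y)
    obtain ⟨-, h3⟩ := tmul_spec R' extraW_ok extraW_gap (n := num x) (m := num y)
      (hnl ▸ num_lt x) (hnl ▸ num_lt y)
    rw [num_spec, num_spec] at h2
    show trep extraCert q' (num (x * y)) = trep extraCert q' (num x) * trep extraCert q' (num y)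
    rw [← h3, B.inj _ (num_lt _) _ (hnl ▸ h1) ((num_spec (x * y)).trans h2.symm)]
  have hf : Function.Bijective f := by
    rw [← Finite.injective_iff_bijective, injective_iff_map_eq_one]
    intro x hx
    have h1 : trep extraCert q' (num x) = 1 := hx
    rw [trep_word R' extraW_ok extraW_gap (hnl ▸ num_lt x)] at h1
    by_contra hx1
    have hne : num x ≠ 0 := fun e => hx1 (by rw [← num_spec x, e, trep_zero R])
    have hc := hinj (num x) (List.mem_range.2 (num_lt x))
    rw [Bool.or_eq_true, Bool.and_eq_true, Bool.not_eq_true'] at hc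
    rcases hc with hc | ⟨hl, hc⟩
    · exact hne (Nat.eq_of_beq_eq_true hc)
    rw [(hev hl).2] at h1
    have e := B.inj _ (hnl ▸ (hev hl).1) 0 (by norm_num) (h1.trans (trep_zero R).symm)
    rw [e] at hc
    exact Bool.noConfusion hc
  refine ⟨MulEquiv.ofBijective f hf, fun j hj => ?_⟩
  show trep extraCert q' (num (q j)) = q' j
  have hgen : ∀ i < 5, extraCert.gens.getD i idL = 2 * i := by decide
  obtain ⟨h1, h2⟩ := tstep_spec R (c := 0) (j := j) R.pos (by exact hj)
  obtain ⟨-, h3⟩ := tstep_spec R' (c := 0) (j := j) R'.pos (by exact hj)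
  have hv : ∀ g : ℕ → P, lval g (2 * j) = g j := fun g => by
    rw [lval, if_neg (by show ¬ 30 ≤ 2 * j; omega), if_pos (by omega), Nat.mul_div_cancel_left j (by norm_num)]
  rw [trep_zero R, one_mul, hgen j hj, hv] at h2
  rw [trep_zero R', one_mul, hgen j hj, hv] at h3
  rw [h3, B.inj _ (num_lt _) _ (hnl ▸ h1) ((num_spec (q j)).trans h2)]

end Cfsg.Lib.J3Type
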