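import Cfsg.Agent.Lib.J3Type.Local

/-!
# The amalgam at `A`: the swap, the scalar and the alignment with the complement
-/

set_option autoImplicit false
set_option linter.unusedSectionVars false

namespace Cfsg.Lib.J3Type

open Subgroup

variable {G : Type*} [Group G] [Finite G] {t : G} {g : ℕ → G}

theorem Cen.card (H : Cen t g) : Nat.card (centralizer ({t} : Set G)) = 1920 := by
  let f : Fin 1920 → centralizer ({t} : Set G) := fun c =>
    ⟨trep cenCert g c, mem_centralizer_singleton_iff.2 ((H.full _).2 ⟨c, c.2, rfl⟩)⟩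
  have hf : Function.Bijective f := by
    refine ⟨fun a b e => Fin.ext (H.inj _ a.2 _ b.2 (congrArg Subtype.val e)), fun x => ?_⟩
    obtain ⟨c, hc, e⟩ := (H.full x).1 (mem_centralizer_singleton_iff.1 x.2)
    exact ⟨⟨c, hc⟩, Subtype.ext e⟩
  rw [← Nat.card_congr (Equiv.ofBijective f hf), Nat.card_fin]

/-- An element centralizing an involution has exponent dividing 1920. -/
theorem pow_cent (H : Cen t g) (ht : orderOf t = 2)
    (hone : ∀ x y : G, orderOf x = 2 → orderOf y = 2 → IsConj x y) {x f : G} (hf : orderOf f = 2)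
    (hxf : Commute x f) : x ^ 1920 = 1 := by
  obtain ⟨k, hk⟩ := isConj_iff.1 (hone t f ht hf)
  have hx : k⁻¹ * x * k ∈ centralizer ({t} : Set G) := mem_centralizer_singleton_iff.2 (by
    calc k⁻¹ * x * k * t = k⁻¹ * (x * (k * t * k⁻¹)) * k := by group
      _ = k⁻¹ * ((k * t * k⁻¹) * x) * k := by rw [hk, hxf.eq]
      _ = t * (k⁻¹ * x * k) := by group)
  have h := congrArg Subtype.val
    (pow_card_eq_one' (G := ↥(centralizer ({t} : Set G))) (x := ⟨_, hx⟩))
  rw [H.card] at h
  have h' : (k⁻¹ * x * k) ^ 1920 = 1 := by simpa using h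
  have e : k⁻¹ * x * k = k⁻¹ * x * (k⁻¹)⁻¹ := by rw [inv_inv]
  rw [e, conj_pow] at h'
  exact conj_eq_one_iff.1 h'

theorem cv_acts (H : Cen t g) {c : ℕ} (hc : c < 1920) (hv : cvTab.get 20 c < 65536) :
    Acts g (cvTab.get 20 c) (trep cenCert g c) := by
  have h := List.all_eq_true.1 cv_ok c (List.mem_range.2 hc)
  unfold cvOK at h
  have hb : Nat.blt (cvTab.get 20 c) 65536 = true := by simp [hv]
  simp only [hb, cond_true, Bool.and_eq_true, List.all_eq_true, List.mem_range] at h
  refine acts_of_basis H fun j hj => ?_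
  have h16 : 2 ^ j < 16 := lt_of_lt_of_le (Nat.pow_lt_pow_right (by norm_num) hj) le_rfl
  rw [mul_inv_eq_iff_eq_mul, aV, aV, H.eq_iff hc (avN_lt _ h16) (avN_lt _ (nib_lt _ j)) hc]
  exact Nat.eq_of_beq_eq_true (h.2 j hj).1

theorem wordM_lt (gs : List ℕ) : ∀ w, wordM gs w < 65536
  | [] => by norm_num [wordM, idM]
  | _ :: _ => compM_lt ..

/-- An element exchanging `t` and the outer involution. -/
theorem exists_swap (H : Cen t g) (ht : orderOf t = 2)
    (hone : ∀ x y : G, orderOf x = 2 → orderOf y = 2 → IsConj x y) :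
    ∃ h : G, h * t * h⁻¹ = aV g 2 ∧ h * aV g 2 * h⁻¹ = t := by
  classical
  have ho : orderOf (aV g 2) = 2 := orderOf_eq_prime (by rw [pow_two, aV_self H (by norm_num)])
    fun e => absurd (aV_inj H (by norm_num) (by norm_num) (e.trans (aV_zero H).symm)) (by norm_num : (2 : ℕ) ≠ 0)
  obtain ⟨k, hk⟩ := isConj_iff.1 (hone t _ ht ho)
  set y : G := k⁻¹ * t * k with hy
  have hot : Commute (aV g 2) t := aV_commute_t H (by norm_num)
  have hky : k * y * k⁻¹ = t := by rw [hy]; group
  have hyt : y * t = t * y := by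
    rw [← hk] at hot
    calc y * t = k⁻¹ * (t * (k * t * k⁻¹)) * k := by rw [hy]; group
      _ = k⁻¹ * (k * t * k⁻¹ * t) * k := by rw [hot.eq]
      _ = t * y := by rw [hy]; group
  obtain ⟨c, hc, hcy⟩ := (H.full y).1 hyt
  have htt : t * t = 1 := by rw [← pow_two, ← ht, pow_orderOf_eq_one]
  have hyy : y * y = 1 := by
    rw [hy]; calc k⁻¹ * t * k * (k⁻¹ * t * k) = k⁻¹ * (t * t) * k := by group
      _ = 1 := by rw [htt]; group
  have hcc : tmul cenCert cenW c c = 0 := H.inj _ (H.mul hc hc).1 0 (by norm_num)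
    (by rw [(H.mul hc hc).2, hcy, hyy, trep_zero H.reg])
  have hc0 : c ≠ 0 := fun e => by
    rw [e, trep_zero H.reg] at hcy
    have : t = 1 := by rw [← hky, ← hcy]; group
    rw [this, orderOf_one] at ht; norm_num at ht
  have hc1 : c ≠ avN 1 := fun e => by
    rw [e] at hcy
    have e1 : y = t := hcy.symm.trans (aV_one H)
    have e2 : aV g 2 = t := by rw [← hk]; conv_rhs => rw [← hky, e1]
    exact absurd (aV_inj H (by norm_num) (by norm_num) (e2.trans (aV_one H).symm)) (by norm_num : (2 : ℕ) ≠ 1)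
  have h := List.all_eq_true.1 inv_ok c (List.mem_range.2 hc)
  simp only [invOK, Bool.or_eq_true, Bool.not_eq_true', List.any_eq_true, Bool.and_eq_true] at h
  rcases h with ((h | h) | h) | ⟨⟨c', l⟩, -, ⟨-, hlt⟩, hl⟩
  · rw [hcc] at h; exact Bool.noConfusion h
  · exact absurd (Nat.eq_of_beq_eq_true h) hc0
  · exact absurd (Nat.eq_of_beq_eq_true h) hc1
  have hlt' : ∀ d ∈ l, d < 1920 := fun d hd =>
    Nat.lt_of_succ_le (Nat.le_of_ble_eq_true (List.all_eq_true.1 hlt d hd))
  have big : ∀ l : List ℕ, (∀ d ∈ l, d < 1920) → l.Nodup → l.length = 17 →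
      (∀ d ∈ l, tmul cenCert cenW d c = tmul cenCert cenW c d) → False := by
    intro l hl hnd hlen hcm
    have hA : ∀ d ∈ l, ∃ a < 16, k * trep cenCert g d * k⁻¹ = aV g a := by
      intro d hd
      have hdy : Commute (trep cenCert g d) y := by
        rw [← hcy]; exact (H.eq_iff (hl d hd) hc hc (hl d hd)).2 (hcm d hd)
      have hdt : Commute (trep cenCert g d) t := (H.full _).2 ⟨d, hl d hd, rfl⟩
      refine outer_cent H ?_ ?_
      · rw [← hky]; exact (Commute.conj_iff k).2 hdy
      · rw [← hk]; exact (Commute.conj_iff k).2 hdt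
    choose! f hf hfe using hA
    have hle : l.toFinset.card ≤ (Finset.range 16).card := by
      refine Finset.card_le_card_of_injOn f (fun d hd => ?_) ?_
      · rw [Finset.mem_coe, List.mem_toFinset] at hd
        rw [Finset.mem_coe, Finset.mem_range]; exact hf d hd
      · intro d hd d' hd' e
        rw [Finset.mem_coe, List.mem_toFinset] at hd hd'
        have e1 := hfe d hd
        rw [e, ← hfe d' hd'] at e1
        exact H.inj _ (hl d hd) _ (hl d' hd') (mul_left_cancel (mul_right_cancel e1))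
    rw [List.toFinset_card_of_nodup hnd, hlen, Finset.card_range] at hle
    omega
  rcases l with - | ⟨d, - | ⟨d', l⟩⟩
  · simp at hl
  · simp only at hl
    have hd := hlt' d (by simp)
    have e := (H.eq_iff hd (avN_lt 2 (by norm_num)) hc hd).2 (Nat.eq_of_beq_eq_true hl)
    have hdt : Commute (trep cenCert g d) t := (H.full _).2 ⟨d, hd, rfl⟩
    refine ⟨k * trep cenCert g d, ?_, ?_⟩
    · rw [← hk]
      calc k * trep cenCert g d * t * (k * trep cenCert g d)⁻¹
          = k * (trep cenCert g d * t * (trep cenCert g d)⁻¹) * k⁻¹ := by group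
        _ = k * t * k⁻¹ := by rw [hdt.eq, mul_inv_cancel_right]
    · calc k * trep cenCert g d * aV g 2 * (k * trep cenCert g d)⁻¹
          = k * (trep cenCert g d * aV g 2) * (trep cenCert g d)⁻¹ * k⁻¹ := by group
        _ = k * y * k⁻¹ := by rw [aV, e, hcy]; group
        _ = t := hky
  · exfalso
    simp only [Bool.and_eq_true, decide_eq_true_eq, List.all_eq_true] at hl
    exact big _ hlt' hl.1.2 (Nat.eq_of_beq_eq_true hl.1.1) fun x hx => Nat.eq_of_beq_eq_true (hl.2 x hx)

/-- The swap acts by the one possible map. -/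
theorem exists_sigma (H : Cen t g) (ht : orderOf t = 2)
    (hone : ∀ x y : G, orderOf x = 2 → orderOf y = 2 → IsConj x y) : ∃ h : G, Acts g sigmaT h := by
  obtain ⟨h, h1, h2⟩ := exists_swap H ht hone
  have hA : ∀ a : ℕ, a < 16 → ∃ b < 16, h * aV g a * h⁻¹ = aV g b := by
    intro a ha
    refine outer_cent H ?_ ?_
    · rw [← h2]; exact (Commute.conj_iff h).2 (aV_comm H ha (by norm_num))
    · rw [← h1]; exact (Commute.conj_iff h).2 (aV_commute_t H ha)
  obtain ⟨s2, hs2, e2⟩ := hA 4 (by norm_num)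
  obtain ⟨s3, hs3, e3⟩ := hA 8 (by norm_num)
  have hk : 16 * s2 + s3 < 256 := by omega
  have hσ : Acts g (sigCand (16 * s2 + s3)) h := by
    refine acts_of_basis H fun j hj => ?_
    have hn : nib (sigCand (16 * s2 + s3)) j = [2, 1, s2, s3].getD j 0 := by
      show (18 + (256 * ((16 * s2 + s3) / 16) + 4096 * ((16 * s2 + s3) % 16))) >>> (4 * j) % 16 = _
      rw [Nat.shiftRight_eq_div_pow, show (16 * s2 + s3) / 16 = s2 by omega, show (16 * s2 + s3) % 16 = s3 by omega]
      interval_cases j <;> simp <;> omega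
    rw [hn]
    interval_cases j
    · simpa [aV_one H] using h1
    · simpa [aV_one H] using h2
    · simpa using e2
    · simpa using e3
  refine ⟨h, ?_⟩
  have hok := List.all_eq_true.1 sigma_ok _ (List.mem_range.2 hk)
  simp only [sigmaOK] at hok
  set s := sigCand (16 * s2 + s3)
  have hs : s < 65536 := by
    show 18 + (256 * ((16 * s2 + s3) / 16) + 4096 * ((16 * s2 + s3) % 16)) < _
    omega
  generalize sigmaCases.getD (16 * s2 + s3) (0, [], 0) = cc at hok
  obtain ⟨kind, w, f⟩ := cc
  simp (config := { failIfUnchanged := false }) only at hok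
  have hword : (w.all fun i => Nat.blt i 3) = true → ∃ x : G, Acts g (wordM (sigGens s) w) x := by
    intro hw
    refine acts_word H (xs := fun i => if i = 2 then h else trep cenCert g (mIdx.getD i 0)) (k := 3) ?_ w hw
    intro i hi
    rcases Nat.lt_succ_iff_lt_or_eq.1 hi with hi | rfl
    · obtain ⟨m1, m2, m3⟩ := mIdx_facts i hi
      rw [if_neg (by omega)]
      have := cv_acts H m1 (m2 ▸ m3)
      rw [m2] at this
      interval_cases i <;> exact this
    · rw [if_pos rfl]; exact hσ
  by_cases k0 : Nat.beq kind 0 = true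
  · exfalso
    simp only [k0, cond_true, Bool.not_eq_true'] at hok
    have hh : ∀ a : G, Commute (h * h) a ↔ h * h * a * (h * h)⁻¹ = a := fun a => by
      rw [mul_inv_eq_iff_eq_mul]; exact Iff.rfl
    obtain ⟨a, ha, e⟩ := outer_cent H (x := h * h)
      ((hh _).2 (by
        calc h * h * t * (h * h)⁻¹ = h * (h * t * h⁻¹) * h⁻¹ := by group
          _ = t := by rw [h1, h2]))
      ((hh _).2 (by
        calc h * h * aV g 2 * (h * h)⁻¹ = h * (h * aV g 2 * h⁻¹) * h⁻¹ := by group
          _ = aV g 2 := by rw [h2, h1]))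
    have e' : compM s s = idM := (hσ.mul H hσ).unique H (compM_lt ..) (by norm_num [idM]) (e ▸ acts_aV H ha)
    rw [e', Nat.beq_refl] at hok
    exact Bool.noConfusion hok
  rw [eq_false_of_ne_true k0, cond_false] at hok
  by_cases k1 : Nat.beq kind 1 = true
  · exfalso
    simp only [k1, cond_true, Bool.and_eq_true, Bool.not_eq_true'] at hok
    obtain ⟨⟨hw, hfix⟩, hn⟩ := hok
    obtain ⟨x, hx⟩ := hword hw
    have hxt : x * t = t * x := by
      have := hx 1 (by norm_num)
      rwa [Nat.eq_of_beq_eq_true hfix, aV_one H, mul_inv_eq_iff_eq_mul] at this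
    obtain ⟨c, hc, rfl⟩ := (H.full x).1 hxt
    have := (cv_code H hc (wordM_lt _ _) hx).2.1
    rw [inH0, List.any_eq_false] at hn
    exact hn _ this (Nat.beq_refl _)
  rw [eq_false_of_ne_true k1, cond_false] at hok
  by_cases k2 : Nat.beq kind 2 = true
  · exfalso
    simp only [k2, cond_true, Bool.and_eq_true, Bool.not_eq_true'] at hok
    obtain ⟨⟨⟨⟨hw, hf2⟩, hf16⟩, hfix⟩, hp⟩ := hok
    have hf16' : f < 16 := Nat.lt_of_succ_le (Nat.le_of_ble_eq_true hf16)
    have hf2' : 2 ≤ f := Nat.le_of_ble_eq_true hf2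
    obtain ⟨x, hx⟩ := hword hw
    have hxf : Commute x (aV g f) := by
      have := hx f hf16'
      rwa [Nat.eq_of_beq_eq_true hfix, mul_inv_eq_iff_eq_mul] at this
    have hof : orderOf (aV g f) = 2 := orderOf_eq_prime (by rw [pow_two, aV_self H hf16']) fun e => by
      have := aV_inj H hf16' (by norm_num) (e.trans (aV_zero H).symm)
      omega
    set M := wordM (sigGens s) w
    have sq : ∀ {N : ℕ} {n : ℕ}, Acts g N (x ^ n) → Acts g (compM N N) (x ^ (n + n)) := fun {N n} h => by
      rw [pow_add]; exact h.mul H h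
    have hbig : Acts g (powBig M) (x ^ 1920) := sq (sq (sq (sq (sq (sq (sq (hx.pow H 15)))))))
    rw [pow_cent H ht hone hof hxf] at hbig
    have e : powBig M = idM := hbig.unique H (compM_lt ..) (by norm_num [idM]) (acts_one H)
    rw [e, Nat.beq_refl] at hp
    exact Bool.noConfusion hp
  rw [eq_false_of_ne_true k2, cond_false] at hok
  rwa [← Nat.eq_of_beq_eq_true hok]

/-- The scalar of order three aligned with the complement. -/
theorem exists_amal (H : Cen t g) (ht : orderOf t = 2)
    (hone : ∀ x y : G, orderOf x = 2 → orderOf y = 2 → IsConj x y) : ∃ d, Amal g d := by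
  obtain ⟨h, hh⟩ := exists_sigma H ht hone
  have hgen : ∀ j < 2, Acts g (mGen.getD j idM) (trep cenCert g (mIdx.getD j 0)) := fun j hj => by
    obtain ⟨m1, m2, m3⟩ := mIdx_facts j hj
    have := cv_acts H m1 (m2 ▸ m3)
    rwa [m2] at this
  have hreal : ∀ i < 180, ∃ x, Acts g (sTab.get 16 i) x := by
    intro i hi
    have h' := List.all_eq_true.1 sWords_ok i (List.mem_range.2 hi)
    simp only [Bool.and_eq_true] at h'
    rw [← Nat.eq_of_beq_eq_true h'.1.2]
    refine acts_word H (xs := fun i => if i = 2 then h else trep cenCert g (mIdx.getD i 0)) (k := 3) ?_ _ h'.1.1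
    intro j hj
    rcases Nat.lt_succ_iff_lt_or_eq.1 hj with hj | rfl
    · rw [if_neg (by omega)]
      have := hgen j hj
      interval_cases j <;> exact this
    · rw [if_pos rfl]; exact hh
  obtain ⟨⟨i₀, hi₀, ei₀⟩, hsd3, hfix, -, hsdlt, hsdid⟩ := sdM_facts
  obtain ⟨x, hx⟩ := hreal i₀ hi₀
  rw [ei₀] at hx
  have hx3 : x * x * x = 1 := by
    have h3 : Acts g idM (x * (x * x)) := hsd3 ▸ hx.mul H (hx.mul H hx)
    obtain ⟨a, ha, e⟩ := h3.triv H
    have hc := hx a ha
    rw [← e] at hc
    have h1 : x * (x * (x * x)) * x⁻¹ = x * (x * x) := by group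
    rw [h1, e] at hc
    have := hfix a ha (aV_inj H ha (appM_lt ..) hc).symm
    rw [this, aV_zero H] at e
    rw [mul_assoc]; exact e
  obtain ⟨hr1, hr2, hr3, hcm⟩ := mGen_rels
  obtain ⟨a, ha, hca⟩ := exists_lift H hx (hgen 0 (by norm_num)) (hcm 0 (by norm_num)).1
  obtain ⟨b, hb, hcb⟩ := exists_lift H hx (hgen 1 (by norm_num)) (hcm 1 (by norm_num)).1
  have hm : ∀ j < 2, mIdx.getD j 0 < 1920 := fun j hj => (mIdx_facts j hj).1
  have lift_eq : ∀ j < 2, ∀ e < 16, liftN j e < 1920 ∧
      trep cenCert g (liftN j e) = aV g e * trep cenCert g (mIdx.getD j 0) :=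
    fun j hj e he => H.mul (avN_lt e he) (hm j hj)
  have lacts : ∀ j < 2, ∀ e < 16, Acts g (mGen.getD j idM) (trep cenCert g (liftN j e)) := fun j hj e he => by
    rw [(lift_eq j hj e he).2]
    have := (acts_aV H he).mul H (hgen j hj)
    rwa [(hcm j hj).2] at this
  set u := trep cenCert g (liftN 0 a) with hu
  set v := trep cenCert g (liftN 1 b) with hv
  have hud : Commute u x := by rw [hu, (lift_eq 0 (by norm_num) a ha).2]; exact hca
  have hvd : Commute v x := by rw [hv, (lift_eq 1 (by norm_num) b hb).2]; exact hcb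
  have hu0 : Acts g (mGen.getD 0 idM) u := lacts 0 (by norm_num) a ha
  have hv0 : Acts g (mGen.getD 1 idM) v := lacts 1 (by norm_num) b hb
  have one_lift : ∀ {M : ℕ} {y : G}, M = idM → Acts g M y → Commute y x → y = 1 := fun {M y} e hy hc =>
    lift_unique H hx (e ▸ hy) (acts_one H) hc (Commute.one_left x)
  have e1 : u * u = 1 := one_lift hr1 (hu0.mul H hu0) (hud.mul_left hud)
  have e2 : v * v * v = 1 := one_lift hr2 ((hv0.mul H hv0).mul H hv0) ((hvd.mul_left hvd).mul_left hvd)
  have e3 : u * v * (u * v) * (u * v) = 1 :=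
    one_lift hr3 (((hu0.mul H hv0).mul H (hu0.mul H hv0)).mul H (hu0.mul H hv0))
      (((hud.mul_left hvd).mul_left (hud.mul_left hvd)).mul_left (hud.mul_left hvd))
  have la := (lift_eq 0 (by norm_num) a ha).1
  have lb := (lift_eq 1 (by norm_num) b hb).1
  have hrels : liftRels a b = true := by
    have z : ∀ {n : ℕ}, n < 1920 → trep cenCert g n = 1 → n = 0 := fun {n} hn e =>
      H.inj _ hn 0 (by norm_num) (e.trans (trep_zero H.reg).symm)
    simp only [liftRels, Bool.and_eq_true]
    refine ⟨⟨Nat.beq_eq.mpr (z (H.mul la la).1 ?_), Nat.beq_eq.mpr (z (H.mul (H.mul lb lb).1 lb).1 ?_)⟩,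
      Nat.beq_eq.mpr (z (H.mul (H.mul (H.mul la lb).1 (H.mul la lb).1).1 (H.mul la lb).1).1 ?_)⟩
    · rw [(H.mul la la).2]; exact e1
    · rw [(H.mul (H.mul lb lb).1 lb).2, (H.mul lb lb).2]; exact e2
    · rw [(H.mul (H.mul (H.mul la lb).1 (H.mul la lb).1).1 (H.mul la lb).1).2,
        (H.mul (H.mul la lb).1 (H.mul la lb).1).2, (H.mul la lb).2]
      exact e3
  have hl := List.all_eq_true.1 (List.all_eq_true.1 lift_ok a (List.mem_range.2 ha)) b (List.mem_range.2 hb)
  simp only [Bool.or_eq_true, Bool.not_eq_true', hrels, Bool.true_eq_false, false_or, List.any_eq_true,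
    List.mem_range, Bool.and_eq_true] at hl
  obtain ⟨e, he, q1, q2⟩ := hl
  have conj_eq : ∀ {n m : ℕ}, n < 1920 →
      Nat.beq (tmul cenCert cenW (tmul cenCert cenW (avN e) n) (avN e)) m = true →
      aV g e * trep cenCert g n * aV g e = trep cenCert g m := fun {n m} hn h => by
    have := (H.mul (H.mul (avN_lt e he) hn).1 (avN_lt e he)).2
    rw [(H.mul (avN_lt e he) hn).2, Nat.eq_of_beq_eq_true h] at this
    exact this.symm
  refine ⟨aV g e * x * aV g e, ?_, ?_, ?_, fun i hi => ?_⟩
  · calc aV g e * x * aV g e * (aV g e * x * aV g e) * (aV g e * x * aV g e)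
        = aV g e * x * (aV g e * aV g e) * x * (aV g e * aV g e) * x * aV g e := by group
      _ = aV g e * (x * x * x) * aV g e := by rw [aV_self H he]; group
      _ = 1 := by rw [hx3, mul_one, aV_self H he]
  · have := ((acts_aV H he).mul H hx).mul H (acts_aV H he)
    rw [show compM (compM idM sdM) idM = sdM by decide +kernel] at this
    exact this
  · have key : ∀ {y z : G}, aV g e * y * aV g e = z → Commute y x → Commute z (aV g e * x * aV g e) := by
      intro y z hz hy
      rw [← hz]
      have := (Commute.conj_iff (aV g e)).2 hy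
      rwa [aV_inv H he] at this
    intro j hj
    interval_cases j
    · exact key (conj_eq la q1) hud
    · exact key (conj_eq lb q2) hvd
  · obtain ⟨y, hy⟩ := hreal i hi
    have h' := List.all_eq_true.1 sWords_ok i (List.mem_range.2 hi)
    simp only [Bool.and_eq_true] at h'
    obtain ⟨f, hf, hc⟩ := exists_lift H hx hy (Nat.eq_of_beq_eq_true h'.2)
    refine ⟨aV g e * (aV g f * y) * aV g e, ?_, ?_⟩
    · have := ((acts_aV H he).mul H ((acts_aV H hf).mul H hy)).mul H (acts_aV H he)
      have hM : ∀ i < 180, compM (compM idM (compM idM (sTab.get 16 i))) idM = sTab.get 16 i := by decide +kernel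
      rwa [hM i hi] at this
    · have := (Commute.conj_iff (aV g e)).2 hc
      rwa [aV_inv H he] at this

end Cfsg.Lib.J3Type
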