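import Cfsg.Agent.Lib.J3Type.Semi
import Cfsg.Agent.Lib.J3Type.LocalExist

/-!
# The letters and the evaluation of relations
-/

set_option autoImplicit false
set_option linter.unusedSectionVars false
set_option maxRecDepth 100000

namespace Cfsg.Lib.J3Type

variable {G : Type*} [Group G] [Finite G] {t : G} {g : ℕ → G} {d k n : G}

/-- The letters: eight in the centralizer, then `d`, `k`, `n` and the inverter `i`. -/
def gL (g : ℕ → G) (d k n i : G) : ℕ → G := fun j =>
  if j < 8 then trep cenCert g (smallIdx.getD j (0, 0)).1 else if j = 8 then d else if j = 9 then k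
  else if j = 10 then n else i

/-- The conjugator taking `t` to `w`. -/
def uEl (g : ℕ → G) (n : G) : G := trep cenCert g cIdx.1 * n

/-- The image of a letter of the centralizer of `w`. -/
def wImg (x y : ℕ × ℕ) : List (ℕ × ℕ) :=
  (List.range 12).map fun j =>
    bif Nat.beq j 0 then (avN (wSmall.getD 0 (0, 0)).2, avN (wSmall.getD 0 (0, 0)).2)
    else bif Nat.beq j 2 then (avN (wSmall.getD 1 (0, 0)).2, avN (wSmall.getD 1 (0, 0)).2)
    else bif Nat.beq j 4 then (avN (wSmall.getD 2 (0, 0)).2, avN (wSmall.getD 2 (0, 0)).2)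
    else bif Nat.beq j 8 then x else bif Nat.beq j 11 then y else (0, 0)

/-- The letters in the centralizer. -/
def cDom : List ℕ := [0, 1, 2, 3, 4, 5, 6, 7]

/-- The letters in the centralizer of `w`, without the inverter. -/
def xDom : List ℕ := [0, 2, 4, 8]

/-- The letters in the centralizer of `w`. -/
def yDom : List ℕ := [0, 2, 4, 8, 11]

/-- All letters of the word are among the given ones. -/
def inDom (dom : List ℕ) (w : List ℕ) : Bool :=
  w.all fun l => dom.any (Nat.beq (Nat.div l 2)) && Nat.blt l idL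

/-- The relation holds by an evaluation, or it is one of the listed ones. -/
def okRule (dom : List ℕ) (wim : List (ℕ × ℕ)) (ex : List (List ℕ)) (r : List ℕ) : Bool :=
  (inDom cDom r && Nat.beq (teval cenCert cenW smallIdx r) 0) ||
    (inDom naDom r && pEq (naEval naPair naInv r) (0, idM)) ||
    (inDom dom r && Nat.beq (teval cenCert cenW wim r) 0) || isRule ex r

theorem letters_facts :
    imgsOK cenCert cenW smallIdx = true ∧ smallIdx.length = 8 ∧ cIdx.1 < 1920 ∧ cIdx.2 < 1920 ∧
    lettersOK 8 cWord = true ∧ teval cenCert cenW smallIdx cWord = cIdx.1 ∧ uWord = cWord ++ [20] ∧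
    (∀ j < 8, (smallIdx.getD j (0, 0)).1 < 1920) := by decide +kernel

theorem m0_facts : ((List.range 12).all fun j => (m0Words.getD j []).all (fun i => Nat.blt i 2) &&
    Nat.blt (m0List.getD j 0) 1920 && Nat.blt (m0Act.getD j 0) 65536 &&
    Nat.beq (cvTab.get 20 (m0List.getD j 0)) (m0Act.getD j 0) &&
    Nat.beq ((m0Words.getD j []).foldr (fun i c => tmul cenCert cenW (mIdx.getD i 0) c) 0) (m0List.getD j 0))
      = true := by decide +kernel

theorem naSmall_ok : ((naDom.filter fun j => Nat.blt j 8).all fun j => (List.range 12).any fun i =>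
    Nat.blt (naPair.getD j (0, idM)).1 16 && Nat.beq (naPair.getD j (0, idM)).2 (m0Act.getD i 0) &&
    Nat.beq (tmul cenCert cenW (avN (naPair.getD j (0, idM)).1) (m0List.getD i 0))
      (smallIdx.getD j (0, 0)).1) = true := by decide +kernel

theorem naPair_ok : (∀ j ∈ naDom, pairOK (naPair.getD j (0, idM)) = true ∧ pairOK (naInv.getD j (0, idM)) = true ∧
    pMul (naPair.getD j (0, idM)) (naInv.getD j (0, idM)) = (0, idM)) ∧
    naPair.getD 8 (0, idM) = (0, sdM) ∧ (naPair.getD 9 (0, idM)).1 = 0 ∧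
    appM (naPair.getD 10 (0, idM)).2 1 = 2 ∧ (∀ j ∈ naDom, j < 11) := by decide +kernel

theorem wSmall_ok : ∀ s < 3, (wSmall.getD s (0, 0)).1 < 16 ∧ (wSmall.getD s (0, 0)).2 < 16 ∧
    tmul cenCert cenW cIdx.1 (avN (wSmall.getD s (0, 0)).1) =
      tmul cenCert cenW (smallIdx.getD (2 * s) (0, 0)).1 cIdx.1 ∧
    appM (naPair.getD 10 (0, idM)).2 (wSmall.getD s (0, 0)).2 = (wSmall.getD s (0, 0)).1 := by decide +kernel

theorem w_facts : (smallIdx.getD 4 (0, 0)).1 < 1920 ∧
    tmul cenCert cenW cIdx.1 (avN 2) = tmul cenCert cenW (smallIdx.getD 4 (0, 0)).1 cIdx.1 ∧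
    (naPair.getD 4 (0, idM)).1 = 0 := by decide +kernel

/-- The data fixed by the amalgam. -/
structure Cfg (t : G) (g : ℕ → G) (d k n : G) : Prop where
  cen : Cen t g
  amal : Amal g d
  kval : Val g d (naPair.getD 9 (0, idM)) k
  nval : Val g d (naPair.getD 10 (0, idM)) n

variable (i : G)

theorem gL_small {j : ℕ} (hj : j < 8) : gL g d k n i j = trep cenCert g (smallIdx.getD j (0, 0)).1 := if_pos hj

theorem gL_d : gL g d k n i 8 = d := by simp [gL]

theorem gL_k : gL g d k n i 9 = k := by simp [gL]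

theorem gL_n : gL g d k n i 10 = n := by simp [gL]

theorem gL_i : gL g d k n i 11 = i := by simp [gL]

variable {i}

theorem trep_mword (H : Cen t g) : ∀ w : List ℕ, (w.all fun i => Nat.blt i 2) = true →
    w.foldr (fun i c => tmul cenCert cenW (mIdx.getD i 0) c) 0 < 1920 ∧
      ∀ d : G, (∀ j < 2, Commute (trep cenCert g (mIdx.getD j 0)) d) →
        Commute (trep cenCert g (w.foldr (fun i c => tmul cenCert cenW (mIdx.getD i 0) c) 0)) d
  | [], _ => ⟨by norm_num, fun d _ => by rw [List.foldr_nil, trep_zero H.reg]; exact Commute.one_left d⟩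
  | i :: w, h => by
    rw [List.all_cons, Bool.and_eq_true] at h
    obtain ⟨h1, h2⟩ := trep_mword H w h.2
    have hi : i < 2 := Nat.lt_of_succ_le (Nat.le_of_ble_eq_true h.1)
    obtain ⟨m1, -, -⟩ := mIdx_facts i hi
    rw [List.foldr_cons]
    refine ⟨(H.mul m1 h1).1, fun d hd => ?_⟩
    rw [(H.mul m1 h1).2]
    exact (hd i hi).mul_left (h2 d hd)

/-- The letters in the normalizer of `A` have their normal forms. -/
theorem Cfg.val (C : Cfg t g d k n) (i : G) {j : ℕ} (hj : j ∈ naDom) :
    Val g d (naPair.getD j (0, idM)) (gL g d k n i j) := by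
  obtain ⟨-, h8, -, -, hlt⟩ := naPair_ok
  have := hlt j hj
  by_cases h : j < 8
  · have hs := List.all_eq_true.1 naSmall_ok j (List.mem_filter.2 ⟨hj, by simp [h]⟩)
    simp only [List.any_eq_true, List.mem_range, Bool.and_eq_true] at hs
    obtain ⟨q, hq, ⟨ha, hM⟩, he⟩ := hs
    have hm := List.all_eq_true.1 m0_facts q (List.mem_range.2 hq)
    simp only [Bool.and_eq_true] at hm
    obtain ⟨⟨⟨⟨hw, hlt'⟩, hact⟩, hcv⟩, hfold⟩ := hm
    have hc : m0List.getD q 0 < 1920 := Nat.lt_of_succ_le (Nat.le_of_ble_eq_true hlt')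
    have ha' : (naPair.getD j (0, idM)).1 < 16 := Nat.lt_of_succ_le (Nat.le_of_ble_eq_true ha)
    refine ⟨ha', trep cenCert g (m0List.getD q 0), ?_, ?_, ?_⟩
    · rw [gL_small i h, aV, ← (C.cen.mul (avN_lt _ ha') hc).2, Nat.eq_of_beq_eq_true he]
    · have hv : cvTab.get 20 (m0List.getD q 0) < 65536 := by
        rw [Nat.eq_of_beq_eq_true hcv]; exact Nat.lt_of_succ_le (Nat.le_of_ble_eq_true hact)
      have := cv_acts C.cen hc hv
      rw [Nat.eq_of_beq_eq_true hcv] at this
      rwa [Nat.eq_of_beq_eq_true hM]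
    · have := (trep_mword C.cen _ hw).2 d C.amal.comm
      rwa [Nat.eq_of_beq_eq_true hfold] at this
  · obtain rfl | rfl | rfl : j = 8 ∨ j = 9 ∨ j = 10 := by omega
    · rw [gL_d, h8]
      exact ⟨by norm_num, d, by rw [aV_zero C.cen, one_mul], C.amal.acts, Commute.refl d⟩
    · rw [gL_k]; exact C.kval
    · rw [gL_n]; exact C.nval

theorem Cfg.kd (C : Cfg t g d k n) : Commute k d := by
  have h : naPair.getD 9 (0, idM) = (0, (naPair.getD 9 (0, idM)).2) := Prod.ext naPair_ok.2.2.1 rfl
  have := C.kval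
  rw [h] at this
  exact this.commute C.cen

/-- The image of `t` under the conjugator. -/
theorem Cfg.u_t (C : Cfg t g d k n) :
    uEl g n * t * (uEl g n)⁻¹ = trep cenCert g (smallIdx.getD 4 (0, 0)).1 := by
  obtain ⟨-, -, hc, -⟩ := letters_facts
  have h := C.nval.conj C.cen (show 1 < 16 by norm_num)
  rw [naPair_ok.2.2.2.1, aV_one C.cen] at h
  obtain ⟨hw, he, -⟩ := w_facts
  have e2 := (C.cen.eq_iff hc (avN_lt 2 (by norm_num)) hw hc).2 he
  calc uEl g n * t * (uEl g n)⁻¹ = trep cenCert g cIdx.1 * (n * t * n⁻¹) * (trep cenCert g cIdx.1)⁻¹ := by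
        rw [uEl]; group
    _ = trep cenCert g cIdx.1 * aV g 2 * (trep cenCert g cIdx.1)⁻¹ := by rw [h]
    _ = _ := by rw [aV, e2, mul_inv_cancel_right]

/-- The conjugate of a letter commuting with `w`. -/
theorem Cfg.u_small (C : Cfg t g d k n) (i : G) {s : ℕ} (hs : s < 3) :
    (uEl g n)⁻¹ * gL g d k n i (2 * s) * uEl g n = aV g (wSmall.getD s (0, 0)).2 := by
  obtain ⟨ha, hb, he, hn⟩ := wSmall_ok s hs
  obtain ⟨-, -, hc, -, -, -, -, hsm⟩ := letters_facts
  have h2 := C.nval.conj C.cen hb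
  rw [hn] at h2
  have e2 := (C.cen.eq_iff hc (avN_lt _ ha) (hsm _ (by omega)) hc).2 he
  rw [gL_small i (by omega)]
  calc (uEl g n)⁻¹ * trep cenCert g (smallIdx.getD (2 * s) (0, 0)).1 * uEl g n
      = n⁻¹ * (trep cenCert g cIdx.1)⁻¹ * (trep cenCert g (smallIdx.getD (2 * s) (0, 0)).1 *
          trep cenCert g cIdx.1) * n := by rw [uEl]; group
    _ = n⁻¹ * aV g (wSmall.getD s (0, 0)).1 * n := by rw [← e2, aV]; group
    _ = _ := by rw [← h2]; group

theorem Cfg.wval_uWord (C : Cfg t g d k n) (i : G) : wval (gL g d k n i) uWord = uEl g n := by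
  obtain ⟨hi, hlen, hc, -, hl, he, hu, -⟩ := letters_facts
  have h := (teval_spec C.cen.reg cenW_ok cenW_gap hi (g' := gL g d k n i)
    (fun j hj => gL_small i (hlen ▸ hj)) (w := cWord) (hlen.symm ▸ hl)).2
  rw [hu, wval_append, h, he, wval_cons, wval_nil, mul_one]
  simp [lval, idL, gL, uEl]

/-- The word saying that the conjugate of a letter is given by a word. -/
def exWord (l : ℕ) (xw : List ℕ) : List ℕ := invW uWord ++ [l] ++ uWord ++ invW xw

theorem Cfg.exWord_val (C : Cfg t g d k n) (i : G) {j x : ℕ} (hj : j < 15) {xw : List ℕ}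
    (hl : lettersOK 8 xw = true) (he : teval cenCert cenW smallIdx xw = x)
    (h : (uEl g n)⁻¹ * gL g d k n i j * uEl g n = trep cenCert g x) :
    wval (gL g d k n i) (exWord (2 * j) xw) = 1 := by
  obtain ⟨hi, hlen, -⟩ := letters_facts
  have hx := (teval_spec C.cen.reg cenW_ok cenW_gap hi (g' := gL g d k n i)
    (fun j hj => gL_small i (hlen ▸ hj)) (w := xw) (hlen.symm ▸ hl)).2
  have h1 : lval (gL g d k n i) (2 * j) = gL g d k n i j := by
    rw [lval, if_neg (by show ¬ 30 ≤ 2 * j; omega), if_pos (by omega), Nat.mul_div_cancel_left j (by norm_num)]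
  rw [exWord, wval_append, wval_append, wval_append, wval_invW, wval_invW, C.wval_uWord i, hx, he,
    wval_cons, wval_nil, mul_one, h1, h, mul_inv_cancel]

omit [Finite G] in
theorem wval_congr {f f' : ℕ → G} : ∀ {w : List ℕ}, (∀ l ∈ w, f (l / 2) = f' (l / 2)) → wval f w = wval f' w
  | [], _ => rfl
  | l :: w, h => by
    rw [wval_cons, wval_cons, wval_congr fun m hm => h m (List.mem_cons_of_mem _ hm)]
    unfold lval
    rw [h l (List.mem_cons_self ..)]

theorem inDom_spec {dom w : List ℕ} (h : inDom dom w = true) : ∀ l ∈ w, l / 2 ∈ dom ∧ l < idL := by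
  intro l hl
  have h := List.all_eq_true.1 h l hl
  rw [Bool.and_eq_true, List.any_eq_true] at h
  obtain ⟨⟨j, hj, e⟩, h2⟩ := h
  exact ⟨by rw [show l / 2 = Nat.div l 2 from rfl, Nat.eq_of_beq_eq_true e]; exact hj,
    Nat.lt_of_succ_le (Nat.le_of_ble_eq_true h2)⟩

/-- Rules passing the check hold. -/
theorem Cfg.okRule_val (C : Cfg t g d k n) (i : G) {dom : List ℕ} (hdom : ∀ j ∈ dom, j < 12)
    {wim : List (ℕ × ℕ)} (hwim : imgsOK cenCert cenW wim = true) (hlen : wim.length = 12)
    (hw : ∀ j ∈ dom, (uEl g n)⁻¹ * gL g d k n i j * uEl g n = trep cenCert g (wim.getD j (0, 0)).1)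
    {ex : List (List ℕ)} (hex : ∀ r ∈ ex, wval (gL g d k n i) r = 1) {r : List ℕ}
    (h : okRule dom wim ex r = true) : wval (gL g d k n i) r = 1 := by
  classical
  unfold okRule at h
  simp only [Bool.or_eq_true, Bool.and_eq_true] at h
  obtain ⟨hi, hl8, -⟩ := letters_facts
  rcases h with ((⟨hd, he⟩ | ⟨hd, he⟩) | ⟨hd, he⟩) | h
  · have hlo : lettersOK smallIdx.length r = true := by
      simp only [lettersOK, List.all_eq_true, Bool.and_eq_true]
      intro l hl
      obtain ⟨h1, h2⟩ := inDom_spec hd l hl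
      have : l / 2 < 8 := (show ∀ j ∈ cDom, j < 8 by decide) _ h1
      rw [hl8]
      refine ⟨?_, ?_⟩ <;> simp <;> omega
    have := (teval_spec C.cen.reg cenW_ok cenW_gap hi (g' := gL g d k n i)
      (fun j hj => gL_small i (hl8 ▸ hj)) hlo).2
    rw [this, Nat.eq_of_beq_eq_true he, trep_zero C.cen.reg]
  · obtain ⟨hp, -⟩ := naPair_ok
    have := naEval_spec C.cen (pos := naPair) (neg := naInv) (f := gL g d k n i) (d := d) r (fun l hl => by
      obtain ⟨h1, h2⟩ := inDom_spec hd l hl
      exact ⟨h2, C.val i h1, (C.val i h1).inv C.cen C.amal (hp _ h1).2.1 (hp _ h1).2.2⟩)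
    rw [eq_of_pEq he] at this
    exact this.eq_one C.cen C.amal.acts
  · let f : ℕ → G := fun j => if j ∈ dom then (uEl g n)⁻¹ * gL g d k n i j * uEl g n
      else trep cenCert g (wim.getD j (0, 0)).1
    have hf : ∀ j < wim.length, f j = trep cenCert g (wim.getD j (0, 0)).1 := fun j _ => by
      by_cases hj : j ∈ dom
      · simp only [f, if_pos hj]; exact hw j hj
      · simp only [f, if_neg hj]
    have hlo : lettersOK wim.length r = true := by
      simp only [lettersOK, List.all_eq_true, Bool.and_eq_true]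
      intro l hl
      obtain ⟨h1, h2⟩ := inDom_spec hd l hl
      have := hdom _ h1
      rw [hlen]
      refine ⟨?_, ?_⟩ <;> simp <;> omega
    have h2 := (teval_spec C.cen.reg cenW_ok cenW_gap hwim hf hlo).2
    rw [Nat.eq_of_beq_eq_true he, trep_zero C.cen.reg] at h2
    rw [wval_congr (f' := fun j => (MulAut.conj (uEl g n)⁻¹).toMonoidHom (gL g d k n i j))
      (fun l hl => by simp [f, (inDom_spec hd l hl).1, MulAut.conj_apply])] at h2
    rw [← wval_map (MulAut.conj (uEl g n)⁻¹).toMonoidHom] at h2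
    exact (map_eq_one_iff _ (MulAut.conj (uEl g n)⁻¹).injective).1 h2
  · exact wval_isRule hex h

end Cfsg.Lib.J3Type
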