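import Cfsg.Agent.S3035
import Cfsg.Agent.Lib.Extra.SuzLocal.CQuot
import Cfsg.Agent.Lib.Sig.Small

/-!
# An inverter of an element of order three centralizing an element of order five

If `C(d)/⟨d⟩` has an involution with dihedral centralizer of order eight and a subgroup `A₅`, its
Sylow 5-subgroups have order five, and a Frattini argument moves an inverter of `d` into the
centralizer of an element `k` of order five.
-/

set_option autoImplicit false
set_option linter.style.haveILetI false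

namespace Cfsg.Lib.J3Type

open Cfsg Subgroup
open Cfsg.Lib.Extra.SuzLocal (CQ cmk cmk_mul cmk_one cmk_eq cmk_commute cmk_order_two selfGrp cmk_surj)

variable {G : Type*} [Group G] [Finite G]

/-- The centralizer of `d` modulo `d` has no subgroup of order 25. -/
theorem not_twentyfive {d w : G} (hd : orderOf d = 3) (hw : orderOf w = 2) (hwd : Commute w d)
    (hD8 : ∃ φ : ↥(Subgroup.centralizer ({w} : Set G) ⊓ Subgroup.centralizer ({d} : Set G)) →* DihedralGroup 4,
      Function.Surjective φ ∧ ∀ x, φ x = 1 ↔ (x : G) ∈ Subgroup.zpowers d)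
    (hK : ∃ (K : Subgroup G) (π : ↥K →* ↥(alternatingGroup (Fin 5))), d ∈ K ∧
      K ≤ Subgroup.centralizer ({d} : Set G) ∧ Function.Surjective π ∧ ∀ x, π x = 1 ↔ (x : G) ∈ Subgroup.zpowers d) :
    ¬ 25 ∣ Nat.card ↥(centralizer ({d} : Set G)) := by
  classical
  obtain ⟨φ, hφ, hker⟩ := hD8
  obtain ⟨K, π, -, hKd, hπ, hπk⟩ := hK
  have hw2 : w * w = 1 := by rw [← pow_two, ← hw, pow_orderOf_eq_one]
  have hw1 : w ≠ 1 := fun e => by rw [e, orderOf_one] at hw; norm_num at hw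
  have hodd : Odd 3 := by decide
  set wb := cmk hwd with hwb
  have hwb2 : orderOf wb = 2 := cmk_order_two hd hodd hwd hw2 hw1
  let H : Subgroup G := centralizer ({w} : Set G) ⊓ centralizer ({d} : Set G)
  have hmem : ∀ x : H, Commute (x : G) w ∧ Commute (x : G) d := fun x =>
    ⟨mem_centralizer_singleton_iff.1 x.2.1, mem_centralizer_singleton_iff.1 x.2.2⟩
  -- the centralizer of the image of `w`
  let ψ : H →* ↥(centralizer ({wb} : Set (CQ d))) :=
    MonoidHom.mk' (fun x => ⟨cmk (hmem x).2, mem_centralizer_singleton_iff.2 (by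
      rw [hwb, cmk_mul, cmk_mul]
      exact congrArg (QuotientGroup.mk' (selfGrp d)) (Subtype.ext (hmem x).1.eq))⟩)
      fun a b => Subtype.ext (cmk_mul (hmem a).2 (hmem b).2).symm
  have hψk : ∀ x, ψ x = 1 ↔ (x : G) ∈ zpowers d := fun x => by
    rw [Subtype.ext_iff]
    refine (cmk_one (hmem x).2).trans ⟨fun ⟨i, hi⟩ => mem_zpowers_iff.2 ⟨i, hi.symm⟩, fun h => ?_⟩
    obtain ⟨i, hi⟩ := mem_zpowers_iff.1 h
    exact ⟨i, hi.symm⟩
  have hψs : Function.Surjective ψ := by
    rintro ⟨y, hy⟩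
    obtain ⟨g, hg, rfl⟩ := cmk_surj y
    exact ⟨⟨g, mem_centralizer_singleton_iff.2 (cmk_commute hd hodd hg hwd hw2
      (mem_centralizer_singleton_iff.1 hy)).eq, mem_centralizer_singleton_iff.2 hg.eq⟩, Subtype.ext rfl⟩
  have hkk : φ.ker = ψ.ker := by
    ext x
    rw [MonoidHom.mem_ker, MonoidHom.mem_ker, hker, hψk]
  have e : ↥(centralizer ({wb} : Set (CQ d))) ≃* DihedralGroup 4 :=
    ((QuotientGroup.quotientKerEquivOfSurjective ψ hψs).symm.trans
      (QuotientGroup.quotientMulEquivOfEq hkk.symm)).trans (QuotientGroup.quotientKerEquivOfSurjective φ hφ)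
  -- the image of `K`
  let ι : K →* CQ d := (QuotientGroup.mk' (selfGrp d)).comp (inclusion hKd)
  have hιk : ι.ker = π.ker := by
    ext x
    rw [MonoidHom.mem_ker, MonoidHom.mem_ker, hπk]
    refine (cmk_one (mem_centralizer_singleton_iff.1 (hKd x.2))).trans
      ⟨fun ⟨i, hi⟩ => mem_zpowers_iff.2 ⟨i, hi.symm⟩, fun h => ?_⟩
    obtain ⟨i, hi⟩ := mem_zpowers_iff.1 h
    exact ⟨i, hi.symm⟩
  let f : ↥(alternatingGroup (Fin 5)) ≃* ↥ι.range :=
    ((QuotientGroup.quotientKerEquivOfSurjective π hπ).symm.trans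
      (QuotientGroup.quotientMulEquivOfEq hιk.symm)).trans (QuotientGroup.quotientKerEquivRange ι)
  have hA : Nat.card ↥ι.range = 60 := by
    rw [← Nat.card_congr f.toEquiv, nat_card_alternatingGroup, Nat.card_eq_fintype_card, Fintype.card_fin]
    rfl
  have h60 : 60 ∣ Nat.card (CQ d) := hA ▸ card_subgroup_dvd_card ι.range
  have hQ : ¬ 25 ∣ Nat.card (CQ d) := by
    rcases Cfsg.Agent.S3035.result wb hwb2 ⟨e⟩ with h | ⟨⟨i⟩⟩ | ⟨⟨i⟩⟩ | ⟨⟨i⟩⟩ | ⟨⟨i⟩⟩
    · exfalso
      have hsimple : IsSimpleGroup ↥ι.range := by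
        haveI := alternatingGroup.isSimpleGroup_five
        exact f.symm.isSimpleGroup
      -- the image of `A₅` in the quotient by the odd core
      let q := (QuotientGroup.mk' (oddCore (CQ d))).comp ι.range.subtype
      rcases (inferInstance : q.ker.Normal).eq_bot_or_eq_top with h0 | h0
      · have hinj : Function.Injective q := (MonoidHom.ker_eq_bot_iff q).1 h0
        have hd1 := Subgroup.card_dvd_of_injective q hinj
        have hsur : (centralizer ({wb} : Set (CQ d))).map (QuotientGroup.mk' (oddCore (CQ d))) = ⊤ := by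
          have := congrArg (Subgroup.map (QuotientGroup.mk' (oddCore (CQ d)))) h
          rwa [Subgroup.map_sup, (Subgroup.map_eq_bot_iff _).2 (QuotientGroup.ker_mk' (oddCore (CQ d))).ge,
            sup_bot_eq, Subgroup.map_top_of_surjective _ (QuotientGroup.mk'_surjective _)] at this
        have hd2 := (centralizer ({wb} : Set (CQ d))).card_map_dvd (QuotientGroup.mk' (oddCore (CQ d)))
        rw [hsur, card_top, Nat.card_congr e.toEquiv, DihedralGroup.nat_card] at hd2
        rw [hA] at hd1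
        have := hd1.trans hd2
        norm_num at this
      · have hle : ι.range ≤ oddCore (CQ d) := fun x hx => by
          have : (⟨x, hx⟩ : ι.range) ∈ q.ker := h0 ▸ mem_top _
          simpa [q, MonoidHom.mem_ker] using this
        have hodd' := Cfsg.Lib.ZStar.odd_card_oddCore (G := CQ d)
        have h2 : 2 ∣ Nat.card ↥(oddCore (CQ d)) :=
          (by rw [hA]; norm_num : 2 ∣ Nat.card ↥ι.range).trans (card_dvd_of_le hle)
        exact Nat.not_even_iff_odd.2 hodd' (even_iff_two_dvd.2 h2)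
    · rw [Nat.card_congr i.toEquiv, Nat.card_perm, Nat.card_eq_fintype_card, Fintype.card_fin] at h60
      norm_num [Nat.factorial] at h60
    · rw [Nat.card_congr i.toEquiv, Nat.card_perm, Nat.card_eq_fintype_card, Fintype.card_fin]
      norm_num [Nat.factorial]
    · rw [Nat.card_congr i.toEquiv, Cfsg.Agent.S3035.slThree.2] at h60
      norm_num at h60
    · rw [Nat.card_congr i.toEquiv, nat_card_alternatingGroup, Nat.card_eq_fintype_card, Fintype.card_fin]
      norm_num [Nat.factorial]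
  rw [Cfsg.Lib.Extra.SuzLocal.card_centralizer hd]
  exact fun h => hQ ((Nat.Coprime.dvd_mul_left (by norm_num : Nat.Coprime 25 3)).1 h)

/-- The exponent of a conjugate inside a group of order five. -/
theorem exists_exp {k x : G} (hk : orderOf k = 5) (hx : x ∈ zpowers k) : ∃ a < 5, x = k ^ a := by
  rw [← mem_powers_iff_mem_zpowers] at hx
  obtain ⟨n, rfl⟩ := hx
  exact ⟨n % 5, Nat.mod_lt _ (by norm_num), by rw [← hk, pow_mod_orderOf]⟩

theorem exists_inverter {d w k : G} (hd : orderOf d = 3) (hw : orderOf w = 2) (hk : orderOf k = 5)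
    (hwd : Commute w d) (hkd : Commute k d) (hwk : w * k * w⁻¹ = k⁻¹)
    (hD8 : ∃ φ : ↥(Subgroup.centralizer ({w} : Set G) ⊓ Subgroup.centralizer ({d} : Set G)) →* DihedralGroup 4,
      Function.Surjective φ ∧ ∀ x, φ x = 1 ↔ (x : G) ∈ Subgroup.zpowers d)
    (hK : ∃ (K : Subgroup G) (π : ↥K →* ↥(alternatingGroup (Fin 5))), d ∈ K ∧
      K ≤ Subgroup.centralizer ({d} : Set G) ∧ Function.Surjective π ∧ ∀ x, π x = 1 ↔ (x : G) ∈ Subgroup.zpowers d)
    (h15 : ∀ s f x : G, orderOf s = 2 → orderOf f = 5 → orderOf x = 3 → Commute f s → Commute x s →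
      Commute x f → False)
    (hinv : ∃ g : G, Commute g w ∧ g * d * g⁻¹ = d⁻¹)
    (h4 : ∀ g : G, Commute g w → g * d * g⁻¹ = d⁻¹ → g * g ≠ w) :
    ∃ i : G, i * i = 1 ∧ Commute i w ∧ Commute i k ∧ i * d * i⁻¹ = d⁻¹ := by
  classical
  haveI : Fact (Nat.Prime 2) := ⟨Nat.prime_two⟩
  haveI : Fact (Nat.Prime 5) := ⟨by norm_num⟩
  have h25 := not_twentyfive hd hw hwd hD8 hK
  have hw2 : w * w = 1 := by rw [← pow_two, ← hw, pow_orderOf_eq_one]
  have hd1 : d ≠ d⁻¹ := fun e => by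
    have h2 : orderOf d ∣ 2 := orderOf_dvd_of_pow_eq_one (by
      rw [pow_two]; nth_rewrite 2 [e]; exact mul_inv_cancel d)
    rw [hd] at h2
    norm_num at h2
  obtain ⟨g, -, hg⟩ := hinv
  -- move the inverter into the normalizer of `k`
  have hgC : g * k * g⁻¹ ∈ centralizer ({d} : Set G) := mem_centralizer_singleton_iff.2 (by
    have h2 : Commute (g * k * g⁻¹) (g * d * g⁻¹) := (Commute.conj_iff g).2 hkd
    rw [hg] at h2
    exact (Commute.inv_right_iff.1 h2).eq)
  have hkC : k ∈ centralizer ({d} : Set G) := mem_centralizer_singleton_iff.2 hkd.eq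
  let k₀ : centralizer ({d} : Set G) := ⟨k, hkC⟩
  let k₁ : centralizer ({d} : Set G) := ⟨g * k * g⁻¹, hgC⟩
  have ho : ∀ y : centralizer ({d} : Set G), orderOf (y : G) = 5 → ∀ P : Sylow 5 (centralizer ({d} : Set G)),
      zpowers y ≤ (P : Subgroup (centralizer ({d} : Set G))) → zpowers y = P := fun y hy P hP => by
    refine eq_of_le_of_card_ge hP ?_
    obtain ⟨n, hn⟩ := P.2.exists_card_eq
    rw [Nat.card_zpowers, ← Subgroup.orderOf_coe, hy, hn]
    by_contra hc
    exact h25 (((show 25 = 5 ^ 2 by norm_num) ▸ pow_dvd_pow 5 (by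
      by_contra h2
      exact hc ((Nat.pow_le_pow_right (by norm_num : 1 ≤ 5) (by omega : n ≤ 1)).trans_eq (pow_one 5)) :
        2 ≤ n)).trans (hn ▸ card_subgroup_dvd_card (P : Subgroup (centralizer ({d} : Set G)))))
  have hk₁ : orderOf (g * k * g⁻¹) = 5 := by
    rw [show g * k * g⁻¹ = MulAut.conj g k from rfl, MulEquiv.orderOf_eq, hk]
  obtain ⟨P₀, hP₀⟩ := (IsPGroup.of_card (n := 1) (by
    rw [Nat.card_zpowers, pow_one, ← Subgroup.orderOf_coe]; exact hk) : IsPGroup 5 (zpowers k₀)).exists_le_sylow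
  obtain ⟨c, hc⟩ := Cfsg.Lib.Sig.exists_conj_le_sylow P₀ (IsPGroup.of_card (n := 1) (by
    rw [Nat.card_zpowers, pow_one, ← Subgroup.orderOf_coe]; exact hk₁) : IsPGroup 5 (zpowers k₁))
  rw [← ho k₀ hk P₀ hP₀] at hc
  have hck : (c : G) * g * k * ((c : G) * g)⁻¹ ∈ zpowers k := by
    have h := hc (Cfsg.Lib.Sig.conj_mem_map_conj (g := c) (mem_zpowers k₁))
    obtain ⟨i, hi⟩ := mem_zpowers_iff.1 h
    refine mem_zpowers_iff.2 ⟨i, ?_⟩
    have hi' := congrArg Subtype.val hi
    rw [show (c : G) * g * k * ((c : G) * g)⁻¹ = (c : G) * (g * k * g⁻¹) * (c : G)⁻¹ by group]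
    simpa [k₀, k₁] using hi'
  have hcd : Commute (c : G) d := mem_centralizer_singleton_iff.1 c.2
  set g₁ := (c : G) * g with hg₁
  have hg₁d : g₁ * d * g₁⁻¹ = d⁻¹ := by
    rw [show g₁ * d * g₁⁻¹ = (c : G) * (g * d * g⁻¹) * (c : G)⁻¹ by rw [hg₁]; group, hg,
      hcd.inv_right.eq, mul_inv_cancel_right]
  -- the common normalizer
  let N : Subgroup G := normalizer (zpowers d : Set G) ⊓ normalizer (zpowers k : Set G)
  have hnorm : ∀ {x y : G}, x * y * x⁻¹ ∈ zpowers y → x ∈ normalizer (zpowers y : Set G) := by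
    intro x y h
    have hle : (zpowers y).map (MulAut.conj x).toMonoidHom ≤ zpowers y := by
      rw [MonoidHom.map_zpowers]; exact zpowers_le.2 h
    have heq := eq_of_le_of_card_ge hle (card_map_of_injective (MulAut.conj x).injective).ge
    refine mem_normalizer_iff.2 fun a => ⟨fun ha => heq ▸ mem_map.2 ⟨a, ha, rfl⟩, fun ha => ?_⟩
    have ha' : x * a * x⁻¹ ∈ zpowers y := ha
    rw [← heq] at ha'
    obtain ⟨b, hb, hba⟩ := mem_map.1 ha'
    exact (MulAut.conj x).injective hba ▸ hb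
  have hg₁N : g₁ ∈ N := ⟨hnorm (by rw [hg₁d]; exact inv_mem (mem_zpowers d)), hnorm hck⟩
  have hwN : w ∈ N := ⟨hnorm (by rw [hwd.eq, mul_inv_cancel_right]; exact mem_zpowers d),
    hnorm (by rw [hwk]; exact inv_mem (mem_zpowers k))⟩
  -- a 2-element inverting `d`
  have hpow : ∀ n : ℕ, g₁ ^ n * d * (g₁ ^ n)⁻¹ = if Even n then d else d⁻¹ := by
    intro n
    induction n with
    | zero => simp
    | succ n ih =>
      rw [pow_succ', show g₁ * g₁ ^ n * d * (g₁ * g₁ ^ n)⁻¹ = g₁ * (g₁ ^ n * d * (g₁ ^ n)⁻¹) * g₁⁻¹ by group,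
        ih]
      by_cases hn : Even n
      · rw [if_pos hn, if_neg (by simp [Nat.even_add_one, hn]), hg₁d]
      · rw [if_neg hn, if_pos (by simp [Nat.even_add_one, hn]),
          show g₁ * d⁻¹ * g₁⁻¹ = (g₁ * d * g₁⁻¹)⁻¹ by group, hg₁d, inv_inv]
  obtain ⟨a, m, hm, hor⟩ := Nat.exists_eq_two_pow_mul_odd (orderOf_pos g₁).ne'
  have hh2 : (g₁ ^ m) ^ 2 ^ a = 1 := by rw [← pow_mul, mul_comm, ← hor, pow_orderOf_eq_one]
  have hhinv : g₁ ^ m * d * (g₁ ^ m)⁻¹ = d⁻¹ := by
    rw [hpow, if_neg (Nat.not_even_iff_odd.2 hm)]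
  obtain ⟨S, hS⟩ := (IsPGroup.of_card (n := 1) (by rw [Nat.card_zpowers, pow_one, ← Subgroup.orderOf_coe]; exact hw) :
    IsPGroup 2 (zpowers (⟨w, hwN⟩ : N))).exists_le_sylow
  obtain ⟨n, hn⟩ := Cfsg.Lib.Sig.exists_conj_le_sylow S (show IsPGroup 2 (zpowers (⟨g₁ ^ m, pow_mem hg₁N m⟩ : N)) by
    obtain ⟨i, -, hi⟩ := (Nat.dvd_prime_pow Nat.prime_two).1 (orderOf_dvd_of_pow_eq_one hh2)
    exact IsPGroup.of_card (n := i) (by rw [Nat.card_zpowers, ← Subgroup.orderOf_coe]; exact hi))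
  have hwS : (⟨w, hwN⟩ : N) ∈ (S : Subgroup N) := hS (mem_zpowers _)
  set h := n * (⟨g₁ ^ m, pow_mem hg₁N m⟩ : N) * n⁻¹ with hh
  have hhS : h ∈ (S : Subgroup N) := hn (Cfsg.Lib.Sig.conj_mem_map_conj (mem_zpowers _))
  have hhd : (h : G) * d * (h : G)⁻¹ = d⁻¹ := by
    -- `n` acts on `d` by a power
    obtain ⟨i, hi⟩ := mem_zpowers_iff.1 ((mem_normalizer_iff.1 (inv_mem n.2.1) d).1 (mem_zpowers d))
    calc (h : G) * d * (h : G)⁻¹
        = (n : G) * (g₁ ^ m * ((n : G)⁻¹ * d * (n : G)⁻¹⁻¹) * (g₁ ^ m)⁻¹) * (n : G)⁻¹ := by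
          rw [hh]; push_cast; group
      _ = (n : G) * (g₁ ^ m * d * (g₁ ^ m)⁻¹) ^ i * (n : G)⁻¹ := by rw [conj_zpow, ← hi]
      _ = (n : G) * (d ^ i)⁻¹ * (n : G)⁻¹ := by rw [hhinv, inv_zpow]
      _ = d⁻¹ := by rw [hi]; group
  -- the kernel on `k`
  have hker : ∀ s : N, s ∈ (S : Subgroup N) → Commute (s : G) k → Commute (s : G) d → s = 1 := by
    intro s hs hsk hsd
    by_contra hs1
    obtain ⟨i, hi⟩ := S.2.exists_orderOf_eq_pow (⟨s, hs⟩ : (S : Subgroup N))
    rw [Subgroup.orderOf_mk] at hi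
    rcases i with _ | i
    · exact hs1 (orderOf_eq_one_iff.1 (by rw [hi, pow_zero]))
    have ho2 : orderOf ((s : G) ^ 2 ^ i) = 2 := by
      rw [orderOf_pow, Subgroup.orderOf_coe, hi, pow_succ,
        Nat.gcd_eq_right (dvd_mul_right _ _), Nat.mul_div_cancel_left _ (by positivity)]
    exact h15 _ k d ho2 hk hd (hsk.pow_left _).symm (hsd.pow_left _).symm hkd.symm
  have hcom : ∀ s : N, (s : G) * k * (s : G)⁻¹ ∈ zpowers k := fun s =>
    (mem_normalizer_iff.1 s.2.2 k).1 (mem_zpowers k)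
  have hcomd : ∀ s : N, (s : G) * d * (s : G)⁻¹ = d ∨ (s : G) * d * (s : G)⁻¹ = d⁻¹ := fun s => by
    obtain ⟨i, hi⟩ := mem_zpowers_iff.1 ((mem_normalizer_iff.1 s.2.1 d).1 (mem_zpowers d))
    rw [← hi]
    have h0 : d ^ i ≠ 1 := fun e => by
      rw [e] at hi
      rw [conj_eq_one_iff.1 hi.symm, orderOf_one] at hd
      norm_num at hd
    rw [← zpow_mod_orderOf, hd] at h0 ⊢
    have h1 := Int.emod_nonneg i (by norm_num : (3 : ℤ) ≠ 0)
    have h2 := Int.emod_lt_of_pos i (by norm_num : (0 : ℤ) < 3)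
    push_cast at *
    rcases (by omega : i % 3 = 0 ∨ i % 3 = 1 ∨ i % 3 = 2) with e | e | e <;> rw [e] at h0 ⊢
    · exact absurd (zpow_zero d) h0
    · exact Or.inl (zpow_one d)
    · refine Or.inr (eq_inv_of_mul_eq_one_left ?_)
      rw [← zpow_add_one]; norm_num
      exact hd ▸ pow_orderOf_eq_one d
  by_cases hex : ∃ i : N, i ∈ (S : Subgroup N) ∧ Commute (i : G) k ∧ i ≠ 1
  · obtain ⟨i, hiS, hik, hi1⟩ := hex
    have hid : (i : G) * d * (i : G)⁻¹ = d⁻¹ := (hcomd i).resolve_left fun e =>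
      hi1 (hker i hiS hik (mul_inv_eq_iff_eq_mul.1 e))
    have huniq : ∀ j : N, j ∈ (S : Subgroup N) → Commute (j : G) k → j = 1 ∨ j = i := by
      intro j hj hjk
      rcases hcomd j with e | e
      · exact Or.inl (hker j hj hjk (mul_inv_eq_iff_eq_mul.1 e))
      · refine Or.inr (mul_inv_eq_one.1 (hker (j * i⁻¹) (mul_mem hj (inv_mem hiS))
          (hjk.mul_left hik.inv_left) (mul_inv_eq_iff_eq_mul.1 ?_)))
        calc ((j * i⁻¹ : N) : G) * d * ((j * i⁻¹ : N) : G)⁻¹
            = (j : G) * ((i : G)⁻¹ * d * (i : G)) * (j : G)⁻¹ := by push_cast; group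
          _ = (j : G) * d⁻¹ * (j : G)⁻¹ := by
              rw [show (i : G)⁻¹ * d * (i : G) = d⁻¹ by
                calc (i : G)⁻¹ * d * (i : G) = ((i : G)⁻¹ * ((i : G) * d * (i : G)⁻¹) * (i : G))⁻¹ := by
                      rw [hid]; group
                  _ = d⁻¹ := by group]
          _ = ((j : G) * d * (j : G)⁻¹)⁻¹ := by group
          _ = d := by rw [e, inv_inv]
    have hii : i * i = 1 := by
      rcases huniq (i * i) (mul_mem hiS hiS) (hik.mul_left hik) with e | e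
      · exact e
      · exact absurd (mul_eq_left.1 e) hi1
    have hiw : Commute (i : G) w := by
      rcases huniq ((⟨w, hwN⟩ : N) * i * (⟨w, hwN⟩ : N)⁻¹) (mul_mem (mul_mem hwS hiS) (inv_mem hwS)) (by
        have h1 := (Commute.conj_iff w).2 hik
        rw [hwk] at h1
        exact Commute.inv_right_iff.1 h1) with e | e
      · exact absurd (conj_eq_one_iff.1 e) hi1
      · exact (mul_inv_eq_iff_eq_mul.1 (congrArg Subtype.val e)).symm
    exact ⟨i, congrArg Subtype.val hii, hiw, hik, hid⟩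
  · exfalso
    push Not at hex
    obtain ⟨a, ha, hak⟩ := exists_exp hk (hcom h)
    have hinj : ∀ x : N, x ∈ (S : Subgroup N) → ∀ y : N, y ∈ (S : Subgroup N) →
        (x : G) * k * (x : G)⁻¹ = (y : G) * k * (y : G)⁻¹ → x = y := by
      intro x hx y hy e
      refine (inv_mul_eq_one.1 (hex (y⁻¹ * x) (mul_mem (inv_mem hy) hx) ?_)).symm
      refine mul_inv_eq_iff_eq_mul.1 ?_
      calc ((y⁻¹ * x : N) : G) * k * ((y⁻¹ * x : N) : G)⁻¹
          = (y : G)⁻¹ * ((x : G) * k * (x : G)⁻¹) * (y : G) := by push_cast; group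
        _ = k := by rw [e]; group
    have hsq : ((h * h : N) : G) * k * ((h * h : N) : G)⁻¹ = k ^ (a * a) := by
      calc ((h * h : N) : G) * k * ((h * h : N) : G)⁻¹
          = (h : G) * ((h : G) * k * (h : G)⁻¹) * (h : G)⁻¹ := by push_cast; group
        _ = (h : G) * k ^ a * (h : G)⁻¹ := by rw [hak]
        _ = ((h : G) * k * (h : G)⁻¹) ^ a := conj_pow.symm
        _ = k ^ (a * a) := by rw [hak, ← pow_mul]
    have hk4 : k⁻¹ = k ^ 4 := inv_eq_of_mul_eq_one_right (by
      rw [← pow_succ']; show k ^ 5 = 1; exact hk ▸ pow_orderOf_eq_one k)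
    have hh1 : h ≠ 1 := fun e => by
      rw [e] at hhd
      exact hd1 (by simpa using hhd)
    have hhw : h ≠ (⟨w, hwN⟩ : N) := fun e => by
      rw [e] at hhd
      exact hd1 (by rw [← hhd, hwd.eq, mul_inv_cancel_right])
    have hsq' : h * h = (⟨w, hwN⟩ : N) := by
      interval_cases a
      · rw [pow_zero, conj_eq_one_iff] at hak
        rw [hak, orderOf_one] at hk; norm_num at hk
      · exact absurd (hex h hhS (mul_inv_eq_iff_eq_mul.1 (by rw [hak, pow_one]))) hh1
      · exact hinj _ (mul_mem hhS hhS) _ hwS (by rw [hsq, hwk, hk4])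
      · exact hinj _ (mul_mem hhS hhS) _ hwS (by
          rw [hsq, hwk, hk4, ← pow_mod_orderOf, hk])
      · exact absurd (hinj h hhS _ hwS (by rw [hak, hwk, hk4])) hhw
    have hsqG : (h : G) * (h : G) = w := congrArg Subtype.val hsq'
    exact h4 (h : G) (by rw [← hsqG]; exact (Commute.refl _).mul_right (Commute.refl _)) hhd hsqG

end Cfsg.Lib.J3Type
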