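import Cfsg.Agent.Lib.J3Type.XStep
import Cfsg.Agent.Lib.J3Type.Inverter

/-!
# The inverter of the element of order three is one of four
-/

set_option autoImplicit false
set_option linter.unusedSectionVars false
set_option maxRecDepth 100000

namespace Cfsg.Lib.J3Type

open Subgroup

variable {G : Type*} [Group G] [Finite G] {t : G} {g : ℕ → G} {d k n : G}

/-- The dihedral value of an entry of the list. -/
def dVal (p : ℕ × ℕ × ℕ) : DihedralGroup 4 :=
  bif Nat.beq p.2.2 0 then DihedralGroup.r (p.2.1 : ZMod 4) else DihedralGroup.sr (p.2.1 : ZMod 4)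

/-- The dihedral value of a number. -/
def dFun (c : ℕ) : DihedralGroup 4 := dVal ((cxMap.find? fun p => Nat.beq p.1 c).getD (0, 0, 0))

/-- An element commuting with the element of order three is listed. -/
def cxOK (c : ℕ) : Bool :=
  !Nat.beq (tmul cenCert cenW c xTrue.1) (tmul cenCert cenW xTrue.1 c) || cxMap.any fun p => Nat.beq p.1 c

theorem cx_all : ((List.range 1920).all cxOK) = true := by decide +kernel

theorem cx_mul : (cxMap.all fun p => cxMap.all fun q =>
    decide (dFun (tmul cenCert cenW p.1 q.1) = dFun p.1 * dFun q.1)) = true := by decide +kernel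

theorem cx_ker : (cxMap.all fun p => Nat.blt p.1 1920 &&
    Nat.beq (tmul cenCert cenW p.1 xTrue.1) (tmul cenCert cenW xTrue.1 p.1) &&
    (!decide (dFun p.1 = 1) || Nat.beq p.1 0 || Nat.beq p.1 xTrue.1 ||
      Nat.beq p.1 (tmul cenCert cenW xTrue.1 xTrue.1))) = true := by decide +kernel

theorem cx_pow : dFun 0 = 1 ∧ dFun xTrue.1 = 1 ∧ dFun (tmul cenCert cenW xTrue.1 xTrue.1) = 1 ∧
    ∀ v : DihedralGroup 4, (cxMap.any fun p => decide (dFun p.1 = v)) = true := by decide +kernel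

/-- The map of the lines. -/
def pAt (q : ℕ) (x : Fin 5) : Fin 5 :=
  ⟨Nat.mod (Nat.shiftRight (sPerm.get 15 q) (Nat.mul 3 x.val)) 8 % 5, Nat.mod_lt _ (by norm_num)⟩

theorem pAt_inv : ∀ q : Fin 180, ∀ x : Fin 5,
    pAt q (pAt (sInv.getD q 0) x) = x ∧ pAt (sInv.getD q 0) (pAt q x) = x := by decide +kernel

/-- The permutation of the lines. -/
def permE (q : Fin 180) : Equiv.Perm (Fin 5) where
  toFun := pAt q
  invFun := pAt (sInv.getD q 0)
  left_inv x := (pAt_inv q x).2
  right_inv x := (pAt_inv q x).1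

theorem permE_sign : ∀ q : Fin 180, Equiv.Perm.sign (permE q) = 1 := by decide +kernel

theorem permE_surj : ∀ p : Equiv.Perm (Fin 5), Equiv.Perm.sign p = 1 → ∃ q : Fin 180, ∀ x, pAt q x = p x := by
  decide +kernel

theorem permE_ker : ∀ q : Fin 180, ((∀ x, pAt q x = x) ↔
    (sTab.get 16 q = idM ∨ sTab.get 16 q = sdM ∨ sTab.get 16 q = compM sdM sdM)) := by decide +kernel

/-- The packed composite of two packed maps of five points. -/
def permComp (P R : ℕ) : ℕ :=
  let d := fun x => Nat.mod (Nat.shiftRight P (Nat.mul 3 (Nat.mod (Nat.shiftRight R (Nat.mul 3 x)) 8))) 8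
  Nat.add (d 0) (Nat.mul 8 (Nat.add (d 1) (Nat.mul 8 (Nat.add (d 2) (Nat.mul 8 (Nat.add (d 3) (Nat.mul 8 (d 4))))))))

/-- The product table is correct at a pair. -/
def sMulOK (a b : ℕ) : Bool :=
  let c := sMul.get 8 (Nat.add (Nat.mul 180 a) b)
  Nat.blt c 180 && Nat.beq (compM (sTab.get 16 a) (sTab.get 16 b)) (sTab.get 16 c) &&
    Nat.beq (sPerm.get 15 c) (permComp (sPerm.get 15 a) (sPerm.get 15 b))

theorem sMul_ok : ((List.range 180).all fun a => (List.range 180).all fun b => sMulOK a b) = true := by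
  decide +kernel

theorem sPerm_small : ∀ q : Fin 180, ∀ x : Fin 5,
    Nat.mod (Nat.shiftRight (sPerm.get 15 q) (Nat.mul 3 x.val)) 8 < 5 := by decide +kernel

theorem sTab_facts : (∀ a < 180, sTab.get 16 a < 65536) ∧
    (∀ a < 180, a + 1 < 180 → sTab.get 16 a < sTab.get 16 (a + 1)) ∧ (∃ a < 180, sTab.get 16 a = idM) ∧
    (∀ a < 180, sInv.getD a 0 < 180 ∧ compM (sTab.get 16 a) (sTab.get 16 (sInv.getD a 0)) = idM) ∧
    (∃ a < 180, sTab.get 16 a = compM sdM sdM) := by decide +kernel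

theorem sTab_inj {a b : ℕ} (ha : a < 180) (hb : b < 180) (e : sTab.get 16 a = sTab.get 16 b) : a = b := by
  have mono : ∀ m a : ℕ, a + m + 1 < 180 → sTab.get 16 a < sTab.get 16 (a + m + 1) := by
    intro m
    induction m with
    | zero => intro a h; exact sTab_facts.2.1 a (by omega) h
    | succ m ih =>
      intro a h
      exact (ih a (by omega)).trans (sTab_facts.2.1 (a + m + 1) (by omega) h)
  rcases Nat.lt_trichotomy a b with h | h | h
  · have := mono (b - a - 1) a (by omega)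
    rw [show a + (b - a - 1) + 1 = b by omega] at this; omega
  · exact h
  · have := mono (a - b - 1) b (by omega)
    rw [show b + (a - b - 1) + 1 = a by omega] at this; omega

theorem pAt_mul {a b : ℕ} (ha : a < 180) (hb : b < 180) (x : Fin 5) :
    pAt (sMul.get 8 (Nat.add (Nat.mul 180 a) b)) x = pAt a (pAt b x) := by
  have h := List.all_eq_true.1 (List.all_eq_true.1 sMul_ok a (List.mem_range.2 ha)) b (List.mem_range.2 hb)
  simp only [sMulOK, Bool.and_eq_true] at h
  have e := Nat.eq_of_beq_eq_true h.2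
  set P := sPerm.get 15 a
  set R := sPerm.get 15 b
  set c := sMul.get 8 (Nat.add (Nat.mul 180 a) b)
  have hd : ∀ x : Fin 5, Nat.mod (Nat.shiftRight (sPerm.get 15 c) (Nat.mul 3 x.val)) 8 =
      Nat.mod (Nat.shiftRight P (Nat.mul 3 (Nat.mod (Nat.shiftRight R (Nat.mul 3 x.val)) 8))) 8 := by
    intro x
    rw [e, permComp]
    set d0 := Nat.mod (Nat.shiftRight P (Nat.mul 3 (Nat.mod (Nat.shiftRight R (Nat.mul 3 0)) 8))) 8 with h0
    set d1 := Nat.mod (Nat.shiftRight P (Nat.mul 3 (Nat.mod (Nat.shiftRight R (Nat.mul 3 1)) 8))) 8 with h1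
    set d2 := Nat.mod (Nat.shiftRight P (Nat.mul 3 (Nat.mod (Nat.shiftRight R (Nat.mul 3 2)) 8))) 8 with h2
    set d3 := Nat.mod (Nat.shiftRight P (Nat.mul 3 (Nat.mod (Nat.shiftRight R (Nat.mul 3 3)) 8))) 8 with h3
    set d4 := Nat.mod (Nat.shiftRight P (Nat.mul 3 (Nat.mod (Nat.shiftRight R (Nat.mul 3 4)) 8))) 8 with h4
    have l0 : d0 < 8 := Nat.mod_lt _ (by norm_num)
    have l1 : d1 < 8 := Nat.mod_lt _ (by norm_num)
    have l2 : d2 < 8 := Nat.mod_lt _ (by norm_num)
    have l3 : d3 < 8 := Nat.mod_lt _ (by norm_num)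
    have l4 : d4 < 8 := Nat.mod_lt _ (by norm_num)
    show (d0 + 8 * (d1 + 8 * (d2 + 8 * (d3 + 8 * d4)))) >>> (3 * x.val) % 8 = _
    rw [Nat.shiftRight_eq_div_pow]
    fin_cases x
    · show _ = d0
      norm_num; omega
    · show _ = d1
      norm_num; omega
    · show _ = d2
      norm_num; omega
    · show _ = d3
      norm_num; omega
    · show _ = d4
      norm_num; omega
  have hx := sPerm_small ⟨b, hb⟩ x
  apply Fin.ext
  show Nat.mod (Nat.shiftRight (sPerm.get 15 c) (Nat.mul 3 x.val)) 8 % 5 =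
    Nat.mod (Nat.shiftRight P (Nat.mul 3 (Nat.mod (Nat.shiftRight R (Nat.mul 3 x.val)) 8 % 5))) 8 % 5
  rw [hd x, Nat.mod_eq_of_lt (b := 5) hx]

/-- Elements of order three and five in the centralizer do not commute. -/
def sylOK (c : ℕ) : Bool :=
  let q := tmul cenCert cenW c c
  let r := tmul cenCert cenW q q
  (!Nat.beq (tmul cenCert cenW c q) 0 || Nat.beq c 0 || threeReps.any (fun x => Nat.beq x c || Nat.beq x q)) &&
    (!Nat.beq (tmul cenCert cenW c r) 0 || Nat.beq c 0 ||
      fiveReps.any (fun x => Nat.beq x c || Nat.beq x q || Nat.beq x (tmul cenCert cenW c q) || Nat.beq x r))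

theorem syl_ok : ((List.range 1920).all sylOK) = true := by decide +kernel

theorem pair_ok : (threeReps.all fun x => fiveReps.all fun y =>
    !Nat.beq (tmul cenCert cenW x y) (tmul cenCert cenW y x)) = true := by decide +kernel

/-- An inverting involution is one of twelve, and conjugate to one of four. -/
def yOK (c : ℕ) : Bool :=
  !Nat.beq (tmul cenCert cenW (tmul cenCert cenW xTrue.1 c) xTrue.1) c ||
    (!Nat.beq (tmul cenCert cenW c c) (avN 1) &&
    (!Nat.beq (tmul cenCert cenW c c) 0 || yCands.any fun p => Nat.beq p.1 c && Nat.blt p.2.1 4 && Nat.blt p.2.2 3 &&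
      let xj := bif Nat.beq p.2.2 0 then 0 else bif Nat.beq p.2.2 1 then xTrue.1
        else tmul cenCert cenW xTrue.1 xTrue.1
      Nat.beq (tmul cenCert cenW c xj) (tmul cenCert cenW xj (yReps.getD p.2.1 (0, 0)).1)))

theorem y_ok : ((List.range 1920).all yOK) = true := by decide +kernel

theorem yRep_facts : (∀ s < 4, (yReps.getD s (0, 0)).1 < 1920) ∧ xTrue.1 < 1920 ∧
    tmul cenCert cenW (tmul cenCert cenW xTrue.1 (yReps.getD 3 (0, 0)).1) xTrue.1 = (yReps.getD 3 (0, 0)).1 := by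
  decide +kernel

theorem kw_facts : (smallIdx.getD 4 (0, 0)).1 < 1920 ∧ (smallIdx.getD 4 (0, 0)).1 ≠ 0 ∧
    tmul cenCert cenW (smallIdx.getD 4 (0, 0)).1 (smallIdx.getD 4 (0, 0)).1 = 0 ∧
    pEq (naEval naPair naInv [18, 18, 18, 18, 18]) (0, idM) = true ∧
    pEq (naEval naPair naInv [8, 18, 9, 18]) (0, idM) = true ∧
    (naPair.getD 9 (0, idM)).2 ≠ idM ∧ (naPair.getD 9 (0, idM)).2 < 65536 ∧
    4 ∈ naDom ∧ 9 ∈ naDom := by decide +kernel

theorem Cfg.eval_one (C : Cfg t g d k n) {w : List ℕ} (hd : inDom naDom w = true)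
    (he : pEq (naEval naPair naInv w) (0, idM) = true) : wval (gL g d k n 1) w = 1 :=
  C.okRule_val 1 (dom := []) (by simp) (wim := List.replicate 12 (0, 0)) (by decide +kernel) (by simp) (by simp)
    (ex := []) (by simp) (by simp [okRule, hd, he])

/-- The elements lifting the linear maps. -/
theorem Cfg.k_group (C : Cfg t g d k n) :
    ∃ (K : Subgroup G) (π : ↥K →* ↥(alternatingGroup (Fin 5))), d ∈ K ∧
      K ≤ centralizer ({d} : Set G) ∧ Function.Surjective π ∧ ∀ x, π x = 1 ↔ (x : G) ∈ zpowers d := by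
  classical
  obtain ⟨hlt, -, ⟨e, he, hid⟩, hinv, ⟨e2, he2, hsd2⟩⟩ := sTab_facts
  let P : G → ℕ → Prop := fun x a => a < 180 ∧ Acts g (sTab.get 16 a) x ∧ Commute x d
  have hmul : ∀ {x y : G} {a b : ℕ}, P x a → P y b → P (x * y) (sMul.get 8 (Nat.add (Nat.mul 180 a) b)) := by
    intro x y a b hx hy
    have h := List.all_eq_true.1 (List.all_eq_true.1 sMul_ok a (List.mem_range.2 hx.1)) b (List.mem_range.2 hy.1)
    simp only [sMulOK, Bool.and_eq_true] at h
    refine ⟨Nat.lt_of_succ_le (Nat.le_of_ble_eq_true h.1.1), ?_, hx.2.2.mul_left hy.2.2⟩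
    rw [← Nat.eq_of_beq_eq_true h.1.2]
    exact hx.2.1.mul C.cen hy.2.1
  have huniq : ∀ {x : G} {a b : ℕ}, P x a → P x b → a = b := fun hx hy =>
    sTab_inj hx.1 hy.1 (hx.2.1.unique C.cen (hlt _ hx.1) (hlt _ hy.1) hy.2.1)
  let K : Subgroup G :=
    { carrier := {x | ∃ a, P x a}
      one_mem' := ⟨e, he, hid ▸ acts_one C.cen, Commute.one_left d⟩
      mul_mem' := fun {x y} ⟨a, ha⟩ ⟨b, hb⟩ => ⟨_, hmul ha hb⟩
      inv_mem' := fun {x} ⟨a, ha, hx, hxd⟩ => by
        obtain ⟨hb, hab⟩ := hinv a ha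
        obtain ⟨y, hy, hyd⟩ := C.amal.real _ hb
        have h1 : x * y = 1 := lift_unique C.cen C.amal.acts (hab ▸ hx.mul C.cen hy) (acts_one C.cen)
          (hxd.mul_left hyd) (Commute.one_left d)
        rw [inv_eq_of_mul_eq_one_right h1]
        exact ⟨_, hb, hy, hyd⟩ }
  have hx : ∀ x : K, ∃ q : Fin 180, P (x : G) q := fun x => by
    obtain ⟨a, ha⟩ := x.2; exact ⟨⟨a, ha.1⟩, ha⟩
  choose q hq using hx
  let π : K →* ↥(alternatingGroup (Fin 5)) :=
    MonoidHom.mk' (fun x => ⟨permE (q x), Equiv.Perm.mem_alternatingGroup.2 (permE_sign _)⟩) fun x y => by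
      refine Subtype.ext (Equiv.ext fun z => ?_)
      show pAt (q (x * y)) z = pAt (q x) (pAt (q y) z)
      rw [huniq (hq (x * y)) (hmul (hq x) (hq y)), pAt_mul (q x).2 (q y).2]
  have hd3 : d ^ 3 = 1 := by rw [pow_succ, pow_two]; exact C.amal.cube
  obtain ⟨a0, ha0, hsd⟩ := sdM_facts.1
  have hdK : d ∈ K := ⟨a0, ha0, hsd ▸ C.amal.acts, Commute.refl d⟩
  refine ⟨K, π, hdK, fun x hx => ?_, fun p => ?_, fun x => ?_⟩
  · obtain ⟨_, _, _, hxd⟩ := hx
    exact mem_centralizer_singleton_iff.2 hxd.eq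
  · obtain ⟨r, hr⟩ := permE_surj p.1 (Equiv.Perm.mem_alternatingGroup.1 p.2)
    obtain ⟨y, hy, hyd⟩ := C.amal.real r r.2
    refine ⟨⟨y, r, r.2, hy, hyd⟩, Subtype.ext (Equiv.ext fun z => ?_)⟩
    show pAt (q _) z = p.1 z
    rw [← hr z, huniq (hq ⟨y, r, r.2, hy, hyd⟩) ⟨r.2, hy, hyd⟩]
  · have hk : π x = 1 ↔ ∀ z, pAt (q x) z = z :=
      ⟨fun h z => congrArg (fun p : ↥(alternatingGroup (Fin 5)) => (p : Equiv.Perm (Fin 5)) z) h,
        fun h => Subtype.ext (Equiv.ext h)⟩
    rw [hk, permE_ker (q x)]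
    constructor
    · intro h
      rcases h with h | h | h
      · rw [lift_unique C.cen C.amal.acts (h ▸ (hq x).2.1) (acts_one C.cen) (hq x).2.2 (Commute.one_left d)]
        exact one_mem _
      · rw [lift_unique C.cen C.amal.acts (h ▸ (hq x).2.1) C.amal.acts (hq x).2.2 (Commute.refl d)]
        exact mem_zpowers d
      · rw [lift_unique C.cen C.amal.acts (h ▸ (hq x).2.1) (C.amal.acts.mul C.cen C.amal.acts) (hq x).2.2
          ((Commute.refl d).mul_left (Commute.refl d))]
        exact mul_mem (mem_zpowers d) (mem_zpowers d)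
    · intro h
      rw [← mem_powers_iff_mem_zpowers] at h
      obtain ⟨m, hm⟩ := h
      have hm' : (x : G) = d ^ (m % 3) := hm.symm.trans (pow_eq_pow_mod m hd3)
      have hlt3 : m % 3 < 3 := Nat.mod_lt _ (by norm_num)
      have hs := (hq x).2.1
      rw [hm'] at hs
      generalize m % 3 = r at hlt3 hs
      interval_cases r
      · rw [pow_zero] at hs
        exact Or.inl (hs.unique C.cen (hlt _ (q x).2) (by norm_num [idM]) (acts_one C.cen))
      · rw [pow_one] at hs
        exact Or.inr (Or.inl (hs.unique C.cen (hlt _ (q x).2) sdM_ne.2 C.amal.acts))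
      · rw [pow_two] at hs
        exact Or.inr (Or.inr (hs.unique C.cen (hlt _ (q x).2) (compM_lt ..) (C.amal.acts.mul C.cen C.amal.acts)))

/-- Some involution centralizing `w` and `k` inverts `d`; up to a power of `d` it is one of four. -/
theorem Cfg.y_cases (C : Cfg t g d k n) (ht : orderOf t = 2)
    (hone : ∀ x y : G, orderOf x = 2 → orderOf y = 2 → IsConj x y)
    (hx : (uEl g n)⁻¹ * d * uEl g n = trep cenCert g xTrue.1) :
    ∃ (i : G) (s : ℕ), s < 4 ∧ (uEl g n)⁻¹ * i * uEl g n = trep cenCert g (yReps.getD s (0, 0)).1 ∧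
      i * k * i * k⁻¹ = 1 := by
  classical
  set u := uEl g n with hu
  set w := trep cenCert g (smallIdx.getD 4 (0, 0)).1 with hwdef
  obtain ⟨hw0, hwne, hww, hk5, hwk, hkne, hklt, h4mem, h9mem⟩ := kw_facts
  obtain ⟨hyr, hX, hyX⟩ := yRep_facts
  have hmul := @fun a b (ha : a < 1920) (hb : b < 1920) => (C.cen.mul ha hb).2
  have hlt := @fun a b (ha : a < 1920) (hb : b < 1920) => (C.cen.mul ha hb).1
  have hwd : Commute w d := C.wd
  have hut : u * t * u⁻¹ = w := C.u_t
  have hud : u * trep cenCert g xTrue.1 * u⁻¹ = d := by rw [← hx]; group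
  have hd : orderOf d = 3 := by
    haveI : Fact (Nat.Prime 3) := ⟨Nat.prime_three⟩
    exact orderOf_eq_prime (by rw [pow_succ, pow_two]; exact C.amal.cube) C.d_ne
  have hw : orderOf w = 2 := orderOf_eq_prime
    (by rw [pow_two, hwdef, ← hmul _ _ hw0 hw0, hww, trep_zero C.cen.reg])
    fun e => hwne (C.cen.inj _ hw0 0 (by norm_num) (e.trans (trep_zero C.cen.reg).symm))
  have hk : orderOf k = 5 := by
    haveI : Fact (Nat.Prime 5) := ⟨by norm_num⟩
    refine orderOf_eq_prime ?_ fun e => ?_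
    · have := C.eval_one (w := [18, 18, 18, 18, 18]) (by decide +kernel) hk5
      simp [wval, lval, idL, gL] at this
      rw [← this]; simp only [pow_succ, pow_zero, one_mul, mul_assoc]
    · have h := (C.val 1 h9mem).acts C.cen
      rw [gL_k, e] at h
      exact hkne (h.unique C.cen hklt (by norm_num [idM]) (acts_one C.cen))
  have hwk' : w * k * w⁻¹ = k⁻¹ := by
    have h := C.eval_one (w := [8, 18, 9, 18]) (by decide +kernel) hwk
    simp [wval, lval, idL, gL] at h
    rw [eq_inv_iff_mul_eq_one]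
    simpa [mul_assoc, hwdef, List.getD] using h
  have back : ∀ {x : G}, Commute x w → ∃ c < 1920, trep cenCert g c = u⁻¹ * x * u := by
    intro x hxw
    refine (C.cen.full _).1 ?_
    calc u⁻¹ * x * u * t = u⁻¹ * (x * (u * t * u⁻¹)) * u := by group
      _ = u⁻¹ * ((u * t * u⁻¹) * x) * u := by rw [hut, hxw.eq]
      _ = t * (u⁻¹ * x * u) := by group
  have hinvX : ∀ {x : G} {c : ℕ}, c < 1920 → trep cenCert g c = u⁻¹ * x * u →
      (x * d * x⁻¹ = d⁻¹ ↔ tmul cenCert cenW (tmul cenCert cenW xTrue.1 c) xTrue.1 = c) := by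
    intro x c hc e
    have h1 : x * d * x⁻¹ = d⁻¹ ↔ d * x * d = x := by
      rw [mul_inv_eq_iff_eq_mul, eq_inv_mul_iff_mul_eq, mul_assoc]
    have h2 : d * x * d = x ↔ trep cenCert g xTrue.1 * trep cenCert g c * trep cenCert g xTrue.1 = trep cenCert g c := by
      rw [← hud]
      constructor <;> intro h
      · rw [e]
        calc trep cenCert g xTrue.1 * (u⁻¹ * x * u) * trep cenCert g xTrue.1
            = u⁻¹ * (u * trep cenCert g xTrue.1 * u⁻¹ * x * (u * trep cenCert g xTrue.1 * u⁻¹)) * u := by group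
          _ = _ := by rw [h]
      · rw [e] at h
        calc u * trep cenCert g xTrue.1 * u⁻¹ * x * (u * trep cenCert g xTrue.1 * u⁻¹)
            = u * (trep cenCert g xTrue.1 * (u⁻¹ * x * u) * trep cenCert g xTrue.1) * u⁻¹ := by group
          _ = _ := by rw [h]; group
    rw [h1, h2, ← hmul _ _ hX hc, ← hmul _ _ (hlt _ _ hX hc) hX]
    exact ⟨fun h => C.cen.inj _ (hlt _ _ (hlt _ _ hX hc) hX) _ hc h, fun h => by rw [h]⟩
  have hD8 : ∃ φ : ↥(centralizer ({w} : Set G) ⊓ centralizer ({d} : Set G)) →* DihedralGroup 4,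
      Function.Surjective φ ∧ ∀ x, φ x = 1 ↔ (x : G) ∈ zpowers d := by
    have hc : ∀ x : ↥(centralizer ({w} : Set G) ⊓ centralizer ({d} : Set G)),
        ∃ c, c < 1920 ∧ trep cenCert g c = u⁻¹ * (x : G) * u ∧ ∃ p ∈ cxMap, p.1 = c := by
      intro x
      obtain ⟨c, hc, e⟩ := back (x := (x : G)) (mem_centralizer_singleton_iff.1 x.2.1)
      refine ⟨c, hc, e, ?_⟩
      have h := List.all_eq_true.1 cx_all c (List.mem_range.2 hc)
      have hxd : Commute (x : G) d := mem_centralizer_singleton_iff.1 x.2.2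
      have hcm : tmul cenCert cenW c xTrue.1 = tmul cenCert cenW xTrue.1 c := by
        refine (C.cen.eq_iff hc hX hX hc).1 ?_
        rw [e, ← hx]
        calc u⁻¹ * (x : G) * u * (u⁻¹ * d * u) = u⁻¹ * ((x : G) * d) * u := by group
          _ = _ := by rw [hxd.eq]; group
      simp only [cxOK, hcm, Nat.beq_refl, Bool.not_true, Bool.false_or, List.any_eq_true] at h
      obtain ⟨p, hp, hpc⟩ := h
      exact ⟨p, hp, Nat.eq_of_beq_eq_true hpc⟩
    choose c hc1 hc2 hc3 using hc
    refine ⟨MonoidHom.mk' (fun x => dFun (c x)) fun x y => ?_, fun v => ?_, fun x => ?_⟩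
    · obtain ⟨p, hp, ep⟩ := hc3 x
      obtain ⟨q, hq, eq'⟩ := hc3 y
      have h := of_decide_eq_true (List.all_eq_true.1 (List.all_eq_true.1 cx_mul p hp) q hq)
      rw [ep, eq'] at h
      rw [← h]
      congr 1
      refine C.cen.inj _ (hc1 _) _ (hlt _ _ (hc1 x) (hc1 y)) ?_
      rw [hc2, hmul _ _ (hc1 x) (hc1 y), hc2, hc2, coe_mul]
      group
    · obtain ⟨p, hp, hpv⟩ := List.any_eq_true.1 (cx_pow.2.2.2 v)
      have h := List.all_eq_true.1 cx_ker p hp
      simp only [Bool.and_eq_true] at h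
      have hp1 : p.1 < 1920 := Nat.lt_of_succ_le (Nat.le_of_ble_eq_true h.1.1)
      have hcm := (C.cen.eq_iff hp1 hX hX hp1).2 (Nat.eq_of_beq_eq_true h.1.2)
      have hpt : Commute (trep cenCert g p.1) t := (C.cen.full _).2 ⟨_, hp1, rfl⟩
      refine ⟨⟨u * trep cenCert g p.1 * u⁻¹, ⟨?_, ?_⟩⟩, ?_⟩
      · refine mem_centralizer_singleton_iff.2 ?_
        rw [← hut]; exact ((Commute.conj_iff u).2 hpt).eq
      · refine mem_centralizer_singleton_iff.2 ?_
        rw [← hud]; exact ((Commute.conj_iff u).2 hcm).eq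
      · show dFun (c _) = v
        rw [← of_decide_eq_true hpv]
        congr 1
        refine C.cen.inj _ (hc1 _) _ hp1 ?_
        rw [hc2]; group
    · show dFun (c x) = 1 ↔ _
      constructor
      · intro h1
        obtain ⟨p, hp, ep⟩ := hc3 x
        have h := List.all_eq_true.1 cx_ker p hp
        simp only [Bool.and_eq_true, Bool.or_eq_true, Bool.not_eq_true', decide_eq_false_iff_not] at h
        rw [ep] at h
        have he : (x : G) = u * trep cenCert g (c x) * u⁻¹ := by rw [hc2]; group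
        rw [he]
        rcases h.2 with ((h2 | h2) | h2) | h2
        · exact absurd h1 h2
        · rw [Nat.eq_of_beq_eq_true h2, trep_zero C.cen.reg, mul_one, mul_inv_cancel]; exact one_mem _
        · rw [Nat.eq_of_beq_eq_true h2, hud]; exact mem_zpowers d
        · rw [Nat.eq_of_beq_eq_true h2, hmul _ _ hX hX,
            show u * (trep cenCert g xTrue.1 * trep cenCert g xTrue.1) * u⁻¹ =
              (u * trep cenCert g xTrue.1 * u⁻¹) * (u * trep cenCert g xTrue.1 * u⁻¹) by group, hud]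
          exact mul_mem (mem_zpowers d) (mem_zpowers d)
      · intro hz
        obtain ⟨z0, z1, z2, -⟩ := cx_pow
        rw [← mem_powers_iff_mem_zpowers] at hz
        obtain ⟨m, hm⟩ := hz
        have hm' : (x : G) = d ^ (m % 3) := hm.symm.trans
          (pow_eq_pow_mod m (by rw [← hd]; exact pow_orderOf_eq_one d))
        have h3 : m % 3 < 3 := Nat.mod_lt _ (by norm_num)
        have hcx := hc2 x
        rw [hm'] at hcx
        generalize m % 3 = r at h3 hcx
        interval_cases r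
        · rw [C.cen.inj _ (hc1 x) 0 (by norm_num) (by rw [hcx, trep_zero C.cen.reg]; group)]
          exact z0
        · rw [C.cen.inj _ (hc1 x) _ hX (by rw [hcx, ← hx]; group)]
          exact z1
        · rw [C.cen.inj _ (hc1 x) _ (hlt _ _ hX hX) (by rw [hcx, hmul _ _ hX hX, ← hx, pow_two]; group)]
          exact z2
  have h15 : ∀ s f x : G, orderOf s = 2 → orderOf f = 5 → orderOf x = 3 → Commute f s → Commute x s →
      Commute x f → False := by
    intro s f x hs hf hxo hfs hxs hxf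
    obtain ⟨m, hm⟩ := isConj_iff.1 (hone t s ht hs)
    have tr : ∀ {y : G}, Commute y s → ∃ c < 1920, trep cenCert g c = m⁻¹ * y * m := fun {y} hy => by
      refine (C.cen.full _).1 ?_
      calc m⁻¹ * y * m * t = m⁻¹ * (y * (m * t * m⁻¹)) * m := by group
        _ = m⁻¹ * ((m * t * m⁻¹) * y) * m := by rw [hm, hy.eq]
        _ = t * (m⁻¹ * y * m) := by group
    obtain ⟨cf, hcf, ef⟩ := tr hfs
    obtain ⟨cx, hcx, ex⟩ := tr hxs
    have hf5 : f * (f * f * (f * f)) = 1 := by
      have h := pow_orderOf_eq_one f; rw [hf] at h; rw [← h]; simp only [pow_succ, pow_zero, one_mul, mul_assoc]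
    have hx3 : x * (x * x) = 1 := by
      have h := pow_orderOf_eq_one x; rw [hxo] at h; rw [← h]; simp only [pow_succ, pow_zero, one_mul, mul_assoc]
    have cm : Commute (trep cenCert g cx) (trep cenCert g cf) := by
      rw [ex, ef]
      calc m⁻¹ * x * m * (m⁻¹ * f * m) = m⁻¹ * (x * f) * m := by group
        _ = _ := by rw [hxf.eq]; group
    have hx0 : cx ≠ 0 := fun e => by
      rw [e, trep_zero C.cen.reg] at ex
      have : x = 1 := by
        calc x = m * (m⁻¹ * x * m) * m⁻¹ := by group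
          _ = 1 := by rw [← ex]; group
      rw [this, orderOf_one] at hxo; norm_num at hxo
    have hf0 : cf ≠ 0 := fun e => by
      rw [e, trep_zero C.cen.reg] at ef
      have : f = 1 := by
        calc f = m * (m⁻¹ * f * m) * m⁻¹ := by group
          _ = 1 := by rw [← ef]; group
      rw [this, orderOf_one] at hf; norm_num at hf
    have hsx := List.all_eq_true.1 syl_ok cx (List.mem_range.2 hcx)
    have hsf := List.all_eq_true.1 syl_ok cf (List.mem_range.2 hcf)
    simp only [sylOK, Bool.and_eq_true, Bool.or_eq_true, Bool.not_eq_true', List.any_eq_true] at hsx hsf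
    have q1 := hlt _ _ hcx hcx
    have g1 := hlt _ _ hcf hcf
    have g2 := hlt _ _ g1 g1
    have g3 := hlt _ _ hcf g1
    have x3 : tmul cenCert cenW cx (tmul cenCert cenW cx cx) = 0 := by
      refine C.cen.inj _ (hlt _ _ hcx q1) 0 (by norm_num) ?_
      rw [hmul _ _ hcx q1, hmul _ _ hcx hcx, ex, trep_zero C.cen.reg]
      calc m⁻¹ * x * m * (m⁻¹ * x * m * (m⁻¹ * x * m)) = m⁻¹ * (x * (x * x)) * m := by group
        _ = 1 := by rw [hx3]; group
    have f5 : tmul cenCert cenW cf (tmul cenCert cenW (tmul cenCert cenW cf cf) (tmul cenCert cenW cf cf)) = 0 := by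
      refine C.cen.inj _ (hlt _ _ hcf g2) 0 (by norm_num) ?_
      rw [hmul _ _ hcf g2, hmul _ _ g1 g1, hmul _ _ hcf hcf, ef, trep_zero C.cen.reg]
      calc m⁻¹ * f * m * (m⁻¹ * f * m * (m⁻¹ * f * m) * (m⁻¹ * f * m * (m⁻¹ * f * m)))
          = m⁻¹ * (f * (f * f * (f * f))) * m := by group
        _ = 1 := by rw [hf5]; group
    obtain ⟨a, ha, hac⟩ : ∃ a ∈ threeReps, a < 1920 ∧ Commute (trep cenCert g a) (trep cenCert g cf) := by
      rcases hsx.1 with (h | h) | ⟨a, ha, h | h⟩
      · rw [x3] at h; exact Bool.noConfusion h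
      · exact absurd (Nat.eq_of_beq_eq_true h) hx0
      · obtain rfl := Nat.eq_of_beq_eq_true h; exact ⟨a, ha, hcx, cm⟩
      · obtain rfl := Nat.eq_of_beq_eq_true h
        exact ⟨_, ha, q1, by rw [hmul _ _ hcx hcx]; exact cm.mul_left cm⟩
    obtain ⟨b, hb, hblt, hbc⟩ : ∃ b ∈ fiveReps, b < 1920 ∧ Commute (trep cenCert g a) (trep cenCert g b) := by
      have c1 := hac.2
      have c2 : Commute (trep cenCert g a) (trep cenCert g (tmul cenCert cenW cf cf)) := by
        rw [hmul _ _ hcf hcf]; exact c1.mul_right c1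
      rcases hsf.2 with (h | h) | ⟨b, hb, ((h | h) | h) | h⟩
      · rw [f5] at h; exact Bool.noConfusion h
      · exact absurd (Nat.eq_of_beq_eq_true h) hf0
      · obtain rfl := Nat.eq_of_beq_eq_true h; exact ⟨b, hb, hcf, c1⟩
      · obtain rfl := Nat.eq_of_beq_eq_true h; exact ⟨_, hb, g1, c2⟩
      · obtain rfl := Nat.eq_of_beq_eq_true h
        exact ⟨_, hb, g3, by rw [hmul _ _ hcf g1]; exact c1.mul_right c2⟩
      · obtain rfl := Nat.eq_of_beq_eq_true h
        exact ⟨_, hb, g2, by rw [hmul _ _ g1 g1]; exact c2.mul_right c2⟩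
    have hp := List.all_eq_true.1 (List.all_eq_true.1 pair_ok a ha) b hb
    simp only [Bool.not_eq_true'] at hp
    rw [(C.cen.eq_iff hac.1 hblt hblt hac.1).1 hbc, Nat.beq_refl] at hp
    exact Bool.noConfusion hp
  have hinv : ∃ g₁ : G, Commute g₁ w ∧ g₁ * d * g₁⁻¹ = d⁻¹ := by
    have hy := hyr 3 (by norm_num)
    refine ⟨u * trep cenCert g (yReps.getD 3 (0, 0)).1 * u⁻¹, ?_, ?_⟩
    · rw [← hut]
      exact (Commute.conj_iff u).2 ((C.cen.full _).2 ⟨_, hy, rfl⟩)
    · exact (hinvX hy (by group)).2 hyX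
  have h4 : ∀ g₁ : G, Commute g₁ w → g₁ * d * g₁⁻¹ = d⁻¹ → g₁ * g₁ ≠ w := by
    intro g₁ hg hgd hgg
    obtain ⟨c, hc, e⟩ := back hg
    have h := List.all_eq_true.1 y_ok c (List.mem_range.2 hc)
    simp only [yOK, (hinvX hc e).1 hgd, Nat.beq_refl, Bool.not_true, Bool.false_or, Bool.and_eq_true,
      Bool.not_eq_true'] at h
    have ec : tmul cenCert cenW c c = avN 1 := by
      refine C.cen.inj _ (hlt _ _ hc hc) _ (avN_lt 1 (by norm_num)) ?_
      rw [hmul _ _ hc hc, e, show trep cenCert g (avN 1) = t from aV_one C.cen]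
      calc u⁻¹ * g₁ * u * (u⁻¹ * g₁ * u) = u⁻¹ * (g₁ * g₁) * u := by group
        _ = t := by rw [hgg, ← hut]; group
    rw [ec, Nat.beq_refl] at h
    exact Bool.noConfusion h.1
  obtain ⟨i, hii, hiw, hik, hid⟩ :=
    exists_inverter hd hw hk hwd C.kd hwk' hD8 C.k_group h15 hinv h4
  obtain ⟨c, hc, e⟩ := back hiw
  have h := List.all_eq_true.1 y_ok c (List.mem_range.2 hc)
  have hcc : tmul cenCert cenW c c = 0 := by
    refine C.cen.inj _ (hlt _ _ hc hc) 0 (by norm_num) ?_
    rw [hmul _ _ hc hc, e, trep_zero C.cen.reg]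
    calc u⁻¹ * i * u * (u⁻¹ * i * u) = u⁻¹ * (i * i) * u := by group
      _ = 1 := by rw [hii]; group
  simp only [yOK, (hinvX hc e).1 hid, Nat.beq_refl, Bool.not_true, Bool.false_or, Bool.and_eq_true, hcc,
    List.any_eq_true, Bool.not_eq_true'] at h
  obtain ⟨-, p, -, ⟨⟨-, hs4⟩, hj3⟩, hconj⟩ := h
  have hs : p.2.1 < 4 := Nat.lt_of_succ_le (Nat.le_of_ble_eq_true hs4)
  have hj : p.2.2 < 3 := Nat.lt_of_succ_le (Nat.le_of_ble_eq_true hj3)
  have hy := hyr p.2.1 hs
  set y := (yReps.getD p.2.1 (0, 0)).1 with hydef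
  obtain ⟨z, hz, hzd, hzeq⟩ : ∃ z < 1920, Commute k (u * trep cenCert g z * u⁻¹) ∧
      trep cenCert g c * trep cenCert g z = trep cenCert g z * trep cenCert g y := by
    generalize p.2.2 = j at hconj hj
    interval_cases j
    · refine ⟨0, by norm_num, ?_, (C.cen.eq_iff hc (by norm_num) (by norm_num) hy).2 (Nat.eq_of_beq_eq_true hconj)⟩
      rw [trep_zero C.cen.reg, mul_one, mul_inv_cancel]
      exact Commute.one_right k
    · refine ⟨_, hX, ?_, (C.cen.eq_iff hc hX hX hy).2 (Nat.eq_of_beq_eq_true hconj)⟩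
      rw [hud]; exact C.kd
    · refine ⟨_, hlt _ _ hX hX, ?_,
        (C.cen.eq_iff hc (hlt _ _ hX hX) (hlt _ _ hX hX) hy).2 (Nat.eq_of_beq_eq_true hconj)⟩
      rw [hmul _ _ hX hX, show u * (trep cenCert g xTrue.1 * trep cenCert g xTrue.1) * u⁻¹ =
        (u * trep cenCert g xTrue.1 * u⁻¹) * (u * trep cenCert g xTrue.1 * u⁻¹) by group, hud]
      exact C.kd.mul_right C.kd
  set Z := u * trep cenCert g z * u⁻¹
  refine ⟨Z⁻¹ * i * Z, p.2.1, hs, ?_, ?_⟩
  · show u⁻¹ * ((u * trep cenCert g z * u⁻¹)⁻¹ * i * (u * trep cenCert g z * u⁻¹)) * u = _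
    calc u⁻¹ * ((u * trep cenCert g z * u⁻¹)⁻¹ * i * (u * trep cenCert g z * u⁻¹)) * u
        = (trep cenCert g z)⁻¹ * (u⁻¹ * i * u * trep cenCert g z) := by group
      _ = trep cenCert g y := by rw [← e, hzeq]; group
  · calc Z⁻¹ * i * Z * k * (Z⁻¹ * i * Z) * k⁻¹ = Z⁻¹ * i * (Z * k * Z⁻¹) * i * (Z * k⁻¹ * Z⁻¹) * Z := by group
      _ = Z⁻¹ * (i * k * i * k⁻¹) * Z := by
          rw [show Z * k * Z⁻¹ = k by rw [← hzd.eq]; group,
            show Z * k⁻¹ * Z⁻¹ = k⁻¹ by rw [← hzd.inv_left.eq]; group]; group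
      _ = 1 := by
          rw [show i * k * i * k⁻¹ = 1 by rw [hik.eq, mul_assoc k i i, hii]; group]; group

end Cfsg.Lib.J3Type
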