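import Mathlib

/-!
Normal forms.
-/

set_option autoImplicit false
set_option maxRecDepth 100000

namespace Cfsg.Lib.J3Type

/-- Normal forms of the matrices of the letters. -/
def jWit : List (ℕ × ℕ × ℕ) := [(3806, 51, 245), (3672, 39, 72), (2492, 10, 6), (3679, 38, 11), (4864, 16, 109), (4544, 4, 126), (5988, 46, 80), (5322, 3, 276), (3477, 66, 77), (3309, 8, 276), (2158, 64, 82), (2280, 12, 20)]

end Cfsg.Lib.J3Type
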