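import Cfsg.Agent.Lib.JThree.Outer
import Cfsg.Agent.Lib.JThree.Simple
import Cfsg.Agent.Lib.J3Type.Table
import Cfsg.Agent.Lib.J3Type.LocalData
import Cfsg.Agent.Lib.J3Type.JData

/-!
# The letters in the third Janko group
-/

set_option autoImplicit false
set_option maxRecDepth 100000
set_option linter.unusedSectionVars false

namespace Cfsg.Lib.J3Type

open Cfsg.Spor Cfsg.Lib.JThree Cfsg.Lib.Concrete Cfsg.Lib.PermAut

attribute [local irreducible] mmul tget

/-- The matrix of a letter. -/
def jW (l : ℕ) : ℕ :=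
  bif Nat.beq (Nat.mod l 2) 0 then jCode.getD (Nat.div l 2) oneM else jInv.getD (Nat.div l 2) oneM

/-- A word of letters with scalar value. -/
noncomputable def jRule (w : List ℕ) : Bool := (w.all fun l => Nat.blt l 24) && scalB (wordC jW w)

theorem jWit_ok : ((List.range 12).all fun j => witB (jCode.getD j oneM) (jWit.getD j (0, 0, 0))) = true := by
  decide +kernel

theorem jInv_ok : ((List.range 12).all fun j => scalB (mmul (jCode.getD j oneM) (jInv.getD j oneM))) = true := by
  decide +kernel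

variable {F : Type} [Field F] {ω : F}

/-- A letter in the cover. -/
noncomputable def jT (ω : F) (j : ℕ) : threeJ3 F ω := elT ω (jCode.getD j oneM)

/-- A letter in the third Janko group. -/
noncomputable def gJ (ω : F) (j : ℕ) : J3 F ω := QuotientGroup.mk (jT ω j)

/-- A signed letter in the cover. -/
noncomputable def jF (ω : F) (l : ℕ) : threeJ3 F ω :=
  if l % 2 = 0 then jT ω (l / 2) else (jT ω (l / 2))⁻¹

theorem toM_powScal (H : Hyp F ω) (r : ℕ) : toM ω (powC scal r) = ω ^ r • (1 : Matrix F9 F9 F) := by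
  rw [toM_powC H, toM_scal, smul_pow, one_pow]

variable [Fintype F] (hF : Fintype.card F = 4) (H : Hyp F ω)
include hF H

theorem jT_val {j : ℕ} (hj : j < 12) : valT (jT ω j) = toM ω (jCode.getD j oneM) :=
  elT_val (Has.of_wit H (List.all_eq_true.1 jWit_ok j (List.mem_range.2 hj)))

theorem jF_val : ∀ l < 24, ∃ e : F, e ≠ 0 ∧ valT (jF ω l) = e • toM ω (jW l) := by
  intro l hl
  have hj : l / 2 < 12 := by omega
  unfold jF jW
  rw [show Nat.mod l 2 = l % 2 from rfl, show Nat.div l 2 = l / 2 from rfl]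
  rcases Nat.mod_two_eq_zero_or_one l with h2 | h2
  · rw [h2, if_pos rfl, show Nat.beq 0 0 = true from rfl, cond_true]
    exact ⟨1, one_ne_zero, by rw [one_smul, jT_val hF H hj]⟩
  · rw [h2, if_neg (by norm_num), show Nat.beq 1 0 = false from rfl, cond_false]
    have h := List.all_eq_true.1 jInv_ok (l / 2) (List.mem_range.2 hj)
    simp only [scalB, List.any_eq_true, List.mem_range] at h
    obtain ⟨r, hr, e⟩ := h
    have e' := congrArg (toM ω) (Nat.eq_of_beq_eq_true e)
    rw [toM_mmul H.two H.omega, toM_powScal H, ← jT_val hF H hj] at e'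
    have hne : (ω ^ r : F) ≠ 0 := pow_ne_zero r H.ne_zero
    refine ⟨(ω ^ r)⁻¹, inv_ne_zero hne, ?_⟩
    have h1 : valT (jT ω (l / 2))⁻¹ * valT (jT ω (l / 2)) = 1 := by
      rw [← valT_mul, inv_mul_cancel]; rfl
    have h2 := congrArg (valT (jT ω (l / 2))⁻¹ * ·) e'
    simp only [← mul_assoc, h1, one_mul, Matrix.mul_smul, mul_one] at h2
    rw [h2, smul_smul, inv_mul_cancel₀ hne, one_smul]

theorem lval_gJ {l : ℕ} (hl : l < 24) : lval (gJ ω) l = QuotientGroup.mk (jF ω l) := by
  rw [lval, if_neg (by show ¬ 30 ≤ l; omega)]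
  unfold jF gJ
  split <;> simp

theorem wval_gJ : ∀ w : List ℕ, (w.all fun l => Nat.blt l 24) = true →
    wval (gJ ω) w = QuotientGroup.mk (w.map (jF ω)).prod
  | [], _ => rfl
  | l :: w, h => by
    rw [List.all_cons, Bool.and_eq_true] at h
    rw [wval_cons, wval_gJ w h.2, lval_gJ hF H (Nat.lt_of_succ_le (Nat.le_of_ble_eq_true h.1)),
      List.map_cons, List.prod_cons, QuotientGroup.mk_mul]

theorem word_mat {w : List ℕ} (hw : (w.all fun l => Nat.blt l 24) = true) :
    ∃ e : F, e ≠ 0 ∧ valT (w.map (jF ω)).prod = e • toM ω (wordC jW w) :=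
  word_val H (jF_val hF H) w fun l hl => Nat.lt_of_succ_le (Nat.le_of_ble_eq_true (List.all_eq_true.1 hw l hl))

theorem jRule_val {w : List ℕ} (h : jRule w = true) : wval (gJ ω) w = 1 := by
  simp only [jRule, scalB, Bool.and_eq_true, List.any_eq_true, List.mem_range] at h
  obtain ⟨hw, r, -, e⟩ := h
  obtain ⟨c, -, hc⟩ := word_mat hF H hw
  rw [wval_gJ hF H w hw, QuotientGroup.eq_one_iff]
  refine mem_center_of_smul (e := c * ω ^ r) ?_
  rw [hc, Nat.eq_of_beq_eq_true e, toM_powScal H, smul_smul]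

/-- A word whose matrix is the given one up to a scalar. -/
theorem word_eq {w : List ℕ} (hw : (w.all fun l => Nat.blt l 24) = true) {M r : ℕ}
    (he : wordC jW w = mmul (powC scal r) M) {x : threeJ3 F ω} (hx : valT x = toM ω M) :
    (QuotientGroup.mk x : J3 F ω) = wval (gJ ω) w := by
  obtain ⟨c, hc0, hc⟩ := word_mat hF H hw
  rw [wval_gJ hF H w hw]
  refine (mk_eq_of_smul (e := c * ω ^ r) ?_).symm
  rw [hc, he, toM_scalMul H, hx, smul_smul]

end Cfsg.Lib.J3Type
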