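import Mathlib

/-!
The action of the element of order three on `A`.
-/

set_option autoImplicit false
set_option maxRecDepth 100000

namespace Cfsg.Lib.J3Type

/-- The action of the element of order three: coordinates of conjugates. -/
def xData : List (ℕ × ℕ × ℕ) := [(0, 10, 1), (5, 10, 9), (0, 11, 4), (4, 0, 11)]

end Cfsg.Lib.J3Type
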