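import Cfsg.Agent.Lib.J3Type.Frame
import Cfsg.Agent.Lib.J3Type.LocalData3

/-!
# The element of order three in the centralizer of `t`
-/

set_option autoImplicit false
set_option linter.unusedSectionVars false
set_option maxRecDepth 100000

namespace Cfsg.Lib.J3Type

variable {G : Type*} [Group G] [Finite G] {t : G} {g : ℕ → G} {d k n : G}

/-- Conjugation by the element of order three, as it must act on a basis vector of `A`. -/
def xRowOK (j : ℕ) : Bool :=
  let p := xData.getD j (0, 0, 0)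
  let Mn := (naPair.getD 10 (0, idM)).2
  let m := m0List.getD p.2.1 0
  Nat.blt p.1 16 && Nat.blt p.2.1 12 && Nat.blt p.2.2 16 &&
    Nat.beq (tmul cenCert cenW cIdx.1 (avN (appM Mn (Nat.pow 2 j))))
      (tmul cenCert cenW (tmul cenCert cenW (avN p.1) m) cIdx.1) &&
    Nat.beq (tmul cenCert cenW (tmul cenCert cenW (avN (appM sdM p.1)) m) cIdx.1)
      (tmul cenCert cenW cIdx.1 (avN (appM Mn p.2.2)))

/-- An element of order three with the action is one of four. -/
def xSelOK (c : ℕ) : Bool :=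
  Nat.beq c 0 || !Nat.beq (tmul cenCert cenW c (tmul cenCert cenW c c)) 0 ||
    ((List.range 4).any fun j =>
      !Nat.beq (tmul cenCert cenW c (avN (Nat.pow 2 j))) (tmul cenCert cenW (avN (xData.getD j (0, 0, 0)).2.2) c)) ||
    Nat.beq c xTrue.1 || Nat.beq c xTwist || Nat.beq c (xKill.getD 0 (0, 0)).1 || Nat.beq c (xKill.getD 1 (0, 0)).1

theorem xRows_ok : ((List.range 4).all xRowOK) = true := by decide +kernel

theorem xSel_ok : ((List.range 1920).all xSelOK) = true := by decide +kernel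

theorem m0_lt : ∀ q < 12, m0List.getD q 0 < 1920 := by decide +kernel

theorem twist_ok : twistV.getD 0 0 < 16 ∧ twistV.getD 1 0 < 16 ∧ twistV.getD 2 0 < 16 ∧ xTrue.1 < 1920 ∧
    xTwist < 1920 ∧ appM (naPair.getD 10 (0, idM)).2 (twistV.getD 1 0) = twistV.getD 0 0 ∧
    appM (naPair.getD 10 (0, idM)).2 (twistV.getD 2 0) < 16 ∧
    tmul cenCert cenW cIdx.1 (avN (appM (naPair.getD 10 (0, idM)).2 (twistV.getD 2 0))) =
      tmul cenCert cenW (avN (Nat.xor (twistV.getD 0 0) (appM sdM (twistV.getD 0 0)))) cIdx.1 ∧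
    tmul cenCert cenW (tmul cenCert cenW (tmul cenCert cenW (avN (twistV.getD 1 0)) (avN (twistV.getD 2 0))) xTwist)
      (avN (twistV.getD 1 0)) = xTrue.1 ∧
    tmul cenCert cenW (avN (twistV.getD 0 0)) xTrue.1 = tmul cenCert cenW xTrue.1 (avN (twistV.getD 0 0)) ∧
    (∀ j < 2, tmul cenCert cenW (avN (twistV.getD 0 0)) (mIdx.getD j 0) =
      tmul cenCert cenW (mIdx.getD j 0) (avN (twistV.getD 0 0))) := by decide +kernel

theorem sdM_ne : sdM ≠ idM ∧ sdM < 65536 := by decide +kernel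

theorem Cfg.d_ne (C : Cfg t g d k n) : d ≠ 1 := fun e => by
  have h := C.amal.acts
  rw [e] at h
  exact sdM_ne.1 (h.unique C.cen sdM_ne.2 (by norm_num [idM]) (acts_one C.cen))

theorem Cfg.wd (C : Cfg t g d k n) : Commute (trep cenCert g (smallIdx.getD 4 (0, 0)).1) d := by
  have h := C.val 1 (show 4 ∈ naDom by decide)
  rw [gL_small 1 (by norm_num)] at h
  have e : naPair.getD 4 (0, idM) = (0, (naPair.getD 4 (0, idM)).2) := Prod.ext w_facts.2.2 rfl
  rw [e] at h
  exact h.commute C.cen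

/-- The element `u⁻¹ d u` lies in the centralizer and is one of four. -/
theorem Cfg.x_cases (C : Cfg t g d k n) :
    ∃ c, (c = xTrue.1 ∨ c = xTwist ∨ c = (xKill.getD 0 (0, 0)).1 ∨ c = (xKill.getD 1 (0, 0)).1) ∧ c < 1920 ∧
      (uEl g n)⁻¹ * d * uEl g n = trep cenCert g c := by
  set u := uEl g n with hu
  have hw := C.u_t
  rw [← hu] at hw
  have hxt : u⁻¹ * d * u * t = t * (u⁻¹ * d * u) := by
    have h := C.wd
    rw [← hw] at h
    calc u⁻¹ * d * u * t = u⁻¹ * (d * (u * t * u⁻¹)) * u := by group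
      _ = u⁻¹ * ((u * t * u⁻¹) * d) * u := by rw [h.eq]
      _ = t * (u⁻¹ * d * u) := by group
  obtain ⟨c, hc, hcx⟩ := (C.cen.full _).1 hxt
  have h3 : tmul cenCert cenW c (tmul cenCert cenW c c) = 0 := by
    refine C.cen.inj _ (C.cen.mul hc (C.cen.mul hc hc).1).1 0 (by norm_num) ?_
    rw [(C.cen.mul hc (C.cen.mul hc hc).1).2, (C.cen.mul hc hc).2, hcx, trep_zero C.cen.reg]
    calc u⁻¹ * d * u * (u⁻¹ * d * u * (u⁻¹ * d * u)) = u⁻¹ * (d * d * d) * u := by group
      _ = 1 := by rw [C.amal.cube]; group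
  have hc0 : c ≠ 0 := fun e => C.d_ne (by
    rw [e, trep_zero C.cen.reg] at hcx
    calc d = u * (u⁻¹ * d * u) * u⁻¹ := by group
      _ = 1 := by rw [← hcx]; group)
  have hact : ∀ j < 4, tmul cenCert cenW c (avN (Nat.pow 2 j)) =
      tmul cenCert cenW (avN (xData.getD j (0, 0, 0)).2.2) c := by
    intro j hj
    have h := List.all_eq_true.1 xRows_ok j (List.mem_range.2 hj)
    simp only [xRowOK, Bool.and_eq_true] at h
    obtain ⟨⟨⟨⟨ha, hq⟩, hg⟩, e1⟩, e2⟩ := h
    set α := (xData.getD j (0, 0, 0)).1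
    set γ := (xData.getD j (0, 0, 0)).2.2
    set q := (xData.getD j (0, 0, 0)).2.1
    set Mn := (naPair.getD 10 (0, idM)).2
    have ha' : α < 16 := Nat.lt_of_succ_le (Nat.le_of_ble_eq_true ha)
    have hg' : γ < 16 := Nat.lt_of_succ_le (Nat.le_of_ble_eq_true hg)
    have hq' : q < 12 := Nat.lt_of_succ_le (Nat.le_of_ble_eq_true hq)
    have h16 : 2 ^ j < 16 := lt_of_lt_of_le (Nat.pow_lt_pow_right (by norm_num) hj) le_rfl
    obtain ⟨-, -, hcc, -⟩ := letters_facts
    have hm := m0_lt q hq'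
    have hmd : Commute (trep cenCert g (m0List.getD q 0)) d := by
      have hm' := List.all_eq_true.1 m0_facts q (List.mem_range.2 hq')
      simp only [Bool.and_eq_true] at hm'
      have := (trep_mword C.cen _ hm'.1.1.1.1).2 d C.amal.comm
      rwa [Nat.eq_of_beq_eq_true hm'.2] at this
    have E1 : trep cenCert g cIdx.1 * aV g (appM Mn (2 ^ j)) =
        aV g α * trep cenCert g (m0List.getD q 0) * trep cenCert g cIdx.1 := by
      rw [aV, aV, ← (C.cen.mul hcc (avN_lt _ (appM_lt ..))).2, ← (C.cen.mul (avN_lt α ha') hm).2,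
        ← (C.cen.mul (C.cen.mul (avN_lt α ha') hm).1 hcc).2]
      exact congrArg _ (Nat.eq_of_beq_eq_true e1)
    have E2 : aV g (appM sdM α) * trep cenCert g (m0List.getD q 0) * trep cenCert g cIdx.1 =
        trep cenCert g cIdx.1 * aV g (appM Mn γ) := by
      rw [aV, aV, ← (C.cen.mul (avN_lt _ (appM_lt ..)) hm).2,
        ← (C.cen.mul (C.cen.mul (avN_lt _ (appM_lt ..)) hm).1 hcc).2, ← (C.cen.mul hcc (avN_lt _ (appM_lt ..))).2]
      exact congrArg _ (Nat.eq_of_beq_eq_true e2)
    have hn := C.nval.conj C.cen h16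
    have hn' := C.nval.conj C.cen hg'
    have key : u⁻¹ * d * u * aV g (2 ^ j) * (u⁻¹ * d * u)⁻¹ = aV g γ := by
      rw [hu, uEl]
      set cc := trep cenCert g cIdx.1
      set m := trep cenCert g (m0List.getD q 0)
      calc (cc * n)⁻¹ * d * (cc * n) * aV g (2 ^ j) * ((cc * n)⁻¹ * d * (cc * n))⁻¹
          = n⁻¹ * cc⁻¹ * (d * (cc * (n * aV g (2 ^ j) * n⁻¹)) * cc⁻¹ * d⁻¹) * cc * n := by group
        _ = n⁻¹ * cc⁻¹ * (d * aV g α * d⁻¹ * (d * m * d⁻¹)) * cc * n := by rw [hn, E1]; group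
        _ = n⁻¹ * cc⁻¹ * (aV g (appM sdM α) * m * cc) * n := by
            rw [C.amal.acts α ha', show d * m * d⁻¹ = m by rw [← hmd.eq]; group]; group
        _ = n⁻¹ * aV g (appM Mn γ) * n := by rw [E2]; group
        _ = aV g γ := by rw [← hn']; group
    rw [← hcx, mul_inv_eq_iff_eq_mul, aV, aV] at key
    exact (C.cen.eq_iff hc (avN_lt _ h16) (avN_lt _ hg') hc).1 key
  have h := List.all_eq_true.1 xSel_ok c (List.mem_range.2 hc)
  simp only [xSelOK, Bool.or_eq_true, Bool.not_eq_true', List.any_eq_true, List.mem_range] at h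
  refine ⟨c, ?_, hc, hcx.symm⟩
  rcases h with (((((h | h) | ⟨j, hj, h⟩) | h) | h) | h) | h
  · exact absurd (Nat.eq_of_beq_eq_true h) hc0
  · rw [h3] at h; exact Bool.noConfusion h
  · rw [hact j hj, Nat.beq_refl] at h; exact Bool.noConfusion h
  · exact Or.inl (Nat.eq_of_beq_eq_true h)
  · exact Or.inr (Or.inl (Nat.eq_of_beq_eq_true h))
  · exact Or.inr (Or.inr (Or.inl (Nat.eq_of_beq_eq_true h)))
  · exact Or.inr (Or.inr (Or.inr (Nat.eq_of_beq_eq_true h)))

omit [Finite G] in
theorem trep_map {M : Type*} [Group M] (φ : G →* M) (K : Cert) (f : ℕ → G) (c : ℕ) :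
    trep K (fun i => φ (f i)) c = φ (trep K f c) := by
  unfold trep rep
  generalize K.live.get 15 c = m
  have : ∀ fuel j, repF K (fun i => φ (f i)) fuel j = φ (repF K f fuel j) := by
    intro fuel
    induction fuel with
    | zero => intro j; exact (map_one φ).symm
    | succ fuel ih =>
      intro j
      simp only [repF]
      split
      · rw [ih, map_mul]
        congr 1
        unfold lval
        split <;> [exact (map_one φ).symm; (split <;> simp)]
      · exact (map_one φ).symm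
  exact this m m

/-- The other remaining candidate becomes the true one after changing the table by an inner automorphism. -/
theorem Cfg.twist (C : Cfg t g d k n) (hx : (uEl g n)⁻¹ * d * uEl g n = trep cenCert g xTwist) :
    ∃ g', Cfg t g' d k n ∧ (uEl g' n)⁻¹ * d * uEl g' n = trep cenCert g' xTrue.1 := by
  obtain ⟨ha, hb, hb2, hT, hW, hvb, hab2, e1, e2, e3, e4⟩ := twist_ok
  set va := twistV.getD 0 0
  set vb := twistV.getD 1 0
  set b2 := twistV.getD 2 0
  set v := aV g va with hv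
  let φ : G →* G := (MulAut.conj v).toMonoidHom
  let g' : ℕ → G := fun i => φ (g i)
  have htr : ∀ c, trep cenCert g' c = v * trep cenCert g c * v⁻¹ := fun c => trep_map φ cenCert g c
  have hfix : ∀ c, c < 1920 → tmul cenCert cenW (avN va) c = tmul cenCert cenW c (avN va) →
      trep cenCert g' c = trep cenCert g c := by
    intro c hc e
    rw [htr, hv, aV, (C.cen.eq_iff (avN_lt va ha) hc hc (avN_lt va ha)).2 e, mul_inv_cancel_right]
  have hav : ∀ a < 16, aV g' a = aV g a := fun a ha' => by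
    rw [aV, hfix _ (avN_lt a ha') (by rw [avN_mul va ha a ha', avN_mul a ha' va ha]; exact congrArg _ (Nat.xor_comm ..))]
    rfl
  have hcen : Cen t g' := by
    have hR : Reg cenCert g' :=
      { valid := ⟨fun ws hws w hw => by
          rw [← wval_map φ, C.cen.reg.valid.rules ws hws w hw, map_one],
          fun s hs => by simp [cenCert] at hs⟩
        facts := C.cen.reg.facts
        rows := C.cen.reg.rows
        zero := C.cen.reg.zero
        pos := C.cen.reg.pos }
    have hvt : Commute v t := aV_commute_t C.cen ha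
    refine ⟨hR, fun x => ?_, fun c hc e he h => ?_, ?_⟩
    · constructor
      · intro hx
        obtain ⟨c, hc, e⟩ := (C.cen.full (v⁻¹ * x * v)).1 ((hvt.inv_left.mul_left hx).mul_left hvt)
        exact ⟨c, hc, by rw [htr, e]; group⟩
      · rintro ⟨c, hc, rfl⟩
        rw [htr]
        have : Commute (trep cenCert g c) t := (C.cen.full _).2 ⟨c, hc, rfl⟩
        exact ((hvt.mul_left this).mul_left hvt.inv_left).eq
    · rw [htr, htr] at h
      exact C.cen.inj c hc e he (mul_left_cancel (mul_right_cancel h))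
    · rw [htr, C.cen.center, hvt.eq, mul_inv_cancel_right]
  have hacts : ∀ {M : ℕ} {x : G}, Acts g M x → Acts g' M x := fun {M x} h a ha' => by
    rw [hav a ha', hav _ (appM_lt ..)]; exact h a ha'
  have hval : ∀ {p : ℕ × ℕ} {y : G}, Val g d p y → Val g' d p y := fun {p y} h => by
    obtain ⟨hp, x, rfl, hx, hxd⟩ := h
    exact ⟨hp, x, by rw [hav _ hp], hacts hx, hxd⟩
  refine ⟨g', ⟨hcen, ⟨C.amal.cube, hacts C.amal.acts, fun j hj => ?_, fun i hi => ?_⟩, hval C.kval, hval C.nval⟩, ?_⟩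
  · rw [hfix _ (mIdx_facts j hj).1 (e4 j hj)]; exact C.amal.comm j hj
  · obtain ⟨x, h1, h2⟩ := C.amal.real i hi; exact ⟨x, hacts h1, h2⟩
  obtain ⟨-, -, hcc, -⟩ := letters_facts
  rw [hfix _ hT e3]
  have hxor : Nat.xor va (appM sdM va) < 16 := Nat.xor_lt_two_pow (n := 4) ha (appM_lt ..)
  have E1 : trep cenCert g cIdx.1 * aV g (appM (naPair.getD 10 (0, idM)).2 b2) =
      aV g (Nat.xor va (appM sdM va)) * trep cenCert g cIdx.1 :=
    (C.cen.eq_iff hcc (avN_lt _ hab2) (avN_lt _ hxor) hcc).2 e1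
  have hu' : uEl g' n = v * uEl g n * aV g vb := by
    have hn := C.nval.conj C.cen hb
    rw [hvb, ← hv] at hn
    rw [uEl, uEl, htr]
    calc v * trep cenCert g cIdx.1 * v⁻¹ * n = v * trep cenCert g cIdx.1 * (v * n) := by
          rw [hv, aV_inv C.cen ha]; group
      _ = v * (trep cenCert g cIdx.1 * n) * aV g vb := by
          conv_lhs => arg 2; rw [← hn]
          group
  have hvd : v⁻¹ * d * v = aV g (Nat.xor va (appM sdM va)) * d := by
    rw [← aV_mul C.cen ha (appM_lt ..), ← C.amal.acts va ha, hv, aV_inv C.cen ha]; group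
  have hb2' := C.nval.conj C.cen hb2
  rw [hu']
  set u := uEl g n with hu
  have E : u⁻¹ * aV g (Nat.xor va (appM sdM va)) * u = aV g b2 := by
    rw [hu, uEl]
    calc (trep cenCert g cIdx.1 * n)⁻¹ * aV g (Nat.xor va (appM sdM va)) * (trep cenCert g cIdx.1 * n)
        = n⁻¹ * (trep cenCert g cIdx.1)⁻¹ * (aV g (Nat.xor va (appM sdM va)) * trep cenCert g cIdx.1) * n := by group
      _ = n⁻¹ * aV g (appM (naPair.getD 10 (0, idM)).2 b2) * n := by rw [← E1]; group
      _ = aV g b2 := by rw [← hb2']; group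
  have m1 := C.cen.mul (avN_lt vb hb) (avN_lt b2 hb2)
  have m2 := C.cen.mul m1.1 hW
  have m3 := C.cen.mul m2.1 (avN_lt vb hb)
  calc (v * u * aV g vb)⁻¹ * d * (v * u * aV g vb) = (aV g vb)⁻¹ * (u⁻¹ * (v⁻¹ * d * v) * u) * aV g vb := by group
    _ = aV g vb * aV g b2 * trep cenCert g xTwist * aV g vb := by
      rw [hvd, aV_inv C.cen hb, ← hx, ← E]; group
    _ = trep cenCert g xTrue.1 := by rw [← e2, m3.2, m2.2, m1.2]; rfl

end Cfsg.Lib.J3Type
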