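import Cfsg.Agent.Lib.J3Type.Rules
import Cfsg.Agent.Lib.J3Type.XStep

/-!
# The rules in the group; the wrong choices collapse
-/

set_option autoImplicit false
set_option linter.unusedSectionVars false
set_option maxRecDepth 100000

namespace Cfsg.Lib.J3Type

open Subgroup

variable {G : Type*} [Group G] [Finite G] {t : G} {g : ℕ → G} {d k n : G}

theorem five_out : (smallIdx.getD 5 (0, 0)).1 < 1920 ∧ 65536 ≤ cvTab.get 20 (smallIdx.getD 5 (0, 0)).1 := by
  decide +kernel

theorem ex_val {G : Type*} [Group G] {f : ℕ → G} {full ex : List (List ℕ)} (h : exOK full ex = true)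
    (hf : ∀ r ∈ full, wval f r = 1) : ∀ r ∈ ex, wval f r = 1 := by
  intro r hr
  obtain ⟨u, hu, hs⟩ := List.any_eq_true.1 (List.all_eq_true.1 h r hr)
  exact wval_sameRule (hf u hu) hs

theorem Cfg.rules_val (C : Cfg t g d k n) (i : G) {dom : List ℕ} (hdom : ∀ j ∈ dom, j < 12)
    {wim : List (ℕ × ℕ)} (hwim : imgsOK cenCert cenW wim = true) (hlen : wim.length = 12)
    (hw : ∀ j ∈ dom, (uEl g n)⁻¹ * gL g d k n i j * uEl g n = trep cenCert g (wim.getD j (0, 0)).1)
    {ex : List (List ℕ)} (hex : ∀ r ∈ ex, wval (gL g d k n i) r = 1) {K : Cert}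
    (hK : gRules dom wim ex K = true) : ∀ ws ∈ K.rules, ∀ w ∈ ws, wval (gL g d k n i) w = 1 :=
  fun ws hws w hw' => C.okRule_val i hdom hwim hlen hw hex
    (List.all_eq_true.1 (List.all_eq_true.1 hK ws hws) w hw')

theorem wImg_len (x y : ℕ × ℕ) : (wImg x y).length = 12 := by simp [wImg]

theorem wImg_get (x y : ℕ × ℕ) :
    (wImg x y).getD 0 (0, 0) = (avN (wSmall.getD 0 (0, 0)).2, avN (wSmall.getD 0 (0, 0)).2) ∧
    (wImg x y).getD 2 (0, 0) = (avN (wSmall.getD 1 (0, 0)).2, avN (wSmall.getD 1 (0, 0)).2) ∧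
    (wImg x y).getD 4 (0, 0) = (avN (wSmall.getD 2 (0, 0)).2, avN (wSmall.getD 2 (0, 0)).2) ∧
    (wImg x y).getD 8 (0, 0) = x ∧ (wImg x y).getD 11 (0, 0) = y :=
  ⟨rfl, rfl, rfl, rfl, rfl⟩

/-- The conjugates of the letters in `C(w)`. -/
theorem Cfg.wImg_val (C : Cfg t g d k n) (i : G) {x y : ℕ × ℕ}
    (hx : (uEl g n)⁻¹ * d * uEl g n = trep cenCert g x.1) {j : ℕ} (hj : j ∈ xDom) :
    (uEl g n)⁻¹ * gL g d k n i j * uEl g n = trep cenCert g ((wImg x y).getD j (0, 0)).1 := by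
  obtain ⟨h0, h2, h4, h8, -⟩ := wImg_get x y
  simp only [xDom, List.mem_cons, List.not_mem_nil, or_false] at hj
  rcases hj with rfl | rfl | rfl | rfl
  · rw [h0]; exact C.u_small i (s := 0) (by norm_num)
  · rw [h2]; exact C.u_small i (s := 1) (by norm_num)
  · rw [h4]; exact C.u_small i (s := 2) (by norm_num)
  · rw [h8, gL_d]; exact hx

theorem Cfg.wImg_val_y (C : Cfg t g d k n) (i : G) {x y : ℕ × ℕ}
    (hx : (uEl g n)⁻¹ * d * uEl g n = trep cenCert g x.1)
    (hy : (uEl g n)⁻¹ * i * uEl g n = trep cenCert g y.1) {j : ℕ} (hj : j ∈ yDom) :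
    (uEl g n)⁻¹ * gL g d k n i j * uEl g n = trep cenCert g ((wImg x y).getD j (0, 0)).1 := by
  by_cases h : j ∈ xDom
  · exact C.wImg_val i hx h
  · obtain rfl : j = 11 := by
      simp only [yDom, xDom, List.mem_cons, List.not_mem_nil, or_false] at hj h
      omega
    rw [(wImg_get x y).2.2.2.2, gL_i]
    exact hy

theorem Cfg.fullX_val (C : Cfg t g d k n) (i : G) {s : ℕ} (hs : s < 2)
    (hx : (uEl g n)⁻¹ * d * uEl g n = trep cenCert g (xKill.getD s (0, 0)).1) :
    ∀ r ∈ fullX s, wval (gL g d k n i) r = 1 := by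
  intro r hr
  rw [fullX, List.mem_singleton] at hr
  subst hr
  exact C.exWord_val i (j := 8) (by norm_num) (exW_ok.1 s (by omega)) (exW_ok.2.2.1 s hs) (by rw [gL_d]; exact hx)

theorem Cfg.fullY_val (C : Cfg t g d k n) {i : G} {s : ℕ} (hs : s < 4)
    (hx : (uEl g n)⁻¹ * d * uEl g n = trep cenCert g xTrue.1)
    (hy : (uEl g n)⁻¹ * i * uEl g n = trep cenCert g (yReps.getD s (0, 0)).1)
    (hik : i * k * i * k⁻¹ = 1) : ∀ r ∈ fullY s, wval (gL g d k n i) r = 1 := by
  intro r hr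
  simp only [fullY, List.mem_cons, List.not_mem_nil, or_false] at hr
  rcases hr with rfl | rfl | rfl
  · exact C.exWord_val i (j := 8) (by norm_num) (exW_ok.1 2 (by norm_num)) exW_ok.2.2.2.1 (by rw [gL_d]; exact hx)
  · exact C.exWord_val i (j := 11) (by norm_num) (exW_ok.2.1 s hs) (exW_ok.2.2.2.2 s hs) (by rw [gL_i]; exact hy)
  · simpa [wval, lval, idL, gL, mul_assoc] using hik

/-- A collapse to one coset of the normalizer of `A` is impossible. -/
theorem Cfg.kill (C : Cfg t g d k n) (i : G) (K : Cert)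
    (hrules : ∀ ws ∈ K.rules, ∀ w ∈ ws, wval (gL g d k n i) w = 1)
    (hsubs : K.subs = [0, 2, 4, 6, 8, 16, 18]) (hgens : K.gens = [2, 10, 12, 16])
    (hf : ∀ q < K.nFacts, factOK K q = true) (hr : ∀ c < K.nLive, rowOK K c = true)
    (h0 : K.live.get 15 0 = 0) (hn : K.nLive = 1) : False := by
  classical
  set f := gL g d k n i
  let H : Subgroup G := closure {y | ∃ s ∈ K.subs, lval f s = y}
  have hV : Valid K f H := ⟨hrules, fun s hs => subset_closure ⟨s, hs, rfl⟩⟩
  have h10 : f 5 ∈ closure {y | ∃ j < K.gens.length, lval f (K.gens.getD j idL) = y} :=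
    subset_closure ⟨1, by rw [hgens]; norm_num, by rw [hgens]; rfl⟩
  obtain ⟨c, hc, hmem⟩ := mem_cover hV hf h0 hr (by omega) h10
  obtain rfl : c = 0 := by omega
  rw [h0, show rep K f 0 = 1 from rfl, inv_one, mul_one] at hmem
  have hnorm : ∀ x ∈ H, ∃ M, M < 65536 ∧ Acts g M x := by
    intro x hx
    rw [← Subgroup.mem_toSubmonoid, Subgroup.closure_toSubmonoid_of_finite] at hx
    induction hx using Submonoid.closure_induction with
    | mem y hy =>
      obtain ⟨s, hs, rfl⟩ := hy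
      rw [hsubs] at hs
      have hj : s % 2 = 0 ∧ s / 2 ∈ naDom ∧ s < 30 := by
        revert s; decide +kernel
      refine ⟨compM idM (naPair.getD (s / 2) (0, idM)).2, compM_lt .., ?_⟩
      have hv := (C.val i hj.2.1).acts C.cen
      have := (acts_one C.cen).mul C.cen hv
      rw [one_mul] at this
      rwa [lval, if_neg (by show ¬ 30 ≤ s; omega), if_pos hj.1]
    | one => exact ⟨idM, by norm_num [idM], acts_one C.cen⟩
    | mul x y _ _ hx hy =>
      obtain ⟨M, -, hM⟩ := hx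
      obtain ⟨N, -, hN⟩ := hy
      exact ⟨compM M N, compM_lt .., hM.mul C.cen hN⟩
  obtain ⟨M, hM, hact⟩ := hnorm _ hmem
  obtain ⟨hlt, hbig⟩ := five_out
  have e : f 5 = trep cenCert g (smallIdx.getD 5 (0, 0)).1 := gL_small i (by norm_num)
  rw [e] at hact
  rw [(cv_code C.cen hlt hM hact).1] at hbig
  omega

/-- The wrong candidates for the element of order three collapse. -/
theorem Cfg.x_kill (C : Cfg t g d k n) {s : ℕ} (hs : s < 2)
    (hx : (uEl g n)⁻¹ * d * uEl g n = trep cenCert g (xKill.getD s (0, 0)).1) : False := by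
  have hw : ∀ j ∈ xDom, (uEl g n)⁻¹ * gL g d k n 1 j * uEl g n = trep cenCert g ((wImgX s).getD j (0, 0)).1 :=
    fun j hj => C.wImg_val 1 hx hj
  have hd : ∀ j ∈ xDom, j < 12 := by decide
  have hlen : (wImgX s).length = 12 := wImg_len _ _
  have hv := C.fullX_val 1 hs hx
  interval_cases s
  · exact C.kill 1 killX0 (C.rules_val 1 hd (wImg_ok.2 0 (by norm_num)) hlen hw (ex_val ex_ok.2.2.2.1 hv) killX0_g)
      rfl rfl killX0_fact_ok killX0_row_ok killX0_live_zero rfl
  · exact C.kill 1 killX1 (C.rules_val 1 hd (wImg_ok.2 1 (by norm_num)) hlen hw (ex_val ex_ok.2.2.2.2.1 hv) killX1_g)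
      rfl rfl killX1_fact_ok killX1_row_ok killX1_live_zero rfl

/-- The wrong inverters collapse. -/
theorem Cfg.y_kill (C : Cfg t g d k n) {i : G} {s : ℕ} (hs : s < 3)
    (hx : (uEl g n)⁻¹ * d * uEl g n = trep cenCert g xTrue.1)
    (hy : (uEl g n)⁻¹ * i * uEl g n = trep cenCert g (yReps.getD s (0, 0)).1)
    (hik : i * k * i * k⁻¹ = 1) : False := by
  have hw : ∀ j ∈ yDom, (uEl g n)⁻¹ * gL g d k n i j * uEl g n = trep cenCert g ((wImgY s).getD j (0, 0)).1 :=
    fun j hj => C.wImg_val_y i hx hy hj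
  have hd : ∀ j ∈ yDom, j < 12 := by decide
  have hlen : (wImgY s).length = 12 := wImg_len _ _
  have hv := C.fullY_val (by omega) hx hy hik
  interval_cases s
  · exact C.kill i killY0 (C.rules_val i hd (wImg_ok.1 0 (by norm_num)) hlen hw (ex_val ex_ok.2.2.2.2.2.1 hv) killY0_g)
      rfl rfl killY0_fact_ok killY0_row_ok killY0_live_zero rfl
  · exact C.kill i killY1 (C.rules_val i hd (wImg_ok.1 1 (by norm_num)) hlen hw (ex_val ex_ok.2.2.2.2.2.2.1 hv) killY1_g)
      rfl rfl killY1_fact_ok killY1_row_ok killY1_live_zero rfl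
  · exact C.kill i killY2 (C.rules_val i hd (wImg_ok.1 2 (by norm_num)) hlen hw (ex_val ex_ok.2.2.2.2.2.2.2 hv) killY2_g)
      rfl rfl killY2_fact_ok killY2_row_ok killY2_live_zero rfl

end Cfsg.Lib.J3Type
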