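import Cfsg.Agent.Lib.J3Type.KillYAData

/-!
Kernel checks of the certificate `killY0`.
-/

set_option autoImplicit false
set_option maxRecDepth 100000

namespace Cfsg.Lib.J3Type

theorem killY0_facts0 : factsOK killY0 0 2000 = true := by decide +kernel

theorem killY0_facts1 : factsOK killY0 2000 2000 = true := by decide +kernel

theorem killY0_facts2 : factsOK killY0 4000 2000 = true := by decide +kernel

theorem killY0_facts3 : factsOK killY0 6000 2000 = true := by decide +kernel

theorem killY0_facts4 : factsOK killY0 8000 453 = true := by decide +kernel

theorem killY0_rows0 : rowsOK killY0 0 1 = true := by decide +kernel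

theorem killY0_fact_ok : ∀ i < killY0.nFacts, factOK killY0 i = true := by
  intro i hi
  replace hi : i < 8453 := hi
  by_cases h0 : i < 2000
  · exact factOK_of_factsOK killY0_facts0 (by omega) (by omega)
  by_cases h1 : i < 4000
  · exact factOK_of_factsOK killY0_facts1 (by omega) (by omega)
  by_cases h2 : i < 6000
  · exact factOK_of_factsOK killY0_facts2 (by omega) (by omega)
  by_cases h3 : i < 8000
  · exact factOK_of_factsOK killY0_facts3 (by omega) (by omega)
  by_cases h4 : i < 8453
  · exact factOK_of_factsOK killY0_facts4 (by omega) (by omega)
  omega

theorem killY0_row_ok : ∀ c < killY0.nLive, rowOK killY0 c = true := by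
  intro c hc
  replace hc : c < 1 := hc
  by_cases h0 : c < 1
  · exact rowOK_of_rowsOK killY0_rows0 (by omega) (by omega)
  omega

theorem killY0_live_zero : killY0.live.get 15 0 = 0 := by decide +kernel

end Cfsg.Lib.J3Type
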