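import Cfsg.Agent.Lib.J3Type.KillYCData

/-!
Kernel checks of the certificate `killY2`.
-/

set_option autoImplicit false
set_option maxRecDepth 100000

namespace Cfsg.Lib.J3Type

theorem killY2_facts0 : factsOK killY2 0 776 = true := by decide +kernel

theorem killY2_rows0 : rowsOK killY2 0 1 = true := by decide +kernel

theorem killY2_fact_ok : ∀ i < killY2.nFacts, factOK killY2 i = true := by
  intro i hi
  replace hi : i < 776 := hi
  by_cases h0 : i < 776
  · exact factOK_of_factsOK killY2_facts0 (by omega) (by omega)
  omega

theorem killY2_row_ok : ∀ c < killY2.nLive, rowOK killY2 c = true := by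
  intro c hc
  replace hc : c < 1 := hc
  by_cases h0 : c < 1
  · exact rowOK_of_rowsOK killY2_rows0 (by omega) (by omega)
  omega

theorem killY2_live_zero : killY2.live.get 15 0 = 0 := by decide +kernel

end Cfsg.Lib.J3Type
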