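import Cfsg.Agent.Lib.J3Type.LocalCheck
import Cfsg.Agent.Lib.J3Type.Centralizer

/-!
# The normalizer of the elementary abelian subgroup of order sixteen

`A` is the centralizer in `C(t)` of an outer involution. Its normalizer induces the group `GL₂(4)` of order
180 on it, and the centralizer of a scalar of order three is a complement.
-/

set_option autoImplicit false

namespace Cfsg.Lib.J3Type

open Subgroup

variable {G : Type*} [Group G] {t : G} {g : ℕ → G}

/-- An element of `A`. -/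
def aV (g : ℕ → G) (a : ℕ) : G := trep cenCert g (avN a)

/-- The element acts on `A` by the coded map. -/
def Acts (g : ℕ → G) (M : ℕ) (x : G) : Prop := ∀ a < 16, x * aV g a * x⁻¹ = aV g (appM M a)

theorem Cen.mul (H : Cen t g) {c d : ℕ} (hc : c < 1920) (hd : d < 1920) :
    tmul cenCert cenW c d < 1920 ∧
      trep cenCert g (tmul cenCert cenW c d) = trep cenCert g c * trep cenCert g d :=
  tmul_spec H.reg cenW_ok cenW_gap hc hd

theorem Cen.eq_iff (H : Cen t g) {c d c' d' : ℕ} (hc : c < 1920) (hd : d < 1920) (hc' : c' < 1920)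
    (hd' : d' < 1920) :
    trep cenCert g c * trep cenCert g d = trep cenCert g c' * trep cenCert g d' ↔
      tmul cenCert cenW c d = tmul cenCert cenW c' d' := by
  rw [← (H.mul hc hd).2, ← (H.mul hc' hd').2]
  exact ⟨H.inj _ (H.mul hc hd).1 _ (H.mul hc' hd').1, fun h => by rw [h]⟩

theorem cond_cases {b x y : Bool} (h : (bif b then x else y) = true) :
    (b = true ∧ x = true) ∨ (b = false ∧ y = true) := by
  cases b
  · exact Or.inr ⟨rfl, h⟩
  · exact Or.inl ⟨rfl, h⟩

theorem nib_lt (M j : ℕ) : nib M j < 16 := Nat.mod_lt _ (by norm_num)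

theorem bitImg_lt (M a j : ℕ) : bitImg M a j < 16 := by
  unfold bitImg
  cases Nat.beq (Nat.mod (Nat.shiftRight a j) 2) 1
  · norm_num
  · exact nib_lt M j

theorem appM_lt (M a : ℕ) : appM M a < 16 :=
  Nat.xor_lt_two_pow (n := 4) (Nat.xor_lt_two_pow (n := 4) (bitImg_lt M a 0) (bitImg_lt M a 1))
    (Nat.xor_lt_two_pow (n := 4) (bitImg_lt M a 2) (bitImg_lt M a 3))

theorem appM_pow (M : ℕ) : ∀ j < 4, appM M (2 ^ j) = nib M j := by
  intro j hj
  have hb : ∀ i < 4, ∀ j < 4, Nat.beq (Nat.mod (Nat.shiftRight (2 ^ j) i) 2) 1 = decide (i = j) := by decide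
  interval_cases j <;>
    simp only [appM, bitImg, hb, Nat.lt_add_one, show (0 : ℕ) < 4 by norm_num, show (1 : ℕ) < 4 by norm_num,
      show (2 : ℕ) < 4 by norm_num, show (3 : ℕ) < 4 by norm_num, zero_ne_one, OfNat.ofNat_ne_zero, ne_eq,
      not_false_eq_true, decide_true, decide_false, cond_true, cond_false, Nat.reduceEqDiff] <;>
    simp [Nat.xor]

theorem code_eq {M N : ℕ} (hM : M < 65536) (hN : N < 65536) (h : ∀ j < 4, nib M j = nib N j) : M = N := by
  have hd : ∀ X < 65536, X = nib X 0 + 16 * nib X 1 + 256 * nib X 2 + 4096 * nib X 3 := by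
    intro X hX
    show X = X >>> 0 % 16 + 16 * (X >>> 4 % 16) + 256 * (X >>> 8 % 16) + 4096 * (X >>> 12 % 16)
    simp only [Nat.shiftRight_eq_div_pow]
    norm_num
    omega
  rw [hd M hM, hd N hN, h 0 (by norm_num), h 1 (by norm_num), h 2 (by norm_num), h 3 (by norm_num)]

theorem compM_lt (M N : ℕ) : compM M N < 65536 := by
  have h0 := appM_lt M (nib N 0); have h1 := appM_lt M (nib N 1)
  have h2 := appM_lt M (nib N 2); have h3 := appM_lt M (nib N 3)
  show appM M (nib N 0) + (16 * appM M (nib N 1) + (256 * appM M (nib N 2) + 4096 * appM M (nib N 3))) < _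
  omega

theorem nib_compM (M N : ℕ) : ∀ j < 4, nib (compM M N) j = appM M (nib N j) := by
  intro j hj
  have h0 := appM_lt M (nib N 0); have h1 := appM_lt M (nib N 1)
  have h2 := appM_lt M (nib N 2); have h3 := appM_lt M (nib N 3)
  show (appM M (nib N 0) + (16 * appM M (nib N 1) + (256 * appM M (nib N 2) + 4096 * appM M (nib N 3)))) >>>
    (4 * j) % 16 = _
  rw [Nat.shiftRight_eq_div_pow]
  interval_cases j <;> norm_num <;> omega

variable (H : Cen t g)
include H

theorem aV_zero : aV g 0 = 1 := by rw [aV, avN_zero.1, trep_zero H.reg]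

theorem aV_one : aV g 1 = t := by rw [aV, avN_zero.2, H.center]

theorem aV_mul {a b : ℕ} (ha : a < 16) (hb : b < 16) : aV g a * aV g b = aV g (Nat.xor a b) := by
  rw [aV, aV, aV, ← (H.mul (avN_lt a ha) (avN_lt b hb)).2, avN_mul a ha b hb]

theorem aV_inj {a b : ℕ} (ha : a < 16) (hb : b < 16) (h : aV g a = aV g b) : a = b :=
  avN_inj a ha b hb (H.inj _ (avN_lt a ha) _ (avN_lt b hb) h)

theorem aV_comm {a b : ℕ} (ha : a < 16) (hb : b < 16) : Commute (aV g a) (aV g b) := by
  show _ * _ = _ * _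
  rw [aV_mul H ha hb, aV_mul H hb ha]
  exact congrArg _ (Nat.xor_comm a b)

theorem aV_self {a : ℕ} (ha : a < 16) : aV g a * aV g a = 1 := by
  rw [aV_mul H ha ha, show Nat.xor a a = 0 from Nat.xor_self a, aV_zero H]

theorem aV_inv {a : ℕ} (ha : a < 16) : (aV g a)⁻¹ = aV g a := inv_eq_of_mul_eq_one_right (aV_self H ha)

theorem aV_commute_t {a : ℕ} (ha : a < 16) : Commute (aV g a) t := by
  have := aV_comm H ha (show 1 < 16 by norm_num)
  rwa [aV_one H] at this

theorem outer_cent {x : G} (h1 : Commute x t) (h2 : Commute x (aV g 2)) : ∃ a < 16, x = aV g a := by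
  obtain ⟨c, hc, rfl⟩ := (H.full x).1 h1.eq
  have h := List.all_eq_true.1 avN_outer c (List.mem_range.2 hc)
  simp only [Bool.or_eq_true, Bool.not_eq_true', List.any_eq_true] at h
  rcases h with h | ⟨y, hy, hcy⟩
  · exfalso
    have e := (H.eq_iff hc (avN_lt 2 (by norm_num)) (avN_lt 2 (by norm_num)) hc).1 h2
    rw [e, Nat.beq_refl] at h
    exact Bool.noConfusion h
  · obtain ⟨a, ha, rfl⟩ := List.mem_iff_getElem.1 hy
    refine ⟨a, avIdx_len ▸ ha, ?_⟩
    rw [Nat.eq_of_beq_eq_true hcy, aV, avN, List.getD_eq_getElem _ _ ha]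

theorem acts_of_basis {M : ℕ} {x : G} (h : ∀ j < 4, x * aV g (2 ^ j) * x⁻¹ = aV g (nib M j)) : Acts g M x := by
  intro a ha
  let bv : ℕ → ℕ := fun j => bif Nat.beq (Nat.mod (Nat.shiftRight a j) 2) 1 then 2 ^ j else 0
  have hb : ∀ j < 4, x * aV g (bv j) * x⁻¹ = aV g (bitImg M a j) := by
    intro j hj
    show x * aV g (bif Nat.beq (Nat.mod (Nat.shiftRight a j) 2) 1 then 2 ^ j else 0) * x⁻¹ =
      aV g (bif Nat.beq (Nat.mod (Nat.shiftRight a j) 2) 1 then nib M j else 0)
    cases Nat.beq (Nat.mod (Nat.shiftRight a j) 2) 1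
    · simp [aV_zero H]
    · exact h j hj
  have hlt : ∀ j < 4, bv j < 16 := by
    intro j hj
    show (bif Nat.beq (Nat.mod (Nat.shiftRight a j) 2) 1 then 2 ^ j else 0) < 16
    cases Nat.beq (Nat.mod (Nat.shiftRight a j) 2) 1
    · norm_num
    · exact lt_of_lt_of_le (Nat.pow_lt_pow_right (by norm_num) hj) le_rfl
  have ea : a = Nat.xor (Nat.xor (bv 0) (bv 1)) (Nat.xor (bv 2) (bv 3)) := by
    have hd : ∀ a < 16, a = Nat.xor
        (Nat.xor (bif Nat.beq (Nat.mod (Nat.shiftRight a 0) 2) 1 then 2 ^ 0 else 0)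
          (bif Nat.beq (Nat.mod (Nat.shiftRight a 1) 2) 1 then 2 ^ 1 else 0))
        (Nat.xor (bif Nat.beq (Nat.mod (Nat.shiftRight a 2) 2) 1 then 2 ^ 2 else 0)
          (bif Nat.beq (Nat.mod (Nat.shiftRight a 3) 2) 1 then 2 ^ 3 else 0)) := by decide
    exact hd a ha
  have h01 : Nat.xor (bv 0) (bv 1) < 16 := Nat.xor_lt_two_pow (n := 4) (hlt 0 (by norm_num)) (hlt 1 (by norm_num))
  have h23 : Nat.xor (bv 2) (bv 3) < 16 := Nat.xor_lt_two_pow (n := 4) (hlt 2 (by norm_num)) (hlt 3 (by norm_num))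
  conv_lhs => rw [ea, ← aV_mul H h01 h23, ← aV_mul H (hlt 0 (by norm_num)) (hlt 1 (by norm_num)),
    ← aV_mul H (hlt 2 (by norm_num)) (hlt 3 (by norm_num))]
  have k01 : Nat.xor (bitImg M a 0) (bitImg M a 1) < 16 :=
    Nat.xor_lt_two_pow (n := 4) (bitImg_lt M a 0) (bitImg_lt M a 1)
  have k23 : Nat.xor (bitImg M a 2) (bitImg M a 3) < 16 :=
    Nat.xor_lt_two_pow (n := 4) (bitImg_lt M a 2) (bitImg_lt M a 3)
  rw [appM, ← aV_mul H k01 k23,
    ← aV_mul H (bitImg_lt M a 0) (bitImg_lt M a 1), ← aV_mul H (bitImg_lt M a 2) (bitImg_lt M a 3),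
    ← hb 0 (by norm_num), ← hb 1 (by norm_num), ← hb 2 (by norm_num), ← hb 3 (by norm_num)]
  group

theorem acts_one : Acts g idM (1 : G) := by
  refine acts_of_basis H fun j hj => ?_
  rw [one_mul, inv_one, mul_one]
  interval_cases j <;> rfl

omit H in
theorem Acts.pair {M N : ℕ} {x y : G} (hx : Acts g M x) (hy : Acts g N y) {a : ℕ} (ha : a < 16) :
    x * y * aV g a * (x * y)⁻¹ = aV g (appM M (appM N a)) := by
  rw [← hx _ (appM_lt N a), ← hy a ha]; group

theorem Acts.mul {M N : ℕ} {x y : G} (hx : Acts g M x) (hy : Acts g N y) : Acts g (compM M N) (x * y) := by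
  refine acts_of_basis H fun j hj => ?_
  rw [hx.pair hy (lt_of_lt_of_le (Nat.pow_lt_pow_right (by norm_num) hj) le_rfl), nib_compM M N j hj,
    appM_pow N j hj]

theorem Acts.unique {M N : ℕ} {x : G} (hM : M < 65536) (hN : N < 65536) (hx : Acts g M x) (hy : Acts g N x) :
    M = N := by
  refine code_eq hM hN fun j hj => ?_
  have h16 : 2 ^ j < 16 := lt_of_lt_of_le (Nat.pow_lt_pow_right (by norm_num) hj) le_rfl
  rw [← appM_pow M j hj, ← appM_pow N j hj]
  exact aV_inj H (appM_lt ..) (appM_lt ..) ((hx _ h16).symm.trans (hy _ h16))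

theorem acts_word {gs : List ℕ} {xs : ℕ → G} {k : ℕ} (hx : ∀ i < k, Acts g (gs.getD i idM) (xs i)) :
    ∀ w : List ℕ, (w.all fun i => Nat.blt i k) = true → ∃ x : G, Acts g (wordM gs w) x
  | [], _ => ⟨1, acts_one H⟩
  | i :: w, h => by
    rw [List.all_cons, Bool.and_eq_true] at h
    obtain ⟨x, hxw⟩ := acts_word hx w h.2
    exact ⟨xs i * x, (hx i (Nat.lt_of_succ_le (Nat.le_of_ble_eq_true h.1))).mul H hxw⟩

theorem Acts.pow {M : ℕ} {x : G} (hx : Acts g M x) : ∀ n, Acts g (powM M n) (x ^ n)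
  | 0 => by rw [pow_zero]; exact acts_one H
  | n + 1 => by rw [pow_succ']; exact hx.mul H (Acts.pow hx n)

/-- The action of an element of the centralizer. -/
theorem cv_code {c : ℕ} (hc : c < 1920) {M : ℕ} (hM : M < 65536) (hx : Acts g M (trep cenCert g c)) :
    cvTab.get 20 c = M ∧ M ∈ h0List ∧ (M = idM → ∃ a < 16, trep cenCert g c = aV g a) := by
  have h := List.all_eq_true.1 cv_ok c (List.mem_range.2 hc)
  unfold cvOK at h
  set v := cvTab.get 20 c
  have h16 : ∀ j < 4, 2 ^ j < 16 := fun j hj => lt_of_lt_of_le (Nat.pow_lt_pow_right (by norm_num) hj) le_rfl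
  rcases cond_cases h with ⟨hv, h⟩ | ⟨hv, h⟩
  · simp only [Bool.and_eq_true, inH0, List.any_eq_true, List.all_eq_true, List.mem_range,
      Bool.or_eq_true, Bool.not_eq_true'] at h
    obtain ⟨⟨m, hm, hvm⟩, h⟩ := h
    have hv' : v < 65536 := Nat.lt_of_succ_le (Nat.le_of_ble_eq_true hv)
    have hact : Acts g v (trep cenCert g c) := by
      refine acts_of_basis H fun j hj => ?_
      rw [mul_inv_eq_iff_eq_mul, aV, aV,
        H.eq_iff hc (avN_lt _ (h16 j hj)) (avN_lt _ (nib_lt v j)) hc]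
      exact Nat.eq_of_beq_eq_true (h j hj).1
    have e : v = M := hact.unique H hv' hM hx
    refine ⟨e, e ▸ Nat.eq_of_beq_eq_true hvm ▸ hm, fun hid => ?_⟩
    rcases (h 0 (by norm_num)).2 with h' | ⟨y, hy, hcy⟩
    · rw [e, hid, Nat.beq_refl] at h'; exact Bool.noConfusion h'
    · obtain ⟨a, ha, rfl⟩ := List.mem_iff_getElem.1 hy
      refine ⟨a, avIdx_len ▸ ha, ?_⟩
      rw [Nat.eq_of_beq_eq_true hcy, aV, avN, List.getD_eq_getElem _ _ ha]
  · exfalso
    generalize Nat.sub v 65536 = q at h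
    simp only [Bool.and_eq_true, List.all_eq_true, List.mem_range, Bool.not_eq_true'] at h
    obtain ⟨hj, h⟩ := h
    have hj' : q < 4 := Nat.lt_of_succ_le (Nat.le_of_ble_eq_true hj)
    have := hx _ (h16 _ hj')
    rw [mul_inv_eq_iff_eq_mul, aV, aV,
      H.eq_iff hc (avN_lt _ (h16 _ hj')) (avN_lt _ (appM_lt ..)) hc] at this
    have h' := h _ (appM_lt M (2 ^ q))
    rw [show Nat.pow 2 q = 2 ^ q from rfl, this, Nat.beq_refl] at h'
    exact Bool.noConfusion h'

/-- Only the elements of `A` centralize it. -/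
theorem Acts.triv {x : G} (hx : Acts g idM x) : ∃ a < 16, x = aV g a := by
  have h1 := hx 1 (by norm_num)
  rw [show appM idM 1 = 1 from rfl, aV_one H, mul_inv_eq_iff_eq_mul] at h1
  obtain ⟨c, hc, rfl⟩ := (H.full x).1 h1
  exact (cv_code H hc (by norm_num [idM]) hx).2.2 rfl

theorem acts_aV {a : ℕ} (ha : a < 16) : Acts g idM (aV g a) := by
  refine acts_of_basis H fun j hj => ?_
  have h16 : 2 ^ j < 16 := lt_of_lt_of_le (Nat.pow_lt_pow_right (by norm_num) hj) le_rfl
  rw [(aV_comm H ha h16).eq, mul_inv_cancel_right]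
  interval_cases j <;> rfl

omit H

/-- A scalar of order three in the normalizer of `A` and the lifts centralizing it. -/
structure Amal (g : ℕ → G) (d : G) : Prop where
  cube : d * d * d = 1
  acts : Acts g sdM d
  comm : ∀ j < 2, Commute (trep cenCert g (mIdx.getD j 0)) d
  real : ∀ i < 180, ∃ x, Acts g (sTab.get 16 i) x ∧ Commute x d

variable {d : G}

/-- A lift centralizing `d` is unique. -/
theorem lift_unique (H : Cen t g) (hd : Acts g sdM d) {M : ℕ} {x y : G} (hx : Acts g M x) (hy : Acts g M y)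
    (hxd : Commute x d) (hyd : Commute y d) : x = y := by
  have h : Acts g idM (y⁻¹ * x) := by
    refine acts_of_basis H fun j hj => ?_
    have h16 : 2 ^ j < 16 := lt_of_lt_of_le (Nat.pow_lt_pow_right (by norm_num) hj) le_rfl
    rw [show nib idM j = 2 ^ j by interval_cases j <;> rfl]
    calc y⁻¹ * x * aV g (2 ^ j) * (y⁻¹ * x)⁻¹ = y⁻¹ * (x * aV g (2 ^ j) * x⁻¹) * y := by group
      _ = y⁻¹ * (y * aV g (2 ^ j) * y⁻¹) * y := by rw [hx _ h16, hy _ h16]
      _ = aV g (2 ^ j) := by group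
  obtain ⟨a, ha, e⟩ := h.triv H
  have hc : Commute (aV g a) d := e ▸ (hyd.inv_left.mul_left hxd)
  have := hd a ha
  rw [hc.symm.eq, mul_inv_cancel_right] at this
  have h0 := sdM_facts.2.2.1 a ha (aV_inj H ha (appM_lt ..) this).symm
  rw [h0, aV_zero H] at e
  exact (inv_mul_eq_one.1 e).symm

/-- A map commuting with the scalar lifts to the centralizer of `d`. -/
theorem exists_lift (H : Cen t g) (hd : Acts g sdM d) {M : ℕ} {x : G} (hx : Acts g M x)
    (hcomm : compM M sdM = compM sdM M) : ∃ a < 16, Commute (aV g a * x) d := by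
  have h : Acts g idM ((x * d) * (d * x)⁻¹) := by
    refine acts_of_basis H fun j hj => ?_
    have h16 : 2 ^ j < 16 := lt_of_lt_of_le (Nat.pow_lt_pow_right (by norm_num) hj) le_rfl
    obtain ⟨a, ha, e⟩ : ∃ a < 16, d * x * aV g a * (d * x)⁻¹ = aV g (2 ^ j) := by
      have hinj : Function.Injective fun a : Fin 16 => (⟨appM sdM (appM M a), appM_lt ..⟩ : Fin 16) := by
        intro a b e
        have e' : appM sdM (appM M a) = appM sdM (appM M b) := congrArg Fin.val e
        have := (hd.pair hx a.2).trans ((congrArg (aV g) e').trans (hd.pair hx b.2).symm)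
        exact Fin.ext (aV_inj H a.2 b.2 (mul_left_cancel (mul_right_cancel this)))
      obtain ⟨a, ha⟩ := Finite.injective_iff_surjective.1 hinj ⟨2 ^ j, h16⟩
      exact ⟨a, a.2, (hd.pair hx a.2).trans (congrArg (aV g) (congrArg Fin.val ha))⟩
    rw [show nib idM j = 2 ^ j by interval_cases j <;> rfl]
    calc x * d * (d * x)⁻¹ * aV g (2 ^ j) * (x * d * (d * x)⁻¹)⁻¹
        = x * d * aV g a * (x * d)⁻¹ := by rw [← e]; group
      _ = aV g (2 ^ j) := by rw [(hx.mul H hd) a ha, hcomm, ← (hd.mul H hx) a ha, e]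
  obtain ⟨e, he, hxe⟩ := h.triv H
  obtain ⟨b, hb, hbe⟩ := sdM_facts.2.2.2.1 e he
  refine ⟨b, hb, ?_⟩
  show aV g b * x * d = d * (aV g b * x)
  have e1 : x * d = aV g e * (d * x) := by rw [← hxe]; group
  calc aV g b * x * d = aV g b * aV g e * (d * x) := by rw [mul_assoc, e1, ← mul_assoc]
    _ = d * aV g b * d⁻¹ * (d * x) := by rw [aV_mul H hb he, ← hbe, ← hd b hb]
    _ = _ := by group

end Cfsg.Lib.J3Type
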