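import Mathlib

/-!
More data of the local analysis.
-/

set_option autoImplicit false
set_option maxRecDepth 100000

namespace Cfsg.Lib.J3Type

/-- The involutions: a conjugator to the outer one, or seventeen commuting elements. -/
def invWits : List (ℕ × List ℕ) :=
  [(10, [1880]),
   (17, [1868]),
   (32, [1786]),
   (42, [1899]),
   (62, [1890]),
   (82, [1900]),
   (94, [1913]),
   (167, [1800]),
   (255, [1875]),
   (265, [1889]),
   (284, [1908]),
   (324, [1906]),
   (345, [1838]),
   (356, [1818]),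
   (375, [1806]),
   (407, [1893]),
   (476, [1874]),
   (505, [1858]),
   (511, [1796]),
   (527, [1884]),
   (551, [1885]),
   (560, [1768]),
   (578, [1763]),
   (581, [1878]),
   (603, [1852]),
   (686, [1691]),
   (692, [1804]),
   (705, [1646]),
   (737, [1894]),
   (809, [1460]),
   (820, [0, 9, 17, 24, 31, 34, 49, 53, 60, 65, 66, 73, 76, 82, 95, 112, 125]),
   (827, [1678]),
   (832, [1896]),
   (880, [1854]),
   (881, [1872]),
   (889, [0, 14, 29, 32, 49, 56, 62, 71, 73, 92, 94, 117, 132, 136, 148, 153, 165]),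
   (900, [1814]),
   (907, [1729]),
   (962, [1847]),
   (984, [1676]),
   (1029, [1648]),
   (1076, [1916]),
   (1083, [1792]),
   (1093, [1905]),
   (1107, [1531]),
   (1109, [1892]),
   (1110, [1909]),
   (1129, [1907]),
   (1141, [1904]),
   (1148, [1828]),
   (1165, [1722]),
   (1172, [1797]),
   (1182, [1740]),
   (1188, [1844]),
   (1191, [1856]),
   (1194, [1809]),
   (1209, [1914]),
   (1210, [1615]),
   (1211, [1840]),
   (1227, [1895]),
   (1229, [0, 1, 2, 10, 11, 27, 28, 41, 42, 134, 156, 157, 194, 198, 240, 241, 253]),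
   (1254, [1787]),
   (1260, [1873]),
   (1264, [1901]),
   (1269, [1915]),
   (1277, [1767]),
   (1284, [1803]),
   (1293, [1839]),
   (1308, [1863]),
   (1359, [1784]),
   (1375, [1827]),
   (1384, [1782]),
   (1392, [0, 1, 2, 18, 19, 34, 35, 48, 49, 60, 61, 72, 73, 83, 93, 104, 153]),
   (1414, [1485]),
   (1422, [0, 1, 2, 10, 11, 27, 28, 41, 42, 134, 156, 157, 194, 198, 240, 241, 253]),
   (1429, [0, 14, 31, 34, 38, 53, 58, 60, 65, 68, 71, 100, 103, 130, 156, 180, 194]),
   (1439, [1902]),
   (1452, [1530]),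
   (1468, [0, 9, 17, 24, 31, 34, 49, 53, 60, 65, 66, 73, 76, 82, 95, 112, 125]),
   (1476, [0, 14, 31, 34, 38, 53, 58, 60, 65, 68, 71, 100, 103, 130, 156, 180, 194]),
   (1500, [1745]),
   (1504, [1699]),
   (1506, [1903]),
   (1512, [1876]),
   (1543, [0, 1, 2, 18, 19, 34, 35, 48, 49, 60, 61, 72, 73, 83, 93, 104, 153]),
   (1556, [1477]),
   (1557, [1808]),
   (1566, [1848]),
   (1629, [1835]),
   (1640, [1707]),
   (1641, [1799]),
   (1659, [1598]),
   (1672, [1741]),
   (1685, [1919]),
   (1689, [1754]),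
   (1690, [1834]),
   (1701, [1779]),
   (1711, [1785]),
   (1712, [1704]),
   (1725, [1711]),
   (1734, [1790]),
   (1736, [1865]),
   (1737, [1718]),
   (1747, [1891]),
   (1755, [1857]),
   (1757, [1871]),
   (1790, [1813]),
   (1802, [1898]),
   (1815, [1833]),
   (1822, [1755]),
   (1830, [1829]),
   (1841, [1641]),
   (1859, [1888]),
   (1860, [1912]),
   (1869, [1897]),
   (1871, [0, 14, 29, 32, 49, 56, 62, 71, 73, 92, 94, 117, 132, 136, 148, 153, 165]),
   (1872, [1702]),
   (1873, [1801]),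
   (1874, [1810]),
   (1886, [1918]),
   (1888, [1911]),
   (1889, [1917]),
   (1891, [1910]),
   (1893, [1879]),
   (1897, [1887]),
   (1898, [1877]),
   (1901, [1842]),
   (1903, [1783]),
   (1904, [1714]),
   (1911, [1886])]

/-- The complement in its two generators. -/
def m0Words : List (List ℕ) :=
  [[],
   [1],
   [1, 0],
   [0, 1, 0],
   [1, 1],
   [0, 1, 1],
   [0, 1],
   [1, 0, 1, 1],
   [1, 0, 1],
   [1, 1, 0],
   [0],
   [1, 1, 0, 1]]

end Cfsg.Lib.J3Type
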