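import Cfsg.Agent.Lib.J3Type.CenCheck
import Cfsg.Agent.Lib.J3Type.LocalData
import Cfsg.Agent.Lib.J3Type.LocalData2

/-!
# Checks on the fours group `A` of order sixteen and its automorphisms
-/

set_option autoImplicit false
set_option maxRecDepth 100000

namespace Cfsg.Lib.J3Type

/-- The nibble `j` of a code: the image of a basis vector. -/
def nib (M j : ℕ) : ℕ := Nat.mod (Nat.shiftRight M (Nat.mul 4 j)) 16

/-- A contribution to an image. -/
def bitImg (M a j : ℕ) : ℕ := bif Nat.beq (Nat.mod (Nat.shiftRight a j) 2) 1 then nib M j else 0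

/-- The image of an element under a coded linear map of the space of four bits. -/
def appM (M a : ℕ) : ℕ := Nat.xor (Nat.xor (bitImg M a 0) (bitImg M a 1)) (Nat.xor (bitImg M a 2) (bitImg M a 3))

/-- The composite of two coded maps. -/
def compM (M N : ℕ) : ℕ :=
  Nat.add (appM M (nib N 0)) (Nat.add (Nat.mul 16 (appM M (nib N 1)))
    (Nat.add (Nat.mul 256 (appM M (nib N 2))) (Nat.mul 4096 (appM M (nib N 3)))))

/-- The code of the identity. -/
def idM : ℕ := 33825

/-- The number of an element of `A` in the table. -/
def avN (a : ℕ) : ℕ := avIdx.getD a 0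

/-- The product of coded generators along a word. -/
def wordM (gs : List ℕ) : List ℕ → ℕ
  | [] => idM
  | i :: w => compM (gs.getD i idM) (wordM gs w)

/-- A power of a coded map. -/
def powM (M : ℕ) : ℕ → ℕ
  | 0 => idM
  | n + 1 => compM M (powM M n)

/-- The power `1920 = 15 · 2^7` of a coded map. -/
def powBig (M : ℕ) : ℕ :=
  let a := powM M 15
  let a := compM a a
  let a := compM a a
  let a := compM a a
  let a := compM a a
  let a := compM a a
  let a := compM a a
  compM a a

/-- An element of the list of the action of the normalizer. -/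
def inH0 (M : ℕ) : Bool := h0List.any (Nat.beq M)

/-- The generators used in the words for a candidate. -/
def sigGens (s : ℕ) : List ℕ := mGen ++ [s]

/-- The candidate with the given number. -/
def sigCand (k : ℕ) : ℕ := Nat.add 18 (Nat.add (Nat.mul 256 (Nat.div k 16)) (Nat.mul 4096 (Nat.mod k 16)))

/-- The reason to exclude a candidate holds. -/
def sigmaOK (k : ℕ) : Bool :=
  let s := sigCand k
  let c := sigmaCases.getD k (0, [], 0)
  let M := wordM (sigGens s) c.2.1
  bif Nat.beq c.1 0 then !Nat.beq (compM s s) idM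
  else bif Nat.beq c.1 1 then
    c.2.1.all (fun i => Nat.blt i 3) && Nat.beq (appM M 1) 1 && !inH0 M
  else bif Nat.beq c.1 2 then
    c.2.1.all (fun i => Nat.blt i 3) && Nat.ble 2 c.2.2 && Nat.blt c.2.2 16 &&
      Nat.beq (appM M c.2.2) c.2.2 && !Nat.beq (powBig M) idM
  else Nat.beq s sigmaT

/-- The action of an element of the centralizer on `A`. -/
def cvOK (c : ℕ) : Bool :=
  let v := cvTab.get 20 c
  bif Nat.blt v 65536 then
    inH0 v && (List.range 4).all fun j =>
      Nat.beq (tmul cenCert cenW c (avN (Nat.pow 2 j))) (tmul cenCert cenW (avN (nib v j)) c) &&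
        (!Nat.beq v idM || avIdx.any (Nat.beq c))
  else Nat.blt (Nat.sub v 65536) 4 && (List.range 16).all fun a =>
    !Nat.beq (tmul cenCert cenW c (avN (Nat.pow 2 (Nat.sub v 65536)))) (tmul cenCert cenW (avN a) c)

/-- An involution is conjugate to the outer one or has a large centralizer. -/
def invOK (c : ℕ) : Bool :=
  !Nat.beq (tmul cenCert cenW c c) 0 || Nat.beq c 0 || Nat.beq c (avN 1) || invWits.any fun p =>
    Nat.beq p.1 c && (p.2.all fun d => Nat.blt d 1920) &&
      match p.2 with
      | [d] => Nat.beq (tmul cenCert cenW d (avN 2)) (tmul cenCert cenW c d)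
      | l => Nat.beq l.length 17 && decide l.Nodup &&
          l.all fun d => Nat.beq (tmul cenCert cenW d c) (tmul cenCert cenW c d)

/-- A lift of a generator of the complement. -/
def liftN (j a : ℕ) : ℕ := tmul cenCert cenW (avN a) (mIdx.getD j 0)

/-- Two lifts satisfy the relations of the alternating group of degree four. -/
def liftRels (a b : ℕ) : Bool :=
  let p := tmul cenCert cenW (liftN 0 a) (liftN 1 b)
  Nat.beq (tmul cenCert cenW (liftN 0 a) (liftN 0 a)) 0 &&
    Nat.beq (tmul cenCert cenW (tmul cenCert cenW (liftN 1 b) (liftN 1 b)) (liftN 1 b)) 0 &&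
    Nat.beq (tmul cenCert cenW (tmul cenCert cenW p p) p) 0

/-- Such lifts are conjugate to the generators. -/
def liftOK : Bool :=
  (List.range 16).all fun a => (List.range 16).all fun b => !liftRels a b || (List.range 16).any fun v =>
    Nat.beq (tmul cenCert cenW (tmul cenCert cenW (avN v) (liftN 0 a)) (avN v)) (mIdx.getD 0 0) &&
      Nat.beq (tmul cenCert cenW (tmul cenCert cenW (avN v) (liftN 1 b)) (avN v)) (mIdx.getD 1 0)

theorem avN_lt : ∀ a < 16, avN a < 1920 := by decide +kernel

theorem avN_mul : ∀ a < 16, ∀ b < 16, tmul cenCert cenW (avN a) (avN b) = avN (Nat.xor a b) := by decide +kernel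

theorem avN_inj : ∀ a < 16, ∀ b < 16, avN a = avN b → a = b := by decide +kernel

theorem avN_zero : avN 0 = 0 ∧ avN 1 = extraIn.getD 4 0 := by decide +kernel

theorem avN_outer : ((List.range 1920).all fun c =>
    !Nat.beq (tmul cenCert cenW c (avN 2)) (tmul cenCert cenW (avN 2) c) || avIdx.any (Nat.beq c)) = true := by
  decide +kernel

theorem avIdx_len : avIdx.length = 16 := by decide +kernel

theorem cv_ok : ((List.range 1920).all cvOK) = true := by decide +kernel

theorem inv_ok : ((List.range 1920).all invOK) = true := by decide +kernel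

theorem sigma_ok : ((List.range 256).all sigmaOK) = true := by decide +kernel

theorem h0_lt : ∀ M ∈ h0List, M < 65536 := by decide +kernel

theorem mIdx_facts : ∀ j < 2, mIdx.getD j 0 < 1920 ∧ cvTab.get 20 (mIdx.getD j 0) = mGen.getD j idM ∧
    mGen.getD j idM < 65536 := by decide +kernel

theorem sWords_ok : ((List.range 180).all fun i => (sWords.getD i []).all (fun l => Nat.blt l 3) &&
    Nat.beq (wordM (sigGens sigmaT) (sWords.getD i [])) (sTab.get 16 i) &&
    Nat.beq (compM (sTab.get 16 i) sdM) (compM sdM (sTab.get 16 i))) = true := by decide +kernel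

theorem sdM_facts : (∃ i < 180, sTab.get 16 i = sdM) ∧ compM sdM (compM sdM sdM) = idM ∧
    (∀ a < 16, appM sdM a = a → a = 0) ∧ (∀ e < 16, ∃ b < 16, appM sdM b = Nat.xor b e) ∧
    sdM < 65536 ∧ compM idM (compM sdM idM) = sdM := by decide +kernel

theorem mGen_rels : compM (mGen.getD 0 idM) (mGen.getD 0 idM) = idM ∧
    compM (compM (mGen.getD 1 idM) (mGen.getD 1 idM)) (mGen.getD 1 idM) = idM ∧
    (let p := compM (mGen.getD 0 idM) (mGen.getD 1 idM); compM (compM p p) p = idM) ∧
    (∀ j < 2, compM (mGen.getD j idM) sdM = compM sdM (mGen.getD j idM) ∧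
      compM idM (mGen.getD j idM) = mGen.getD j idM) := by decide +kernel

theorem lift_ok : liftOK = true := by decide +kernel

end Cfsg.Lib.J3Type
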