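import Cfsg.Agent.Lib.J3Type.InvStep
import Cfsg.Agent.Lib.J3Type.Embed
import Cfsg.Agent.Lib.J3Type.Count

/-!
# The group with one class of involutions and centralizer `2^(1+4).A₅` is `J₃`
-/

set_option autoImplicit false
set_option linter.style.haveILetI false

namespace Cfsg.Lib.J3Type

open Subgroup Cfsg.Spor

variable {G : Type*} [Group G] [Finite G]

theorem frame_pairs : pairOK (naPair.getD 9 (0, idM)) = true ∧ pairOK (naPair.getD 10 (0, idM)) = true := by
  decide +kernel

/-- Such a group contains `J₃` and is equal to it. -/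
theorem isoJ3_of_cen {t : G} (ht : orderOf t = 2) (hone : ∀ x y : G, orderOf x = 2 → orderOf y = 2 → IsConj x y)
    {g : ℕ → G} (hg : Cen t g) : Cfsg.Spor.IsoJ3 G := by
  classical
  obtain ⟨d, A⟩ := exists_amal hg ht hone
  obtain ⟨k, hk⟩ := exists_val A frame_pairs.1
  obtain ⟨n, hn⟩ := exists_val A frame_pairs.2
  obtain ⟨g', C, hx⟩ : ∃ g', Cfg t g' d k n ∧ (uEl g' n)⁻¹ * d * uEl g' n = trep cenCert g' xTrue.1 := by
    have C : Cfg t g d k n := ⟨hg, A, hk, hn⟩
    obtain ⟨c, h, -, hx⟩ := C.x_cases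
    rcases h with rfl | rfl | rfl | rfl
    · exact ⟨g, C, hx⟩
    · exact C.twist hx
    · exact (C.x_kill (s := 0) (by norm_num) hx).elim
    · exact (C.x_kill (s := 1) (by norm_num) hx).elim
  obtain ⟨i, s, hs, hy, hik⟩ := C.y_cases ht hone hx
  obtain rfl : s = 3 := by
    by_contra hne
    exact C.y_kill (by omega) hx hy hik
  haveI : Fact (Nat.Prime 2) := ⟨Nat.prime_two⟩
  let K := GaloisField 2 2
  letI : Fintype K := Fintype.ofFinite K
  have hK : Fintype.card K = 4 := by
    rw [← Nat.card_eq_fintype_card, GaloisField.card 2 2 (by norm_num)]; norm_num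
  obtain ⟨ω, hω⟩ : ∃ ω : K, ω ^ 2 + ω + 1 = 0 := by
    haveI : Nontrivial Kˣ := by
      rw [← Fintype.one_lt_card_iff_nontrivial, Fintype.card_units, hK]; norm_num
    obtain ⟨u, hu⟩ := exists_ne (1 : Kˣ)
    refine ⟨u, ?_⟩
    have h3 : (u : K) ^ 3 = 1 := by
      have := FiniteField.pow_card_sub_one_eq_one (u : K) u.ne_zero
      rwa [hK] at this
    have h1 : ((u : K) - 1) * ((u : K) ^ 2 + u + 1) = 0 := by linear_combination h3
    rcases mul_eq_zero.1 h1 with h | h
    · exact absurd (Units.ext (sub_eq_zero.1 h)) hu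
    · exact h
  have H := Cfsg.Lib.JThree.Hyp.of_card hK hω
  obtain ⟨φ, hφ, hle⟩ := C.embed hx hy hik K hK H
  exact ⟨K, inferInstance, inferInstance, ω, hK, hω, ⟨(MulEquiv.ofBijective φ
    ⟨hφ, top_of_range hK H t ht hone C.cen.card φ hφ hle⟩).symm⟩⟩

end Cfsg.Lib.J3Type
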