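import Cfsg.Agent.Lib.J3Type.MainData

/-!
Kernel checks of the certificate `mainCert`.
-/

set_option autoImplicit false
set_option maxRecDepth 100000

namespace Cfsg.Lib.J3Type

theorem mainCert_facts0 : factsOK mainCert 0 2000 = true := by decide +kernel

theorem mainCert_facts1 : factsOK mainCert 2000 2000 = true := by decide +kernel

theorem mainCert_facts2 : factsOK mainCert 4000 2000 = true := by decide +kernel

theorem mainCert_facts3 : factsOK mainCert 6000 2000 = true := by decide +kernel

theorem mainCert_facts4 : factsOK mainCert 8000 2000 = true := by decide +kernel

theorem mainCert_facts5 : factsOK mainCert 10000 2000 = true := by decide +kernel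

theorem mainCert_facts6 : factsOK mainCert 12000 2000 = true := by decide +kernel

theorem mainCert_facts7 : factsOK mainCert 14000 2000 = true := by decide +kernel

theorem mainCert_facts8 : factsOK mainCert 16000 2000 = true := by decide +kernel

theorem mainCert_facts9 : factsOK mainCert 18000 2000 = true := by decide +kernel

theorem mainCert_facts10 : factsOK mainCert 20000 2000 = true := by decide +kernel

theorem mainCert_facts11 : factsOK mainCert 22000 2000 = true := by decide +kernel

theorem mainCert_facts12 : factsOK mainCert 24000 2000 = true := by decide +kernel

theorem mainCert_facts13 : factsOK mainCert 26000 2000 = true := by decide +kernel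

theorem mainCert_facts14 : factsOK mainCert 28000 2000 = true := by decide +kernel

theorem mainCert_facts15 : factsOK mainCert 30000 2000 = true := by decide +kernel

theorem mainCert_facts16 : factsOK mainCert 32000 2000 = true := by decide +kernel

theorem mainCert_facts17 : factsOK mainCert 34000 2000 = true := by decide +kernel

theorem mainCert_facts18 : factsOK mainCert 36000 2000 = true := by decide +kernel

theorem mainCert_facts19 : factsOK mainCert 38000 2000 = true := by decide +kernel

theorem mainCert_facts20 : factsOK mainCert 40000 2000 = true := by decide +kernel

theorem mainCert_facts21 : factsOK mainCert 42000 2000 = true := by decide +kernel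

theorem mainCert_facts22 : factsOK mainCert 44000 2000 = true := by decide +kernel

theorem mainCert_facts23 : factsOK mainCert 46000 2000 = true := by decide +kernel

theorem mainCert_facts24 : factsOK mainCert 48000 2000 = true := by decide +kernel

theorem mainCert_facts25 : factsOK mainCert 50000 2000 = true := by decide +kernel

theorem mainCert_facts26 : factsOK mainCert 52000 2000 = true := by decide +kernel

theorem mainCert_facts27 : factsOK mainCert 54000 2000 = true := by decide +kernel

theorem mainCert_facts28 : factsOK mainCert 56000 2000 = true := by decide +kernel

theorem mainCert_facts29 : factsOK mainCert 58000 2000 = true := by decide +kernel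

theorem mainCert_facts30 : factsOK mainCert 60000 2000 = true := by decide +kernel

theorem mainCert_facts31 : factsOK mainCert 62000 1051 = true := by decide +kernel

theorem mainCert_rows0 : rowsOK mainCert 0 2000 = true := by decide +kernel

theorem mainCert_rows1 : rowsOK mainCert 2000 2000 = true := by decide +kernel

theorem mainCert_rows2 : rowsOK mainCert 4000 2000 = true := by decide +kernel

theorem mainCert_rows3 : rowsOK mainCert 6000 156 = true := by decide +kernel

theorem mainCert_fact_ok : ∀ i < mainCert.nFacts, factOK mainCert i = true := by
  intro i hi
  replace hi : i < 63051 := hi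
  by_cases h0 : i < 2000
  · exact factOK_of_factsOK mainCert_facts0 (by omega) (by omega)
  by_cases h1 : i < 4000
  · exact factOK_of_factsOK mainCert_facts1 (by omega) (by omega)
  by_cases h2 : i < 6000
  · exact factOK_of_factsOK mainCert_facts2 (by omega) (by omega)
  by_cases h3 : i < 8000
  · exact factOK_of_factsOK mainCert_facts3 (by omega) (by omega)
  by_cases h4 : i < 10000
  · exact factOK_of_factsOK mainCert_facts4 (by omega) (by omega)
  by_cases h5 : i < 12000
  · exact factOK_of_factsOK mainCert_facts5 (by omega) (by omega)
  by_cases h6 : i < 14000
  · exact factOK_of_factsOK mainCert_facts6 (by omega) (by omega)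
  by_cases h7 : i < 16000
  · exact factOK_of_factsOK mainCert_facts7 (by omega) (by omega)
  by_cases h8 : i < 18000
  · exact factOK_of_factsOK mainCert_facts8 (by omega) (by omega)
  by_cases h9 : i < 20000
  · exact factOK_of_factsOK mainCert_facts9 (by omega) (by omega)
  by_cases h10 : i < 22000
  · exact factOK_of_factsOK mainCert_facts10 (by omega) (by omega)
  by_cases h11 : i < 24000
  · exact factOK_of_factsOK mainCert_facts11 (by omega) (by omega)
  by_cases h12 : i < 26000
  · exact factOK_of_factsOK mainCert_facts12 (by omega) (by omega)
  by_cases h13 : i < 28000
  · exact factOK_of_factsOK mainCert_facts13 (by omega) (by omega)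
  by_cases h14 : i < 30000
  · exact factOK_of_factsOK mainCert_facts14 (by omega) (by omega)
  by_cases h15 : i < 32000
  · exact factOK_of_factsOK mainCert_facts15 (by omega) (by omega)
  by_cases h16 : i < 34000
  · exact factOK_of_factsOK mainCert_facts16 (by omega) (by omega)
  by_cases h17 : i < 36000
  · exact factOK_of_factsOK mainCert_facts17 (by omega) (by omega)
  by_cases h18 : i < 38000
  · exact factOK_of_factsOK mainCert_facts18 (by omega) (by omega)
  by_cases h19 : i < 40000
  · exact factOK_of_factsOK mainCert_facts19 (by omega) (by omega)
  by_cases h20 : i < 42000
  · exact factOK_of_factsOK mainCert_facts20 (by omega) (by omega)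
  by_cases h21 : i < 44000
  · exact factOK_of_factsOK mainCert_facts21 (by omega) (by omega)
  by_cases h22 : i < 46000
  · exact factOK_of_factsOK mainCert_facts22 (by omega) (by omega)
  by_cases h23 : i < 48000
  · exact factOK_of_factsOK mainCert_facts23 (by omega) (by omega)
  by_cases h24 : i < 50000
  · exact factOK_of_factsOK mainCert_facts24 (by omega) (by omega)
  by_cases h25 : i < 52000
  · exact factOK_of_factsOK mainCert_facts25 (by omega) (by omega)
  by_cases h26 : i < 54000
  · exact factOK_of_factsOK mainCert_facts26 (by omega) (by omega)
  by_cases h27 : i < 56000
  · exact factOK_of_factsOK mainCert_facts27 (by omega) (by omega)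
  by_cases h28 : i < 58000
  · exact factOK_of_factsOK mainCert_facts28 (by omega) (by omega)
  by_cases h29 : i < 60000
  · exact factOK_of_factsOK mainCert_facts29 (by omega) (by omega)
  by_cases h30 : i < 62000
  · exact factOK_of_factsOK mainCert_facts30 (by omega) (by omega)
  by_cases h31 : i < 63051
  · exact factOK_of_factsOK mainCert_facts31 (by omega) (by omega)
  omega

theorem mainCert_row_ok : ∀ c < mainCert.nLive, rowOK mainCert c = true := by
  intro c hc
  replace hc : c < 6156 := hc
  by_cases h0 : c < 2000
  · exact rowOK_of_rowsOK mainCert_rows0 (by omega) (by omega)
  by_cases h1 : c < 4000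
  · exact rowOK_of_rowsOK mainCert_rows1 (by omega) (by omega)
  by_cases h2 : c < 6000
  · exact rowOK_of_rowsOK mainCert_rows2 (by omega) (by omega)
  by_cases h3 : c < 6156
  · exact rowOK_of_rowsOK mainCert_rows3 (by omega) (by omega)
  omega

theorem mainCert_live_zero : mainCert.live.get 15 0 = 0 := by decide +kernel

end Cfsg.Lib.J3Type
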