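import Cfsg.Agent.Lib.Extra.MinusThirtyTwo
import Cfsg.Agent.Lib.Extra.Structure
import Cfsg.Agent.Lib.ZStar.Main
import Cfsg.Agent.Lib.Sig.Small
import Cfsg.Prelude.Def_SporadicB

/-!
# Centralizers `2^(1+4).A₅` of 2-central involutions in simple groups

The normal extraspecial subgroup of order 32 contains its centralizer and is of minus type.
-/

set_option autoImplicit false
set_option linter.style.haveILetI false
set_option linter.unusedSectionVars false

namespace Cfsg.Lib.J3Type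

open Cfsg Subgroup
open scoped commutatorElement

set_option maxRecDepth 100000 in
set_option maxHeartbeats 2000000 in
theorem a5_two_comm : ∀ x y : alternatingGroup (Fin 5),
    x ^ 4 = 1 → y ^ 4 = 1 → (x * y) ^ 4 = 1 → x * y = y * x := by
  decide +kernel

set_option maxRecDepth 100000 in
theorem a5_central : ∀ x : alternatingGroup (Fin 5), (∀ y, x * y = y * x) → x = 1 := by
  decide +kernel

/-- A 2-subgroup of a group isomorphic to `A₅` is abelian. -/
theorem two_sub_comm {P : Type*} [Group P] [Finite P] (hP : IsPGroup 2 P)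
    (f : P →* alternatingGroup (Fin 5)) (x y : P) : f x * f y = f y * f x := by
  haveI : Fact (Nat.Prime 2) := ⟨Nat.prime_two⟩
  have key : ∀ w : P, f w ^ 4 = 1 := by
    intro w
    obtain ⟨k, hk⟩ := hP.exists_orderOf_eq_pow w
    have h1 : orderOf (f w) ∣ 2 ^ k := hk ▸ orderOf_map_dvd f w
    have h2 : orderOf (f w) ∣ 60 := by
      have := orderOf_dvd_natCard (f w)
      rwa [nat_card_alternatingGroup, Nat.card_eq_fintype_card, Fintype.card_fin] at this
    obtain ⟨i, -, hi⟩ := (Nat.dvd_prime_pow Nat.prime_two).1 h1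
    have hi2 : i ≤ 2 := by
      by_contra h
      have : 2 ^ 3 ∣ 60 := ((pow_dvd_pow 2 (by omega : 3 ≤ i)).trans (hi ▸ dvd_rfl)).trans h2
      norm_num at this
    exact orderOf_dvd_iff_pow_eq_one.1 (hi ▸ (pow_dvd_pow 2 hi2 : 2 ^ i ∣ 2 ^ 2))
  exact a5_two_comm _ _ (key x) (key y) (by rw [← map_mul]; exact key _)

section Symp

variable {G : Type*} [Group G] {E : Subgroup G} {z : G}
  (hzz : z * z = 1) (hzne : z ≠ 1) (hzc : ∀ a ∈ E, Commute z a)
  (hcomm : ∀ a ∈ E, ∀ b ∈ E, ⁅a, b⁆ = 1 ∨ ⁅a, b⁆ = z)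

include hzc hcomm

theorem comm_mul {a b e : G} (ha : a ∈ E) (hb : b ∈ E) (he : e ∈ E) :
    ⁅a * b, e⁆ = ⁅a, e⁆ * ⁅b, e⁆ := by
  have hc : Commute ⁅b, e⁆ a := by
    rcases hcomm b hb e he with h | h <;> rw [h]
    exacts [Commute.one_left a, hzc a ha]
  have hd : Commute ⁅a, e⁆ ⁅b, e⁆ := by
    rcases hcomm b hb e he with h | h <;> rcases hcomm a ha e he with h' | h' <;> rw [h, h'] <;>
      first | exact Commute.one_left _ | exact Commute.one_right _ | exact Commute.refl _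
  have h1 : ⁅a * b, e⁆ = a * ⁅b, e⁆ * a⁻¹ * ⁅a, e⁆ := by simp only [commutatorElement_def]; group
  rw [h1, ← hc.eq, mul_inv_cancel_right, hd.eq]

include hzz hzne

/-- Two elements not commuting with a third have product commuting with it. -/
theorem sign_iff {a b e : G} (ha : a ∈ E) (hb : b ∈ E) (he : e ∈ E) :
    Commute (a * b) e ↔ (Commute a e ↔ Commute b e) := by
  simp only [← commutatorElement_eq_one_iff_commute, comm_mul hzc hcomm ha hb he]
  rcases hcomm a ha e he with h | h <;> rcases hcomm b hb e he with h' | h' <;>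
    simp [h, h', hzz, hzne]

/-- The centralizer in `E` of an element of `E` is not abelian. -/
theorem exists_pair [Finite G] (hcard : Nat.card E = 32) (hcen : ∀ a ∈ E, (∀ b ∈ E, Commute a b) → a = 1 ∨ a = z)
    {e : G} (he : e ∈ E) : ∃ a ∈ E, ∃ b ∈ E, Commute a e ∧ Commute b e ∧ ¬ Commute a b := by
  classical
  have sg := fun {a b c : G} (ha : a ∈ E) (hb : b ∈ E) (hc : c ∈ E) =>
    sign_iff hzz hzne hzc hcomm ha hb hc
  by_contra hno
  push Not at hno
  obtain ⟨x₀, hx₀, y₀, hy₀, hxy₀⟩ : ∃ x ∈ E, ∃ y ∈ E, ¬ Commute x y := by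
    by_contra h
    push Not at h
    have hsub : (E : Set G) ⊆ {1, z} := fun a ha => by
      rcases hcen a ha (fun b hb => h a ha b hb) with e' | e' <;> simp [e']
    have h' := Set.ncard_le_ncard hsub
    rw [← Nat.card_coe_set_eq] at h'
    change Nat.card E ≤ _ at h'
    have : ({1, z} : Set G).ncard ≤ 2 := (Set.ncard_insert_le _ _).trans (by simp)
    omega
  -- `x` centralizes `e` and `y` does not
  obtain ⟨x, hx, y, hy, hxy, hxe, hye⟩ :
      ∃ x ∈ E, ∃ y ∈ E, ¬ Commute x y ∧ Commute x e ∧ ¬ Commute y e := by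
    by_cases h1 : Commute x₀ e
    · by_cases h2 : Commute y₀ e
      · exact absurd (hno x₀ hx₀ y₀ hy₀ h1 h2) hxy₀
      · exact ⟨x₀, hx₀, y₀, hy₀, hxy₀, h1, h2⟩
    · by_cases h2 : Commute y₀ e
      · exact ⟨y₀, hy₀, x₀, hx₀, fun h => hxy₀ h.symm, h2, h1⟩
      · refine ⟨x₀ * y₀, mul_mem hx₀ hy₀, y₀, hy₀, ?_, (sg hx₀ hy₀ he).2 (iff_of_false h1 h2), h2⟩
        rw [sg hx₀ hy₀ hy₀]
        exact fun h => hxy₀ (h.2 (Commute.refl _))
  -- the common centralizer of `x` and `y` is abelian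
  have hpq : ∀ p ∈ E, ∀ q ∈ E, Commute p x → Commute p y → Commute q x → Commute q y → Commute p q := by
    intro p hp q hq hpx hpy hqx hqy
    by_contra hpq
    have hadj : ∀ r ∈ E, Commute r x → Commute r y → ∃ r' ∈ E, Commute r' e ∧ (r' = r ∨ r' = r * y) := by
      intro r hr _ _
      by_cases h : Commute r e
      · exact ⟨r, hr, h, Or.inl rfl⟩
      · exact ⟨r * y, mul_mem hr hy, (sg hr hy he).2 (iff_of_false h hye), Or.inr rfl⟩
    obtain ⟨p', hp', hpe, hp2⟩ := hadj p hp hpx hpy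
    obtain ⟨q', hq', hqe, hq2⟩ := hadj q hq hqx hqy
    apply hpq
    have h := hno p' hp' q' hq' hpe hqe
    rcases hp2 with rfl | rfl <;> rcases hq2 with rfl | rfl
    · exact h
    · exact (((sg hq hy hp).1 h.symm).2 hpy.symm).symm
    · exact ((sg hp hy hq).1 h).2 hqy.symm
    · have h1 := (sg hp hy hq').1 h
      have h2 : Commute y (q * y) := (hqy.symm).mul_right (Commute.refl y)
      have h3 := ((sg hq hy hp).1 (h1.2 h2).symm).2 hpy.symm
      exact h3.symm
  have hxx : Commute x x := Commute.refl x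
  have hyy : Commute y y := Commute.refl y
  have hxy' : ¬ Commute y x := fun h => hxy h.symm
  have hcent : ∀ w ∈ E, Commute w x → Commute w y → w = 1 ∨ w = z := by
    intro w hw hwx hwy
    refine hcen w hw fun v hv => ?_
    obtain ⟨v', hv', hv'x, hv'y, hback⟩ : ∃ v' ∈ E, Commute v' x ∧ Commute v' y ∧
        (Commute w v' → Commute w v) := by
      obtain ⟨v₁, hv₁, hv₁x, hb₁⟩ : ∃ v₁ ∈ E, Commute v₁ x ∧ (Commute w v₁ → Commute w v) := by
        by_cases h : Commute v x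
        · exact ⟨v, hv, h, id⟩
        · refine ⟨v * y, mul_mem hv hy, (sg hv hy hx).2 (iff_of_false h hxy'), fun h' => ?_⟩
          exact (((sg hv hy hw).1 h'.symm).2 hwy.symm).symm
      by_cases h : Commute v₁ y
      · exact ⟨v₁, hv₁, hv₁x, h, hb₁⟩
      · refine ⟨v₁ * x, mul_mem hv₁ hx, hv₁x.mul_left hxx, (sg hv₁ hx hy).2 (iff_of_false h hxy), fun h' => ?_⟩
        exact hb₁ ((((sg hv₁ hx hw).1 h'.symm).2 hwx.symm).symm)
    exact hback (hpq w hw v' hv' hwx hwy hv'x hv'y)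
  have hsub : (E : Set G) ⊆ (fun p : Bool × Bool × Bool =>
      cond p.1 z 1 * (cond p.2.1 x 1)⁻¹ * (cond p.2.2 y 1)⁻¹) '' Set.univ := by
    intro w hw
    -- correct `w` into the common centralizer
    obtain ⟨b₂, hw₂x⟩ : ∃ b : Bool, Commute (w * cond b y 1) x := by
      by_cases h : Commute w x
      · exact ⟨false, by simpa using h⟩
      · exact ⟨true, (sg hw hy hx).2 (iff_of_false h hxy')⟩
    have hw₂ : w * cond b₂ y 1 ∈ E := mul_mem hw (by cases b₂; exacts [one_mem _, hy])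
    obtain ⟨b₁, hw₁x, hw₁y⟩ : ∃ b : Bool, Commute (w * cond b₂ y 1 * cond b x 1) x ∧
        Commute (w * cond b₂ y 1 * cond b x 1) y := by
      by_cases h : Commute (w * cond b₂ y 1) y
      · exact ⟨false, by simpa using hw₂x, by simpa using h⟩
      · exact ⟨true, hw₂x.mul_left hxx, (sg hw₂ hx hy).2 (iff_of_false h hxy)⟩
    have hmem : w * cond b₂ y 1 * cond b₁ x 1 ∈ E := mul_mem hw₂ (by cases b₁; exacts [one_mem _, hx])
    obtain ⟨b₀, hb₀⟩ : ∃ b : Bool, w * cond b₂ y 1 * cond b₁ x 1 = cond b z 1 := by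
      rcases hcent _ hmem hw₁x hw₁y with h | h
      exacts [⟨false, h⟩, ⟨true, h⟩]
    refine ⟨(b₀, b₁, b₂), Set.mem_univ _, ?_⟩
    dsimp only
    rw [← hb₀]; group
  have h1 := Set.ncard_le_ncard hsub
  rw [← Nat.card_coe_set_eq] at h1
  change Nat.card E ≤ _ at h1
  have h2 := Set.ncard_image_le (f := fun p : Bool × Bool × Bool =>
      cond p.1 z 1 * (cond p.2.1 x 1)⁻¹ * (cond p.2.2 y 1)⁻¹) (s := Set.univ) Set.finite_univ
  rw [Set.ncard_univ, Nat.card_eq_fintype_card] at h2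
  simp only [Fintype.card_prod, Fintype.card_bool] at h2
  omega

end Symp

variable {G : Type*} [Group G] [Finite G]

/-- The hypotheses of the centralizer characterisations of `J₂` and `J₃`. -/
theorem reduce [IsSimpleGroup G] (t : G) (ht : Cfsg.IsTwoCentralInvolution t)
    (E : Subgroup (centralizer ({t} : Set G))) [E.Normal] (hE : Nat.card E = 32)
    (hX : Cfsg.IsExtraspecial 2 E)
    (e : (centralizer ({t} : Set G)) ⧸ E ≃* alternatingGroup (Fin 5)) :
    (∀ A : Subgroup E, Cfsg.IsElementaryAbelian 2 A → Nat.card A ≤ 2 ^ 2) ∧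
      centralizer (E : Set (centralizer ({t} : Set G))) ≤ E := by
  classical
  haveI : Fact (Nat.Prime 2) := ⟨Nat.prime_two⟩
  obtain ⟨ht2, P, htP, hPc⟩ := ht
  have htt : t * t = 1 := by rw [← pow_two, ← ht2, pow_orderOf_eq_one]
  have htne : t ≠ 1 := fun h => by rw [h, orderOf_one] at ht2; norm_num at ht2
  have htC : t ∈ centralizer ({t} : Set G) := mem_centralizer_singleton_iff.2 rfl
  let φ : centralizer ({t} : Set G) →* alternatingGroup (Fin 5) :=
    (e : (centralizer ({t} : Set G)) ⧸ E →* _).comp (QuotientGroup.mk' E)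
  have hφ : Function.Surjective φ := e.surjective.comp (QuotientGroup.mk'_surjective E)
  have hker : ∀ x, φ x = 1 ↔ x ∈ E := fun x => by
    simp only [φ, MonoidHom.coe_comp, Function.comp_apply, MonoidHom.coe_coe, MulEquiv.map_eq_one_iff,
      QuotientGroup.mk'_apply, QuotientGroup.eq_one_iff]
  have htE : (⟨t, htC⟩ : centralizer ({t} : Set G)) ∈ E := by
    rw [← hker]
    refine a5_central _ fun y => ?_
    obtain ⟨c, rfl⟩ := hφ y
    rw [← map_mul, ← map_mul]
    exact congrArg φ (Subtype.ext (mem_centralizer_singleton_iff.1 c.2).symm)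
  -- the elements of `E` inside `G`
  set E₀ := E.map (centralizer ({t} : Set G)).subtype with hE₀
  have hmemE : ∀ {x : G}, x ∈ E₀ → ∃ h : x ∈ centralizer ({t} : Set G), (⟨x, h⟩ : _) ∈ E := by
    rintro x ⟨y, hy, rfl⟩; exact ⟨y.2, hy⟩
  have hext : Cfsg.IsExtraspecial 2 ↥E₀ := Cfsg.Lib.Extra.isExtraspecial_congr
    (E.equivMapOfInjective _ (centralizer ({t} : Set G)).subtype_injective) hX
  have hcard₀ : Nat.card E₀ = 32 := by
    rw [hE₀, card_map_of_injective (centralizer ({t} : Set G)).subtype_injective, hE]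
  have htE₀ : t ∈ E₀ := ⟨⟨t, htC⟩, htE, rfl⟩
  have hzc : ∀ a ∈ E₀, Commute t a := fun a ha =>
    (mem_centralizer_singleton_iff.1 (hmemE ha).1).symm
  have hzcen : (⟨t, htE₀⟩ : E₀) ∈ center ↥E₀ :=
    mem_center_iff.2 fun a => Subtype.ext (hzc a a.2).symm
  have hcenter : ∀ w : E₀, w ∈ center ↥E₀ → (w : G) = 1 ∨ (w : G) = t := by
    intro w hw
    have h : ({1, ⟨t, htE₀⟩} : Set ↥E₀) = (center ↥E₀ : Set ↥E₀) := by
      refine Set.eq_of_subset_of_ncard_le ?_ ?_
      · rintro _ (rfl | rfl)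
        exacts [one_mem _, hzcen]
      · rw [← Nat.card_coe_set_eq]
        show Nat.card (center ↥E₀) ≤ _
        rw [hext.2, Set.ncard_pair fun h => htne (congrArg Subtype.val h).symm]
    rw [← SetLike.mem_coe, ← h] at hw
    rcases hw with rfl | rfl
    exacts [Or.inl rfl, Or.inr rfl]
  have hcomm : ∀ a ∈ E₀, ∀ b ∈ E₀, ⁅a, b⁆ = 1 ∨ ⁅a, b⁆ = t := fun a ha b hb =>
    hcenter ⁅(⟨a, ha⟩ : E₀), ⟨b, hb⟩⁆ (hext.1.2.2 ▸ commutator_mem_commutator (mem_top _) (mem_top _))
  have hcen : ∀ a ∈ E₀, (∀ b ∈ E₀, Commute a b) → a = 1 ∨ a = t := fun a ha h =>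
    hcenter ⟨a, ha⟩ (mem_center_iff.2 fun b => Subtype.ext (h b b.2).symm)
  have hna : ∃ a b : centralizer ({t} : Set G), φ a * φ b ≠ φ b * φ a := by
    obtain ⟨x, y, hxy⟩ : ∃ x y : alternatingGroup (Fin 5), x * y ≠ y * x :=
      ⟨⟨Equiv.swap 0 1 * Equiv.swap 2 3, Equiv.Perm.mem_alternatingGroup.2 (by decide)⟩,
       ⟨Equiv.swap 0 1 * Equiv.swap 2 4, Equiv.Perm.mem_alternatingGroup.2 (by decide)⟩, by decide⟩
    obtain ⟨a, rfl⟩ := hφ x
    obtain ⟨b, rfl⟩ := hφ y
    exact ⟨a, b, hxy⟩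
  -- the centralizer of `E`
  have h2c : centralizer (E : Set (centralizer ({t} : Set G))) ≤ E := by
    by_contra hno
    haveI := e.isSimpleGroup
    have htop : centralizer (E : Set (centralizer ({t} : Set G))) ⊔ E = ⊤ := by
      have hN : ((centralizer (E : Set (centralizer ({t} : Set G)))).map (QuotientGroup.mk' E)).Normal :=
        (inferInstance : (centralizer (E : Set (centralizer ({t} : Set G)))).Normal).map _
          (QuotientGroup.mk'_surjective E)
      rcases hN.eq_bot_or_eq_top with h | h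
      · exact absurd (by rwa [Subgroup.map_eq_bot_iff, QuotientGroup.ker_mk'] at h) hno
      · have h' := congrArg (Subgroup.comap (QuotientGroup.mk' E)) h
        rwa [comap_map_eq, QuotientGroup.ker_mk', comap_top] at h'
    -- commutators in the Sylow subgroup lie in the centre
    have hPC : (P : Subgroup G) ≤ centralizer ({t} : Set G) := fun x hx =>
      mem_centralizer_singleton_iff.2 (hPc x hx)
    have hPcomm : ∀ a ∈ (P : Subgroup G), ∀ b ∈ (P : Subgroup G), ⁅a, b⁆ = 1 ∨ ⁅a, b⁆ = t := by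
      intro a ha b hb
      let ι : (P : Subgroup G) →* centralizer ({t} : Set G) := inclusion hPC
      have hab := two_sub_comm P.2 (φ.comp ι) ⟨a, ha⟩ ⟨b, hb⟩
      obtain ⟨k₁, hk₁, e₁, he₁, h1⟩ := mem_sup_of_normal_right.1
        (htop ▸ mem_top (⟨a, hPC ha⟩ : centralizer ({t} : Set G)))
      obtain ⟨k₂, hk₂, e₂, he₂, h2⟩ := mem_sup_of_normal_right.1
        (htop ▸ mem_top (⟨b, hPC hb⟩ : centralizer ({t} : Set G)))
      have hk : ∀ k ∈ centralizer (E : Set (centralizer ({t} : Set G))), ∀ x ∈ E, Commute k x :=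
        fun k hk x hx => (mem_centralizer_iff.1 hk x hx).symm
      have hkE : ⁅k₁, k₂⁆ ∈ E := by
        rw [← hker, map_commutatorElement, commutatorElement_eq_one_iff_mul_comm]
        have e1 : φ k₁ = φ (⟨a, hPC ha⟩) := by rw [← h1, map_mul, (hker e₁).2 he₁, mul_one]
        have e2 : φ k₂ = φ (⟨b, hPC hb⟩) := by rw [← h2, map_mul, (hker e₂).2 he₂, mul_one]
        rw [e1, e2]; exact hab
      have hkk : ⁅k₁, k₂⁆ ∈ centralizer (E : Set (centralizer ({t} : Set G))) := by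
        rw [commutatorElement_def]
        exact mul_mem (mul_mem (mul_mem hk₁ hk₂) (inv_mem hk₁)) (inv_mem hk₂)
      have hsplit : ⁅k₁ * e₁, k₂ * e₂⁆ = ⁅k₁, k₂⁆ * ⁅e₁, e₂⁆ := by
        have c1 : Commute k₁ e₂ := hk k₁ hk₁ e₂ he₂
        have c2 : Commute k₂ e₁ := hk k₂ hk₂ e₁ he₁
        simp only [commutatorElement_def, mul_inv_rev]
        calc k₁ * e₁ * (k₂ * e₂) * (e₁⁻¹ * k₁⁻¹) * (e₂⁻¹ * k₂⁻¹)
            = k₁ * (e₁ * k₂) * e₂ * e₁⁻¹ * (k₁⁻¹ * e₂⁻¹) * k₂⁻¹ := by group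
          _ = k₁ * (k₂ * e₁) * e₂ * e₁⁻¹ * (e₂⁻¹ * k₁⁻¹) * k₂⁻¹ := by rw [c2.eq, c1.inv_inv.eq]
          _ = k₁ * k₂ * ((e₁ * e₂ * e₁⁻¹ * e₂⁻¹) * (k₁⁻¹ * k₂⁻¹)) := by group
          _ = k₁ * k₂ * ((k₁⁻¹ * k₂⁻¹) * (e₁ * e₂ * e₁⁻¹ * e₂⁻¹)) := by
              have hce : e₁ * e₂ * e₁⁻¹ * e₂⁻¹ ∈ E :=
                mul_mem (mul_mem (mul_mem he₁ he₂) (inv_mem he₁)) (inv_mem he₂)
              rw [((hk _ (inv_mem hk₁) _ hce).mul_left (hk _ (inv_mem hk₂) _ hce)).eq]
          _ = _ := by group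
      have hcomm' : (⁅(⟨a, hPC ha⟩ : centralizer ({t} : Set G)), ⟨b, hPC hb⟩⁆ : centralizer ({t} : Set G)) =
          ⁅k₁, k₂⁆ * ⁅e₁, e₂⁆ := by rw [← h1, ← h2, hsplit]
      have h3 : ((⁅k₁, k₂⁆ : centralizer ({t} : Set G)) : G) = 1 ∨
          ((⁅k₁, k₂⁆ : centralizer ({t} : Set G)) : G) = t :=
        hcen _ ⟨_, hkE, rfl⟩ fun x hx => by
          obtain ⟨hxC, hxE⟩ := hmemE hx
          exact congrArg Subtype.val (hk _ hkk ⟨x, hxC⟩ hxE).eq
      have h4 : ((⁅e₁, e₂⁆ : centralizer ({t} : Set G)) : G) = 1 ∨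
          ((⁅e₁, e₂⁆ : centralizer ({t} : Set G)) : G) = t :=
        hcomm _ ⟨e₁, he₁, rfl⟩ _ ⟨e₂, he₂, rfl⟩
      have h5 : ⁅a, b⁆ = ((⁅k₁, k₂⁆ : centralizer ({t} : Set G)) : G) *
          ((⁅e₁, e₂⁆ : centralizer ({t} : Set G)) : G) := congrArg Subtype.val hcomm'
      rw [h5]
      rcases h3 with h3 | h3 <;> rcases h4 with h4 | h4 <;> simp [h3, h4, htt]
    -- `t` is isolated
    have hiso : Cfsg.IsIsolatedInvolution t := by
      refine ⟨ht2, fun g hg => ?_⟩
      by_contra hne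
      have hu2 : g * t * g⁻¹ * (g * t * g⁻¹) = 1 := by
        rw [show g * t * g⁻¹ * (g * t * g⁻¹) = g * (t * t) * g⁻¹ by group, htt]; simp
      have huC : g * t * g⁻¹ ∈ centralizer ({t} : Set G) := mem_centralizer_singleton_iff.2 hg.symm.eq
      obtain ⟨k, hk, e', he', huke⟩ := mem_sup_of_normal_right.1
        (htop ▸ mem_top (⟨_, huC⟩ : centralizer ({t} : Set G)))
      have he₀ : (e' : G) ∈ E₀ := ⟨e', he', rfl⟩
      obtain ⟨a, ha, b, hb, hae, hbe, hab⟩ := exists_pair htt htne hzc hcomm hcard₀ hcen he₀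
      have hcu : ∀ x ∈ E₀, Commute x (e' : G) → Commute x (g * t * g⁻¹) := by
        intro x hx hxe
        obtain ⟨hxC, hxE⟩ := hmemE hx
        have h1 : g * t * g⁻¹ = (k : G) * (e' : G) := (congrArg Subtype.val huke).symm
        rw [h1]
        exact Commute.mul_right (congrArg Subtype.val (mem_centralizer_iff.1 hk ⟨x, hxC⟩ hxE)) hxe
      have habt : ⁅a, b⁆ = t :=
        (hcomm a ha b hb).resolve_left fun h => hab (commutatorElement_eq_one_iff_commute.1 h)
      -- a 2-subgroup containing `a`, `b` and centralizing the conjugate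
      let R : Subgroup G := E₀ ⊓ centralizer ({g * t * g⁻¹} : Set G)
      have hR : IsPGroup 2 R := (IsPGroup.of_card (n := 5) (by rw [hcard₀]; norm_num)).to_le inf_le_left
      have hRle : R.map (MulAut.conj g⁻¹).toMonoidHom ≤ centralizer ({t} : Set G) := by
        rintro _ ⟨r, hr, rfl⟩
        have h1 : Commute r (g * t * g⁻¹) := mem_centralizer_singleton_iff.1 hr.2
        refine mem_centralizer_singleton_iff.2 ?_
        show g⁻¹ * r * g⁻¹⁻¹ * t = t * (g⁻¹ * r * g⁻¹⁻¹)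
        calc g⁻¹ * r * g⁻¹⁻¹ * t = g⁻¹ * (r * (g * t * g⁻¹)) * g := by group
          _ = g⁻¹ * ((g * t * g⁻¹) * r) * g := by rw [h1.eq]
          _ = t * (g⁻¹ * r * g⁻¹⁻¹) := by group
      -- move it into the Sylow subgroup inside `C(t)`
      obtain ⟨c, hc⟩ := Cfsg.Lib.Sig.exists_conj_le_sylow (P.subtype hPC)
        (((hR.map (MulAut.conj g⁻¹).toMonoidHom)).of_equiv (subgroupOfEquivOfLe hRle).symm)
      have hy : ∀ x ∈ E₀, Commute x (e' : G) →
          (c : G) * g⁻¹ * x * ((c : G) * g⁻¹)⁻¹ ∈ (P : Subgroup G) := by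
        intro x hx hxe
        have hxR : x ∈ R := ⟨hx, mem_centralizer_singleton_iff.2 (hcu x hx hxe).eq⟩
        have hmem : (⟨g⁻¹ * x * g⁻¹⁻¹, hRle ⟨x, hxR, rfl⟩⟩ : centralizer ({t} : Set G)) ∈
            (R.map (MulAut.conj g⁻¹).toMonoidHom).subgroupOf (centralizer ({t} : Set G)) := ⟨x, hxR, rfl⟩
        have := hc (Cfsg.Lib.Sig.conj_mem_map_conj (g := c) hmem)
        change (c : G) * (g⁻¹ * x * g⁻¹⁻¹) * (c : G)⁻¹ ∈ (P : Subgroup G) at this
        rwa [show (c : G) * g⁻¹ * x * ((c : G) * g⁻¹)⁻¹ = (c : G) * (g⁻¹ * x * g⁻¹⁻¹) * (c : G)⁻¹ by group]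
      have hct : (c : G) * t = t * (c : G) := mem_centralizer_singleton_iff.1 c.2
      apply hne
      have h0 : ⁅(c : G) * g⁻¹ * a * ((c : G) * g⁻¹)⁻¹, (c : G) * g⁻¹ * b * ((c : G) * g⁻¹)⁻¹⁆ =
          (c : G) * g⁻¹ * t * ((c : G) * g⁻¹)⁻¹ := by
        rw [show ⁅(c : G) * g⁻¹ * a * ((c : G) * g⁻¹)⁻¹, (c : G) * g⁻¹ * b * ((c : G) * g⁻¹)⁻¹⁆ =
          (c : G) * g⁻¹ * ⁅a, b⁆ * ((c : G) * g⁻¹)⁻¹ by simp only [commutatorElement_def]; group, habt]
      rcases hPcomm _ (hy a ha hae) _ (hy b hb hbe) with h | h <;> rw [h0] at h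
      · exact absurd (conj_eq_one_iff.1 h) htne
      · have h2 : g⁻¹ * t * g = t := by
          calc g⁻¹ * t * g = (c : G)⁻¹ * ((c : G) * g⁻¹ * t * ((c : G) * g⁻¹)⁻¹) * (c : G) := by group
            _ = (c : G)⁻¹ * (t * (c : G)) := by rw [h, mul_assoc]
            _ = t := by rw [← hct, inv_mul_cancel_left]
        calc g * t * g⁻¹ = g * (g⁻¹ * t * g) * g⁻¹ := by rw [h2]
          _ = t := by group
    have hO : oddCore G = ⊥ := (inferInstance : (oddCore G).Normal).eq_bot_or_eq_top.resolve_right fun h => by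
      have hodd : Odd (Nat.card ↥(oddCore G)) := Cfsg.Lib.ZStar.odd_card_oddCore
      rw [h, card_top] at hodd
      exact Nat.not_even_iff_odd.2 hodd (even_iff_two_dvd.2 (ht2 ▸ orderOf_dvd_natCard t))
    have hc := Cfsg.Lib.ZStar.mem_center_of_isolated hO hiso
    rcases (inferInstance : (center G).Normal).eq_bot_or_eq_top with hb | htop'
    · rw [hb, mem_bot] at hc; exact htne hc
    · obtain ⟨a, b, hab⟩ := hna
      apply hab
      rw [← map_mul, ← map_mul]
      exact congrArg φ (Subtype.ext (mem_center_iff.1 (htop' ▸ mem_top (b : G) : (b : G) ∈ center G) (a : G)))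
  refine ⟨?_, h2c⟩
  -- minus type
  have hC : centralizer (E₀ : Set G) ≤ (center ↥E₀).map E₀.subtype := by
    intro g hg
    have hgC : g ∈ centralizer ({t} : Set G) :=
      mem_centralizer_singleton_iff.2 (mem_centralizer_iff.1 hg t htE₀).symm
    have hgE : (⟨g, hgC⟩ : centralizer ({t} : Set G)) ∈ E := h2c (mem_centralizer_iff.2 fun x hx =>
      Subtype.ext (mem_centralizer_iff.1 hg (x : G) ⟨x, hx, rfl⟩))
    refine ⟨(⟨g, ⟨_, hgE, rfl⟩⟩ : ↥E₀), ?_, rfl⟩
    exact mem_center_iff.2 fun b => Subtype.ext (mem_centralizer_iff.1 hg b b.2)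
  have hz : (center ↥E₀).map E₀.subtype = zpowers t := by
    refine (eq_of_le_of_card_ge (zpowers_le.2 (mem_map.2 ⟨_, hzcen, rfl⟩ : t ∈ (center ↥E₀).map E₀.subtype)) ?_).symm
    rw [card_map_of_injective E₀.subtype_injective, hext.2, Nat.card_zpowers, ht2]
  have hctx : Cfsg.Lib.Extra.Ctx E₀ t := by
    refine Cfsg.Lib.Extra.ctx_of hext hC (fun c hc => ?_) hz
    rw [hz] at hc
    have hcC : c ∈ centralizer ({t} : Set G) :=
      mem_centralizer_singleton_iff.2 (mem_centralizer_iff.1 hc t (mem_zpowers t)).symm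
    refine mem_normalizer_iff.2 fun w => ⟨fun hw => ?_, fun hw => ?_⟩
    · obtain ⟨y, hy, rfl⟩ := hw
      exact ⟨_, (inferInstance : E.Normal).conj_mem y hy ⟨c, hcC⟩, rfl⟩
    · obtain ⟨y, hy, hyw⟩ := hw
      refine ⟨_, (inferInstance : E.Normal).conj_mem y hy (⟨c, hcC⟩⁻¹), ?_⟩
      show c⁻¹ * (y : G) * c⁻¹⁻¹ = w
      rw [show (y : G) = c * w * c⁻¹ from hyw]; group
  obtain ⟨f, hf⟩ : ∃ f : centralizer ({t} : Set G), orderOf f = 5 := by
    haveI : Fact (Nat.Prime 5) := ⟨by norm_num⟩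
    refine exists_prime_orderOf_dvd_card' 5 ?_
    rw [Subgroup.card_eq_card_quotient_mul_card_subgroup E, Nat.card_congr e.toEquiv,
      nat_card_alternatingGroup, Nat.card_eq_fintype_card, Fintype.card_fin, hE]
    norm_num
  intro A hA
  let ι : E →* G := (centralizer ({t} : Set G)).subtype.comp E.subtype
  have hι : Function.Injective ι := Subtype.val_injective.comp Subtype.val_injective
  have hA2 : ∀ x ∈ A, x * x = 1 := fun x hx => by rw [← pow_two]; exact hA.2 x hx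
  have hsub : ∀ x ∈ A, ι x ∈ E₀ := fun x _ => ⟨x.1, x.2, rfl⟩
  have hsmall : ∃ a : G, ∀ x ∈ A, ι x ∈ ({1, t, a, t * a} : Set G) := by
    by_cases h : ∀ x ∈ A, ι x = 1 ∨ ι x = t
    · exact ⟨1, fun x hx => by rcases h x hx with e' | e' <;> simp [e']⟩
    · push Not at h
      obtain ⟨a, ha, ha1, hat⟩ := h
      refine ⟨ι a, fun x hx => ?_⟩
      by_cases hx1 : ι x = 1; · simp [hx1]
      by_cases hxt : ι x = t; · simp [hxt]
      have hn : ∀ w ∈ A, ι w ≠ 1 → ι w ≠ t → ι w ∈ Cfsg.Lib.Extra.nci E₀ t := fun w hw h1 h2 =>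
        ⟨hsub w hw, by rw [← map_mul, hA2 w hw, map_one], h1, h2⟩
      have hax : Commute a x := congrArg Subtype.val (hA.1.is_comm.comm (⟨a, ha⟩ : A) ⟨x, hx⟩)
      rcases hctx.nci_commute hcard₀ (f := (f : G)) (by rw [Subgroup.orderOf_coe, hf])
        (mem_centralizer_singleton_iff.1 f.2) (hn a ha ha1 hat) (hn x hx hx1 hxt) (hax.map ι) with e' | e' <;>
        simp [e']
  obtain ⟨a, ha⟩ := hsmall
  have h1 := Set.ncard_le_ncard (show (A.map ι : Set G) ⊆ {1, t, a, t * a} by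
    rintro _ ⟨x, hx, rfl⟩; exact ha x hx)
  rw [← Nat.card_coe_set_eq] at h1
  change Nat.card (A.map ι) ≤ _ at h1
  rw [card_map_of_injective hι] at h1
  refine h1.trans ?_
  refine (Set.ncard_insert_le _ _).trans ?_
  have := (Set.ncard_insert_le t ({a, t * a} : Set G))
  have := (Set.ncard_insert_le a ({t * a} : Set G))
  simp only [Set.ncard_singleton] at *
  omega

/-- If all involutions are conjugate, each is 2-central. -/
theorem twoCentral_of_one_class (hone : ∀ x y : G, orderOf x = 2 → orderOf y = 2 → IsConj x y)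
    {t : G} (ht : orderOf t = 2) : Cfsg.IsTwoCentralInvolution t := by
  classical
  haveI : Fact (Nat.Prime 2) := ⟨Nat.prime_two⟩
  obtain ⟨S⟩ : Nonempty (Sylow 2 G) := inferInstance
  haveI : Nontrivial (S : Subgroup G) := (Subgroup.nontrivial_iff_ne_bot _).2 fun h => by
    have hd := S.dvd_card_of_dvd_card (ht ▸ orderOf_dvd_natCard t)
    rw [h, card_bot] at hd
    norm_num at hd
  haveI := S.2.center_nontrivial
  obtain ⟨z, hz⟩ := exists_prime_orderOf_dvd_card' (G := center ↥(S : Subgroup G)) 2 (by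
    obtain ⟨n, hn⟩ := (S.2.to_subgroup (center _)).exists_card_eq
    rcases n with _ | n
    · exact absurd hn (Finite.one_lt_card (α := center ↥(S : Subgroup G))).ne'
    · rw [hn, pow_succ]; exact dvd_mul_left 2 _)
  obtain ⟨g, hg⟩ := isConj_iff.1 (hone ((z : (S : Subgroup G)) : G) t
    (by rw [Subgroup.orderOf_coe, Subgroup.orderOf_coe, hz]) ht)
  refine ⟨ht, g • S, ?_, fun x hx => ?_⟩
  · rw [← hg]
    exact ⟨_, (z : (S : Subgroup G)).2, rfl⟩
  · obtain ⟨s, hs, rfl⟩ := hx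
    have h := congrArg Subtype.val (mem_center_iff.1 z.2 (⟨s, hs⟩ : (S : Subgroup G)))
    change g * s * g⁻¹ * t = t * (g * s * g⁻¹)
    change s * ((z : (S : Subgroup G)) : G) = ((z : (S : Subgroup G)) : G) * s at h
    rw [← hg]
    calc g * s * g⁻¹ * (g * ((z : (S : Subgroup G)) : G) * g⁻¹)
        = g * (s * ((z : (S : Subgroup G)) : G)) * g⁻¹ := by group
      _ = g * (((z : (S : Subgroup G)) : G) * s) * g⁻¹ := by rw [h]
      _ = _ := by group

end Cfsg.Lib.J3Type
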