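import Cfsg.Agent.Lib.J3Type.SubHData

/-!
Kernel checks of the certificate `subCertH`.
-/

set_option autoImplicit false
set_option maxRecDepth 100000

namespace Cfsg.Lib.J3Type

theorem subCertH_facts0 : factsOK subCertH 0 2000 = true := by decide +kernel

theorem subCertH_facts1 : factsOK subCertH 2000 1360 = true := by decide +kernel

theorem subCertH_rows0 : rowsOK subCertH 0 480 = true := by decide +kernel

theorem subCertH_fact_ok : ∀ i < subCertH.nFacts, factOK subCertH i = true := by
  intro i hi
  replace hi : i < 3360 := hi
  by_cases h0 : i < 2000
  · exact factOK_of_factsOK subCertH_facts0 (by omega) (by omega)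
  by_cases h1 : i < 3360
  · exact factOK_of_factsOK subCertH_facts1 (by omega) (by omega)
  omega

theorem subCertH_row_ok : ∀ c < subCertH.nLive, rowOK subCertH c = true := by
  intro c hc
  replace hc : c < 480 := hc
  by_cases h0 : c < 480
  · exact rowOK_of_rowsOK subCertH_rows0 (by omega) (by omega)
  omega

theorem subCertH_live_zero : subCertH.live.get 15 0 = 0 := by decide +kernel

end Cfsg.Lib.J3Type
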