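import Cfsg.Agent.Lib.J3Type.Frame
import Cfsg.Agent.Lib.J3Type.JSide
import Cfsg.Agent.Lib.J3Type.MainChecks
import Cfsg.Agent.Lib.J3Type.SubLChecks
import Cfsg.Agent.Lib.J3Type.SubHChecks
import Cfsg.Agent.Lib.J3Type.KillXAChecks
import Cfsg.Agent.Lib.J3Type.KillXBChecks
import Cfsg.Agent.Lib.J3Type.KillYAChecks
import Cfsg.Agent.Lib.J3Type.KillYBChecks
import Cfsg.Agent.Lib.J3Type.KillYCChecks

/-!
# The rules of the certificates
-/

set_option autoImplicit false
set_option maxRecDepth 100000

namespace Cfsg.Lib.J3Type

open Cfsg.Lib.JThree Cfsg.Lib.Concrete Cfsg.Lib.PermAut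

/-- The relations defining the conjugates. -/
def fullX (s : ℕ) : List (List ℕ) := [exWord 16 (xWords.getD s [])]

/-- The relations defining the conjugates and the commuting with `k`. -/
def fullY (s : ℕ) : List (List ℕ) :=
  [exWord 16 (xWords.getD 2 []), exWord 22 (yWords.getD s []), [22, 18, 22, 19]]

/-- The images for a choice of the inverter. -/
def wImgY (s : ℕ) : List (ℕ × ℕ) := wImg xTrue (yReps.getD s (0, 0))

/-- The images for a choice of the element of order three. -/
def wImgX (s : ℕ) : List (ℕ × ℕ) := wImg (xKill.getD s (0, 0)) (0, 0)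

/-- Rules valid in the group. -/
def gRules (dom : List ℕ) (wim : List (ℕ × ℕ)) (ex : List (List ℕ)) (K : Cert) : Bool :=
  K.rules.all fun ws => ws.all fun w => okRule dom wim ex w

/-- The listed relations are rotations of the defining ones. -/
def exOK (full ex : List (List ℕ)) : Bool := ex.all fun r => full.any fun f => sameRule f r

theorem ex_ok : exOK (fullY 3) mainCertEx = true ∧ exOK (fullY 3) subCertLEx = true ∧ subCertHEx = [] ∧
    exOK (fullX 0) killX0Ex = true ∧ exOK (fullX 1) killX1Ex = true ∧
    exOK (fullY 0) killY0Ex = true ∧ exOK (fullY 1) killY1Ex = true ∧ exOK (fullY 2) killY2Ex = true := by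
  decide +kernel

theorem main_g : gRules yDom (wImgY 3) mainCertEx mainCert = true := by decide +kernel

theorem subL_g : gRules yDom (wImgY 3) subCertLEx subCertL = true := by decide +kernel

theorem subH_g : gRules yDom (wImgY 3) subCertHEx subCertH = true := by decide +kernel

theorem killX0_g : gRules xDom (wImgX 0) killX0Ex killX0 = true := by decide +kernel

theorem killX1_g : gRules xDom (wImgX 1) killX1Ex killX1 = true := by decide +kernel

theorem killY0_g : gRules yDom (wImgY 0) killY0Ex killY0 = true := by decide +kernel

theorem killY1_g : gRules yDom (wImgY 1) killY1Ex killY1 = true := by decide +kernel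

theorem killY2_g : gRules yDom (wImgY 2) killY2Ex killY2 = true := by decide +kernel

theorem main_j : (mainCert.rules.all fun ws => ws.all fun w => jRule w) = true := by decide +kernel

theorem subL_j : (subCertL.rules.all fun ws => ws.all fun w => jRule w) = true := by decide +kernel

theorem subH_j : (subCertH.rules.all fun ws => ws.all fun w => jRule w) = true := by decide +kernel

theorem genWords_ok : ((genWordA ++ genWordB).all fun l => Nat.blt l 24) = true ∧
    ((List.range 3).any fun r => Nat.beq (wordC jW genWordA) (mmul (powC scal r) genA)) = true ∧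
    ((List.range 3).any fun r => Nat.beq (wordC jW genWordB) (mmul (powC scal r) genB)) = true := by
  decide +kernel

theorem wImg_ok : (∀ s < 4, imgsOK cenCert cenW (wImgY s) = true) ∧ (∀ s < 2, imgsOK cenCert cenW (wImgX s) = true) := by
  decide +kernel

theorem exW_ok : (∀ s < 3, lettersOK 8 (xWords.getD s []) = true) ∧ (∀ s < 4, lettersOK 8 (yWords.getD s []) = true) ∧
    (∀ s < 2, teval cenCert cenW smallIdx (xWords.getD s []) = (xKill.getD s (0, 0)).1) ∧
    teval cenCert cenW smallIdx (xWords.getD 2 []) = xTrue.1 ∧
    ∀ s < 4, teval cenCert cenW smallIdx (yWords.getD s []) = (yReps.getD s (0, 0)).1 := by decide +kernel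

end Cfsg.Lib.J3Type
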