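import Cfsg.Agent.Lib.J3Type.Local

/-!
# Normal forms in the normalizer of `A`

An element is a product of an element of `A` and the lift, centralizing `d`, of a linear map.
-/

set_option autoImplicit false

namespace Cfsg.Lib.J3Type

variable {G : Type*} [Group G] {t : G} {g : ℕ → G} {d : G}

/-- The product of normal forms. -/
def pMul (p q : ℕ × ℕ) : ℕ × ℕ := (Nat.xor p.1 (appM p.2 q.1), compM p.2 q.2)

/-- Equality of normal forms. -/
def pEq (p q : ℕ × ℕ) : Bool := Nat.beq p.1 q.1 && Nat.beq p.2 q.2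

theorem eq_of_pEq {p q : ℕ × ℕ} (h : pEq p q = true) : p = q := by
  rw [pEq, Bool.and_eq_true] at h
  exact Prod.ext (Nat.eq_of_beq_eq_true h.1) (Nat.eq_of_beq_eq_true h.2)

/-- The element has the given normal form. -/
def Val (g : ℕ → G) (d : G) (p : ℕ × ℕ) (y : G) : Prop :=
  p.1 < 16 ∧ ∃ x, y = aV g p.1 * x ∧ Acts g p.2 x ∧ Commute x d

/-- A normal form with its map realised. -/
def pairOK (p : ℕ × ℕ) : Bool := Nat.blt p.1 16 && (List.range 180).any fun i => Nat.beq (sTab.get 16 i) p.2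

theorem exists_val (A : Amal g d) {p : ℕ × ℕ} (h : pairOK p = true) : ∃ y, Val g d p y := by
  rw [pairOK, Bool.and_eq_true, List.any_eq_true] at h
  obtain ⟨h1, i, hi, e⟩ := h
  obtain ⟨x, hx, hc⟩ := A.real i (List.mem_range.1 hi)
  rw [Nat.eq_of_beq_eq_true e] at hx
  exact ⟨_, Nat.lt_of_succ_le (Nat.le_of_ble_eq_true h1), x, rfl, hx, hc⟩

variable (H : Cen t g)
include H

theorem Val.one : Val g d (0, idM) (1 : G) :=
  ⟨by norm_num, 1, by rw [aV_zero H, one_mul], acts_one H, Commute.one_left d⟩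

theorem Val.mul {p q : ℕ × ℕ} {y z : G} (hy : Val g d p y) (hz : Val g d q z) :
    Val g d (pMul p q) (y * z) := by
  obtain ⟨ha, x, rfl, hx, hxd⟩ := hy
  obtain ⟨hb, x', rfl, hx', hxd'⟩ := hz
  refine ⟨Nat.xor_lt_two_pow (n := 4) ha (appM_lt ..), x * x', ?_, hx.mul H hx', hxd.mul_left hxd'⟩
  show _ = aV g (Nat.xor p.1 (appM p.2 q.1)) * (x * x')
  rw [← aV_mul H ha (appM_lt ..), ← hx _ hb]
  group

theorem Val.eq_one (hd : Acts g sdM d) {y : G} (hy : Val g d (0, idM) y) : y = 1 := by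
  obtain ⟨-, x, rfl, hx, hxd⟩ := hy
  rw [aV_zero H, one_mul]
  exact lift_unique H hd hx (acts_one H) hxd (Commute.one_left d)

theorem Val.commute {M : ℕ} {y : G} (hy : Val g d (0, M) y) : Commute y d := by
  obtain ⟨-, x, rfl, -, hxd⟩ := hy
  rwa [aV_zero H, one_mul]

/-- Conjugation of `A` by an element in normal form. -/
theorem Val.conj {p : ℕ × ℕ} {y : G} (hy : Val g d p y) {b : ℕ} (hb : b < 16) :
    y * aV g b * y⁻¹ = aV g (appM p.2 b) := by
  obtain ⟨ha, x, rfl, hx, -⟩ := hy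
  calc aV g p.1 * x * aV g b * (aV g p.1 * x)⁻¹ = aV g p.1 * (x * aV g b * x⁻¹) * (aV g p.1)⁻¹ := by group
    _ = _ := by rw [hx b hb, (aV_comm H ha (appM_lt ..)).eq, mul_inv_cancel_right]

/-- An element in normal form normalises `A`. -/
theorem Val.acts {p : ℕ × ℕ} {y : G} (hy : Val g d p y) : Acts g p.2 y := fun _ hb => hy.conj H hb

/-- The inverse, given by a form multiplying to the identity. -/
theorem Val.inv (A : Amal g d) {p q : ℕ × ℕ} {y : G} (hy : Val g d p y) (hq : pairOK q = true)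
    (hpq : pMul p q = (0, idM)) : Val g d q y⁻¹ := by
  obtain ⟨z, hz⟩ := exists_val A hq
  have h := hy.mul H hz
  rw [hpq] at h
  rwa [inv_eq_of_mul_eq_one_right (h.eq_one H A.acts)]

omit H

/-- The normal form of a word. -/
def naEval (pos neg : List (ℕ × ℕ)) : List ℕ → ℕ × ℕ
  | [] => (0, idM)
  | l :: w => pMul (bif Nat.beq (Nat.mod l 2) 0 then pos.getD (Nat.div l 2) (0, idM)
      else neg.getD (Nat.div l 2) (0, idM)) (naEval pos neg w)

theorem naEval_spec (H : Cen t g) {pos neg : List (ℕ × ℕ)} {f : ℕ → G} :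
    ∀ w : List ℕ, (∀ l ∈ w, l < idL ∧ Val g d (pos.getD (l / 2) (0, idM)) (f (l / 2)) ∧
      Val g d (neg.getD (l / 2) (0, idM)) (f (l / 2))⁻¹) → Val g d (naEval pos neg w) (wval f w)
  | [], _ => Val.one H
  | l :: w, h => by
    have ih := naEval_spec H w fun m hm => h m (List.mem_cons_of_mem _ hm)
    obtain ⟨hl, hp, hn⟩ := h l (List.mem_cons_self ..)
    rw [wval_cons, naEval]
    unfold lval
    rw [if_neg (Nat.not_le.2 hl), show Nat.mod l 2 = l % 2 from rfl, show Nat.div l 2 = l / 2 from rfl]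
    rcases Nat.mod_two_eq_zero_or_one l with h2 | h2
    · rw [h2, if_pos rfl, show Nat.beq 0 0 = true from rfl, cond_true]
      exact hp.mul H ih
    · rw [h2, if_neg (by norm_num), show Nat.beq 1 0 = false from rfl, cond_false]
      exact hn.mul H ih

end Cfsg.Lib.J3Type
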