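import Cfsg.Agent.Lib.J3Type.Count
import Cfsg.Agent.Lib.PGroup.ExtraspecialClassify
import Mathlib.GroupTheory.SpecificGroups.Alternating

/-!
# Sylow subgroups of orders seventeen and nineteen in a group of `J₃`-type
-/

set_option autoImplicit false
set_option linter.unusedSectionVars false
set_option linter.style.haveILetI false
set_option maxRecDepth 100000

namespace Cfsg.Lib.J3Type

open Subgroup Cfsg.Spor

variable {G : Type*} [Group G] [Finite G]

theorem a5_sixteen : ∀ σ : alternatingGroup (Fin 5), σ ^ 16 = 1 → σ ^ 2 = 1 := by decide +kernel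

/-- The centralizer of an involution has no elements of order sixteen, hence neither has the group. -/
theorem no_sixteen (hone : ∀ x y : G, orderOf x = 2 → orderOf y = 2 → IsConj x y) (t : G) (ht : orderOf t = 2)
    (E : Subgroup (centralizer ({t} : Set G))) [E.Normal] (hX : Cfsg.IsExtraspecial 2 E)
    (e : (centralizer ({t} : Set G)) ⧸ E ≃* alternatingGroup (Fin 5)) (x : G) : orderOf x ≠ 16 := by
  haveI : Fact (Nat.Prime 2) := ⟨Nat.prime_two⟩
  intro hx
  have hs : orderOf (x ^ 8) = 2 := by rw [orderOf_pow, hx]; norm_num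
  obtain ⟨g, hg⟩ := isConj_iff.1 (hone (x ^ 8) t hs ht)
  set y : G := g * x * g⁻¹ with hy
  have hy8 : y ^ 8 = t := by rw [hy, conj_pow, hg]
  have hy16 : orderOf y = 16 := by
    rw [hy, ← hx]
    exact MulEquiv.orderOf_eq (MulAut.conj g) x
  have hyC : y ∈ centralizer ({t} : Set G) := by
    rw [mem_centralizer_singleton_iff, ← hy8, ← pow_succ', ← pow_succ]
  set Y : centralizer ({t} : Set G) := ⟨y, hyC⟩ with hY
  have hY16 : Y ^ 16 = 1 := Subtype.ext (by
    rw [SubmonoidClass.coe_pow, OneMemClass.coe_one, ← hy16]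
    exact pow_orderOf_eq_one y)
  have h2 : Y ^ 2 ∈ E := by
    have h := a5_sixteen (e (Y : centralizer ({t} : Set G) ⧸ E))
      (by rw [← map_pow, ← QuotientGroup.mk_pow, hY16, QuotientGroup.mk_one, map_one])
    rw [← map_pow, ← QuotientGroup.mk_pow] at h
    rw [← QuotientGroup.eq_one_iff]
    exact e.injective (h.trans (map_one e).symm)
  obtain ⟨z, hz, -⟩ := Cfsg.Lib.Extraspecial.exists_setting hX
  set a : E := ⟨Y ^ 2, h2⟩ with ha
  have h4 : a ^ 4 = 1 := by
    rw [show (4 : ℕ) = 2 * 2 from rfl, pow_mul]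
    rcases hz.pow_two_cases a with h | h
    · rw [h, one_pow]
    · rw [h, hz.pow_z]
  have h8 : y ^ 8 = 1 := by
    have h := congrArg (fun u : E => ((u : centralizer ({t} : Set G)) : G)) h4
    simpa [ha, hY, ← pow_mul] using h
  rw [hy8] at h8
  rw [h8, orderOf_one] at ht
  norm_num at ht

/-- The normalizer of a subgroup of prime order over its centralizer. -/
theorem norm_index {p : ℕ} [Fact p.Prime] (P : Subgroup G) (hP : Nat.card P = p) :
    ∃ (k : ℕ) (ψ : normalizer (P : Set G) →* MulAut P), ψ.ker = (centralizer (P : Set G)).subgroupOf _ ∧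
      IsCyclic ψ.range ∧ Nat.card ψ.range = k ∧ k ∣ p - 1 ∧
      Nat.card (normalizer (P : Set G)) = Nat.card (centralizer (P : Set G)) * k := by
  haveI : IsCyclic P := isCyclic_of_prime_card hP
  haveI : IsCyclic (ZMod (Nat.card P))ˣ := by rw [hP]; infer_instance
  haveI : IsCyclic (MulAut P) :=
    isCyclic_of_injective (IsCyclic.mulAutMulEquiv P).toMonoidHom (IsCyclic.mulAutMulEquiv P).injective
  refine ⟨_, P.normalizerMonoidHom, P.normalizerMonoidHom_ker, inferInstance, rfl, ?_, ?_⟩
  · refine (Subgroup.card_subgroup_dvd_card _).trans ?_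
    rw [IsCyclic.card_mulAut P, hP, Nat.totient_prime Fact.out]
  · have h := card_eq_card_quotient_mul_card_subgroup P.normalizerMonoidHom.ker
    rw [Nat.card_congr (QuotientGroup.quotientKerEquivRange _).toEquiv, P.normalizerMonoidHom_ker,
      Nat.card_congr (Subgroup.subgroupOfEquivOfLe (centralizer_le_normalizer _)).toEquiv] at h
    rw [h, mul_comm]

/-- A self-centralizing subgroup of prime order has cyclic normalizer quotient. -/
theorem quot_of_self {p k : ℕ} [Fact p.Prime] (P : Subgroup G) (hP : Nat.card P = p)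
    (hC : centralizer (P : Set G) = P) (hN : Nat.card (normalizer (P : Set G)) = p * k) :
    ∃ _h : (P.subgroupOf (normalizer (P : Set G))).Normal,
      IsCyclic (↥(normalizer (P : Set G)) ⧸ P.subgroupOf _) ∧
        Nat.card (↥(normalizer (P : Set G)) ⧸ P.subgroupOf _) = k := by
  obtain ⟨j, ψ, hker, hcyc, hj, -, hcard⟩ := norm_index P hP
  rw [hC] at hker hcard
  rw [hP, hN] at hcard
  have hjk : j = k := (Nat.eq_of_mul_eq_mul_left (Fact.out : p.Prime).pos hcard).symm
  have hn : (P.subgroupOf (normalizer (P : Set G))).Normal := hker ▸ ψ.normal_ker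
  refine ⟨hn, ?_⟩
  haveI := hn
  let e := (QuotientGroup.quotientMulEquivOfEq hker.symm).trans (QuotientGroup.quotientKerEquivRange ψ)
  haveI := hcyc
  exact ⟨isCyclic_of_surjective e.symm.toMonoidHom e.symm.surjective,
    by rw [Nat.card_congr e.toEquiv, hj, hjk]⟩

theorem nineteen_arith : ∀ k < 19, 18 % k = 0 → 50232960 % (19 * k) = 0 →
    50232960 / (19 * k) % 19 = 1 → k = 9 := by decide +kernel

theorem seventeen_arith : ∀ c ∈ [1, 3, 9, 27, 81, 243, 5, 15, 45, 135, 405, 1215], ∀ k ∈ [1, 2, 4, 8, 16],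
    50232960 / (17 * c * k) % 17 = 1 → (c = 1 ∧ k = 8) ∨ (c = 1215 ∧ k = 1) ∨ (c = 9 ∧ k = 16) := by
  decide +kernel

theorem divisors_1215 : ∀ c < 1216, 1215 % c = 0 → c ∈ [1, 3, 9, 27, 81, 243, 5, 15, 45, 135, 405, 1215] := by
  decide +kernel

theorem divisors_16 : ∀ k < 17, 16 % k = 0 → k ∈ [1, 2, 4, 8, 16] := by decide +kernel

/-- The local facts at seventeen and nineteen from the order and the centralizers. -/
theorem syl_facts [IsSimpleGroup G] (hcard : Nat.card G = 50232960)
    (h19 : ∀ x : G, orderOf x = 19 → Nat.card (centralizer ({x} : Set G)) = 19)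
    (hinv : ∀ x : G, orderOf x = 2 → Nat.card (centralizer ({x} : Set G)) = 1920)
    (h16 : ∀ x : G, orderOf x ≠ 16) :
    (∀ X : Sylow 19 G, centralizer ((X : Subgroup G) : Set G) = X ∧
        ∃ _h : ((X : Subgroup G).subgroupOf (normalizer ((X : Subgroup G) : Set G))).Normal,
          IsCyclic (↥(normalizer ((X : Subgroup G) : Set G)) ⧸ (X : Subgroup G).subgroupOf _) ∧
          Nat.card (↥(normalizer ((X : Subgroup G) : Set G)) ⧸ (X : Subgroup G).subgroupOf _) = 9) ∧
    (∀ Y : Sylow 17 G, centralizer ((Y : Subgroup G) : Set G) = Y ∧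
        ∃ _h : ((Y : Subgroup G).subgroupOf (normalizer ((Y : Subgroup G) : Set G))).Normal,
          IsCyclic (↥(normalizer ((Y : Subgroup G) : Set G)) ⧸ (Y : Subgroup G).subgroupOf _) ∧
          Nat.card (↥(normalizer ((Y : Subgroup G) : Set G)) ⧸ (Y : Subgroup G).subgroupOf _) = 8) := by
  classical
  haveI : Fact (Nat.Prime 19) := ⟨by norm_num⟩
  haveI : Fact (Nat.Prime 17) := ⟨by norm_num⟩
  constructor
  · intro X
    have hX : Nat.card (X : Subgroup G) = 19 := by
      rw [X.card_eq_multiplicity, hcard, show (50232960 : ℕ) = 19 * 2643840 by norm_num,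
        Nat.factorization_mul (by norm_num) (by norm_num), Finsupp.add_apply,
        Nat.Prime.factorization_self (by norm_num : Nat.Prime 19),
        Nat.factorization_eq_zero_of_not_dvd (by norm_num), Nat.add_zero, pow_one]
    obtain ⟨x, hx⟩ := exists_prime_orderOf_dvd_card' (G := ↥(X : Subgroup G)) 19 (by rw [hX])
    have hXC : (X : Subgroup G) ≤ centralizer ((X : Subgroup G) : Set G) := by
      haveI : IsCyclic (X : Subgroup G) := isCyclic_of_prime_card hX
      intro a ha
      exact mem_centralizer_iff.2 fun b hb => congrArg Subtype.val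
        (IsMulCommutative.is_comm.comm (⟨b, hb⟩ : (X : Subgroup G)) ⟨a, ha⟩)
    have hC : centralizer ((X : Subgroup G) : Set G) = X := by
      refine (eq_of_le_of_card_ge hXC ?_).symm
      exact (card_le_of_le (centralizer_le (Set.singleton_subset_iff.2 x.2))).trans
        (le_of_eq ((h19 x (by rw [Subgroup.orderOf_coe, hx])).trans hX.symm))
    refine ⟨hC, quot_of_self _ hX hC ?_⟩
    obtain ⟨k, ψ, -, -, -, hk, hN⟩ := norm_index (X : Subgroup G) hX
    rw [hC, hX] at hN
    have hmul := (normalizer ((X : Subgroup G) : Set G)).card_mul_index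
    have hs := card_sylow_modEq_one 19 G
    rw [Sylow.card_eq_index_normalizer X] at hs
    rw [hN, hcard] at hmul
    have hk0 : 0 < k := Nat.pos_of_ne_zero fun h => by rw [h, Nat.mul_zero, Nat.zero_mul] at hmul; norm_num at hmul
    have hidx : 50232960 / (19 * k) = (normalizer ((X : Subgroup G) : Set G)).index := by
      rw [← hmul, Nat.mul_div_cancel_left _ (by omega)]
    obtain rfl := nineteen_arith k (by have := Nat.le_of_dvd (by norm_num) hk; omega)
      (Nat.mod_eq_zero_of_dvd hk) (Nat.mod_eq_zero_of_dvd ⟨_, hmul.symm⟩) (by rw [hidx]; exact hs)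
    exact hN
  · intro Y
    have hY : Nat.card (Y : Subgroup G) = 17 := by
      rw [Y.card_eq_multiplicity, hcard, show (50232960 : ℕ) = 17 * 2954880 by norm_num,
        Nat.factorization_mul (by norm_num) (by norm_num), Finsupp.add_apply,
        Nat.Prime.factorization_self (by norm_num : Nat.Prime 17),
        Nat.factorization_eq_zero_of_not_dvd (by norm_num), Nat.add_zero, pow_one]
    obtain ⟨y, hy⟩ := exists_prime_orderOf_dvd_card' (G := ↥(Y : Subgroup G)) 17 (by rw [hY])
    have hyG : orderOf (y : G) = 17 := by rw [Subgroup.orderOf_coe, hy]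
    set C := centralizer ((Y : Subgroup G) : Set G) with hCdef
    have hYC : (Y : Subgroup G) ≤ C := by
      haveI : IsCyclic (Y : Subgroup G) := isCyclic_of_prime_card hY
      intro a ha
      exact mem_centralizer_iff.2 fun b hb => congrArg Subtype.val
        (IsMulCommutative.is_comm.comm (⟨b, hb⟩ : (Y : Subgroup G)) ⟨a, ha⟩)
    have hcy : ∀ w ∈ C, (y : G) ∈ centralizer ({w} : Set G) := fun w hw =>
      mem_centralizer_singleton_iff.2 (mem_centralizer_iff.1 hw y y.2)
    have hnd : ∀ q, (q = 2 ∨ q = 19) → ¬ q ∣ Nat.card C := by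
      intro q hq hd
      haveI : Fact q.Prime := ⟨by rcases hq with rfl | rfl <;> norm_num⟩
      obtain ⟨w, hw⟩ := exists_prime_orderOf_dvd_card' (G := ↥C) q hd
      have hwG : orderOf (w : G) = q := by rw [Subgroup.orderOf_coe, hw]
      have h17 := Subgroup.orderOf_coe (⟨(y : G), hcy w w.2⟩ : centralizer ({(w : G)} : Set G))
      have h := orderOf_dvd_natCard (⟨(y : G), hcy w w.2⟩ : centralizer ({(w : G)} : Set G))
      rw [← h17, hyG] at h
      rcases hq with rfl | rfl
      · rw [hinv _ hwG] at h; norm_num at h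
      · rw [h19 _ hwG] at h; norm_num at h
    obtain ⟨c, hc⟩ := hY ▸ card_dvd_of_le hYC
    have hc1215 : c ∣ 1215 := by
      have h : c ∣ 2 ^ 7 * 19 * 1215 := by
        have h := Subgroup.card_subgroup_dvd_card C
        rw [hc, hcard, show (50232960 : ℕ) = 17 * (2 ^ 7 * 19 * 1215) by norm_num] at h
        exact Nat.dvd_of_mul_dvd_mul_left (by norm_num) h
      refine (Nat.Coprime.mul_right (Nat.Coprime.pow_right 7 ?_) ?_).dvd_of_dvd_mul_left h
      · exact (Nat.Prime.coprime_iff_not_dvd Nat.prime_two).2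
          (fun h2 => hnd 2 (Or.inl rfl) (hc ▸ h2.mul_left 17)) |>.symm
      · exact (Nat.Prime.coprime_iff_not_dvd (by norm_num : Nat.Prime 19)).2
          (fun h2 => hnd 19 (Or.inr rfl) (hc ▸ h2.mul_left 17)) |>.symm
    obtain ⟨k, ψ, hker, hcyc, hψ, hk, hN⟩ := norm_index (Y : Subgroup G) hY
    rw [← hCdef, hc] at hN
    have hmul := (normalizer ((Y : Subgroup G) : Set G)).card_mul_index
    have hs := card_sylow_modEq_one 17 G
    rw [Sylow.card_eq_index_normalizer Y] at hs
    rw [hN, hcard] at hmul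
    have hc0 : 0 < c := Nat.pos_of_dvd_of_pos hc1215 (by norm_num)
    have hk0 : 0 < k := Nat.pos_of_dvd_of_pos hk (by norm_num)
    have hidx : 50232960 / (17 * c * k) = (normalizer ((Y : Subgroup G) : Set G)).index := by
      rw [← hmul, Nat.mul_div_cancel_left _ (by positivity)]
    rcases seventeen_arith c (divisors_1215 c (by have := Nat.le_of_dvd (by norm_num) hc1215; omega)
        (Nat.mod_eq_zero_of_dvd hc1215)) k
        (divisors_16 k (by have := Nat.le_of_dvd (by norm_num) hk; omega) (Nat.mod_eq_zero_of_dvd hk))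
        (by rw [hidx]; exact hs) with ⟨rfl, rfl⟩ | ⟨rfl, rfl⟩ | ⟨rfl, rfl⟩
    · have hC : C = Y := (eq_of_le_of_card_ge hYC (by rw [hc, hY])).symm
      exact ⟨hC, quot_of_self _ hY hC (by rw [hN])⟩
    · -- the Sylow subgroup would be central in its normalizer
      exfalso
      have hle : normalizer ((Y : Subgroup G) : Set G) ≤ C :=
        le_of_eq (eq_of_le_of_card_ge (centralizer_le_normalizer _) (by rw [hN, ← hCdef, hc])).symm
      have hcpl := MonoidHom.ker_transferSylow_isComplement' Y hle
      have hm := hcpl.card_mul_card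
      rw [hY, hcard] at hm
      rcases (MonoidHom.transferSylow Y hle).normal_ker.eq_bot_or_eq_top with h | h
      · rw [h, Subgroup.card_bot] at hm; norm_num at hm
      · rw [h, Subgroup.card_top, hcard] at hm; norm_num at hm
    · -- an element of order sixteen
      exfalso
      haveI := hcyc
      obtain ⟨r, hr⟩ := IsCyclic.exists_generator (α := ψ.range)
      obtain ⟨n, hn⟩ := r.2
      have h16' : orderOf (ψ n) = 16 := by
        rw [hn, Subgroup.orderOf_coe, orderOf_eq_card_of_forall_mem_zpowers hr, hψ]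
      obtain ⟨m, hm⟩ := h16' ▸ orderOf_map_dvd ψ n
      have hm0 : m ≠ 0 := fun e => by
        rw [e, Nat.mul_zero] at hm
        exact (orderOf_pos n).ne' hm
      refine h16 ((n : G) ^ m) ?_
      rw [orderOf_pow, Subgroup.orderOf_coe, hm, Nat.gcd_eq_right ⟨16, mul_comm _ _⟩,
        Nat.mul_div_cancel _ (Nat.pos_of_ne_zero hm0)]

end Cfsg.Lib.J3Type
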