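import Mathlib

/-!
Four elements of the triple cover of the third Janko group.
-/

set_option autoImplicit false

namespace Cfsg.Lib.J3Type

/-- A torus element, a root element, a Weyl element and a field involution of a `SL₂(16):2`. -/
def slCode : List ℕ :=
  [0x2358d7eb49b26614095001965b528a4702bf90ee0,
   0x4fe18b273167f92b17b8d559a2f18691cdbeb19e,
   0x1955bcd851d5d111f5199d12b8503110fcb8aa747,
   0x1691504c475651c0841f9db09ce69c769eeef4f33]

/-- Their normal forms. -/
def slWit : List (ℕ × ℕ × ℕ) := [(935, 76, 12), (3114, 9, 16), (3318, 32, 102), (3871, 59, 174)]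

end Cfsg.Lib.J3Type
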