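import Cfsg.Agent.Lib.Linear.ShortPres.SLTwoEven

/-!
# Homomorphisms from `SL₂(16)`
-/

set_option autoImplicit false
set_option linter.style.haveILetI false

namespace Cfsg.Lib.J3Type

open Cfsg.Lib.Linear.ShortPres Matrix Polynomial
open scoped MatrixGroups

/-- A field with sixteen elements and a root of `z⁴ + z + 1`, of multiplicative order fifteen. -/
theorem exists_field_sixteen : ∃ (K : Type) (_ : Field K) (_ : Fintype K) (_ : CharP K 2) (z : Kˣ),
    Fintype.card K = 16 ∧ (z : K) ^ 4 + z + 1 = 0 ∧ orderOf z = 15 := by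
  classical
  haveI : Fact (Nat.Prime 2) := ⟨Nat.prime_two⟩
  let K := GaloisField 2 4
  letI : Fintype K := Fintype.ofFinite K
  haveI : CharP K 2 := inferInstance
  have hK : Fintype.card K = 16 := by
    rw [← Nat.card_eq_fintype_card, GaloisField.card 2 4 (by norm_num)]; norm_num
  have h2 : (2 : K) = 0 := CharP.cast_eq_zero K 2
  set Q : K[X] := X ^ 12 + X ^ 9 + X ^ 8 + X ^ 6 + X ^ 4 + X ^ 3 + X ^ 2 + X
  have hdeg : Q.natDegree = 12 := by simp only [Q]; compute_degree!
  obtain ⟨a, ha⟩ : ∃ a : K, Q.eval a ≠ 0 := by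
    by_contra hne
    push Not at hne
    have hQ : Q ≠ 0 := fun h => by simp [h] at hdeg
    have := card_le_degree_of_subset_roots (p := Q) (Z := (Finset.univ : Finset K)) fun x _ =>
      (mem_roots hQ).2 (hne x)
    rw [Finset.card_univ, hK, hdeg] at this
    omega
  have hpow : a ^ 16 = a := by rw [← hK]; exact FiniteField.pow_card a
  have ha' : a ^ 12 + a ^ 9 + a ^ 8 + a ^ 6 + a ^ 4 + a ^ 3 + a ^ 2 + a ≠ 0 := by simpa [Q] using ha
  have hroot : a ^ 4 + a + 1 = 0 := by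
    have h : (a ^ 4 + a + 1) * (a ^ 12 + a ^ 9 + a ^ 8 + a ^ 6 + a ^ 4 + a ^ 3 + a ^ 2 + a) = 0 := by
      linear_combination hpow + (a + a ^ 2 + a ^ 3 + a ^ 4 + a ^ 5 + a ^ 6 + a ^ 7 + a ^ 8 + a ^ 9 + a ^ 10 +
        a ^ 12 + a ^ 13) * h2
    exact (mul_eq_zero.1 h).resolve_right ha'
  have ha0 : a ≠ 0 := fun h => by simp [h] at hroot
  let z : Kˣ := Units.mk0 a ha0
  refine ⟨K, inferInstance, inferInstance, inferInstance, z, hK, hroot, ?_⟩
  have h15 : orderOf z ∣ 15 := by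
    have := orderOf_dvd_card (x := z)
    rwa [Fintype.card_units, hK] at this
  have hn3 : a ^ 3 ≠ 1 := fun h => one_ne_zero (α := K) (by linear_combination hroot - a * h - a * h2)
  have hn5 : a ^ 5 ≠ 1 := fun h => hn3 (by
    have e : a ^ 2 + a + 1 = 0 := by linear_combination a * hroot - h
    linear_combination (a - 1) * e)
  have hcast : ∀ n, orderOf z ∣ n → a ^ n = 1 := fun n hn => by
    have := congrArg Units.val (orderOf_dvd_iff_pow_eq_one.1 hn)
    simpa [z] using this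
  have hlist : ∀ d ≤ 15, d ∣ 15 → d ∣ 3 ∨ d ∣ 5 ∨ d = 15 := by decide
  rcases hlist _ (Nat.le_of_dvd (by norm_num) h15) h15 with h | h | h
  · exact absurd (hcast 3 h) hn3
  · exact absurd (hcast 5 h) hn5
  · exact h

variable {F : Type} [Field F] [Fintype F] [CharP F 2]

/-- `SL₂(16)` is simple. -/
theorem simple_SL_sixteen (hF : Fintype.card F = 16) : IsSimpleGroup SL(2, F) := by
  haveI : IsSimpleGroup PSL(2, F) :=
    Matrix.ProjectiveSpecialLinearGroup.rank_two_simple (by rw [Nat.card_eq_fintype_card, hF]; norm_num)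
  have hc : Subgroup.center SL(2, F) = ⊥ := by
    refine (Subgroup.eq_bot_iff_forall _).2 fun g hg => ?_
    obtain ⟨r, hr, hrg⟩ := Matrix.SpecialLinearGroup.mem_center_iff.1 hg
    have hr1 : r = 1 := by
      rw [Fintype.card_fin] at hr
      exact CharTwo.sq_inj.1 (by rw [hr, one_pow])
    exact Subtype.ext (by rw [← hrg, hr1]; simp)
  exact ((QuotientGroup.quotientBot (G := SL(2, F))).symm.trans
    (QuotientGroup.quotientMulEquivOfEq hc.symm)).isSimpleGroup

/-- Three elements satisfying the relations of `SL₂(16)` are the images of its generators. -/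
theorem exists_hom_sixteen (hF : Fintype.card F = 16) {z : Fˣ} (hz : (z : F) ^ 4 + z + 1 = 0)
    (ho : orderOf z = 15) {M : Type} [Group M] [Finite M] {U X W : M} (h0 : U ^ 2 = 1) (hX : X ^ 15 = 1)
    (h1 : X ^ 4 * U * (X ^ 4)⁻¹ = X * U * X⁻¹ * U) (h3 : W * X * W⁻¹ = X⁻¹) (h4 : W * U * W⁻¹ = U * W * U) :
    ∃ φ : SL(2, F) →* M, φ (xs 1) = U ∧ φ (ds z) = X ∧ φ ts = W := by
  classical
  have ho' : orderOf (z : F) = 15 := by rw [orderOf_units, ho]
  have hg : Gens 2 ((z : F) ^ 2) := gens_sq (by rw [ho', hF])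
  have hgen : ∀ c : F, c ≠ 0 → ∃ i : ℕ, c = ((z : F) ^ i) ^ 2 := by
    intro c hc
    have htop : Subgroup.zpowers z = ⊤ := Subgroup.eq_top_of_card_eq _ (by
      rw [Nat.card_zpowers, ho, Nat.card_eq_fintype_card, Fintype.card_units, hF])
    obtain ⟨m, hm⟩ := (mem_powers_iff_mem_zpowers.2 (htop ▸ Subgroup.mem_top (Units.mk0 c hc)) :
      Units.mk0 c hc ∈ Submonoid.powers z)
    refine ⟨8 * m, ?_⟩
    have h := congrArg Units.val hm
    simp only [Units.val_pow_eq_pow_val, Units.val_mk0] at h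
    rw [← h, ← pow_mul, show 8 * m * 2 = 15 * m + m by ring, pow_add, pow_mul, ← ho', pow_orderOf_eq_one,
      one_pow, one_mul]
  set S : Set (SL(2, F) × M) := {(xs 1, U), (ds z, X), (ts, W)} with hS
  set P := Subgroup.closure S
  let u : P := ⟨(xs 1, U), Subgroup.subset_closure (Or.inl rfl)⟩
  let h : P := ⟨(ds z, X), Subgroup.subset_closure (Or.inr (Or.inl rfl))⟩
  let t : P := ⟨(ts, W), Subgroup.subset_closure (Or.inr (Or.inr rfl))⟩
  let φ : P →* SL(2, F) := (MonoidHom.fst _ _).comp P.subtype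
  have hgenP : Subgroup.closure ({u, h, t} : Set P) = ⊤ := by
    rw [← top_le_iff, ← Subgroup.closure_closure_coe_preimage (k := S), Subgroup.closure_le]
    intro x hx
    simp only [Set.mem_preimage, hS, Set.mem_insert_iff, Set.mem_singleton_iff] at hx
    rcases hx with e | e | e
    · exact Subgroup.subset_closure (Or.inl (Subtype.ext e))
    · exact Subgroup.subset_closure (Or.inr (Or.inl (Subtype.ext e)))
    · exact Subgroup.subset_closure (Or.inr (Or.inr (Subtype.ext e)))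
  have hz15 : (ds z) ^ 15 = (1 : SL(2, F)) := by rw [← ds_pow, ← ho, pow_orderOf_eq_one, ds_one]
  have r0 : u ^ 2 = 1 := Subtype.ext (Prod.ext (by simp [u, pow_two, xs_self]) (by simp [u, h0]))
  have r2 : h ^ 15 = 1 := Subtype.ext (Prod.ext (by simp [h, hz15]) (by simp [h, hX]))
  have r1 : cj u h 4 = cj u h 1 * u := by
    refine Subtype.ext (Prod.ext ?_ (by simp [cj, u, h, h1]))
    have hcj : ∀ i, cj (xs (1 : F)) (ds z) i = xs (((z : F) ^ 2) ^ i) := cj_xs (MonoidHom.id SL(2, F)) z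
    have e : φ (cj u h 4) = φ (cj u h 1 * u) := by
      rw [map_mul, map_cj, map_cj, show φ u = xs 1 from rfl, show φ h = ds z from rfl, hcj, hcj, ← xs_add]
      congr 1
      have h2 : (2 : F) = 0 := CharP.cast_eq_zero F 2
      linear_combination ((z : F) ^ 4 - z - 1) * hz + ((z : F) + 0) * h2
    exact e
  have r3 : t * h * t⁻¹ = h⁻¹ := Subtype.ext (Prod.ext (by simp [t, h, ts_conj_ds]) (by simp [t, h, h3]))
  have r4 : t * u * t⁻¹ = u * t * u := by
    refine Subtype.ext (Prod.ext ?_ (by simp [t, u, h4]))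
    have h' := ts_conj_xs (1 : Fˣ)
    rw [inv_one, ds_one, Units.val_one, mul_one, CharTwo.neg_eq] at h'
    exact h'
  set O := orb u h
  have hu2 : u * u = 1 := by rw [← pow_two, r0]
  have hc1 : Commute u (cj u h 1) := by
    have hA : cj u h 1 * cj u h 1 = 1 := by rw [← pow_two]; exact cj_pow r0 1
    have hB : (cj u h 1 * u) * (cj u h 1 * u) = 1 := by rw [← r1, ← pow_two]; exact cj_pow r0 4
    show u * cj u h 1 = cj u h 1 * u
    calc u * cj u h 1 = (cj u h 1)⁻¹ * ((cj u h 1 * u) * (cj u h 1 * u)) * u⁻¹ := by simp [mul_assoc]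
      _ = cj u h 1 * u := by rw [hB, mul_one, inv_eq_of_mul_eq_one_left hA, inv_eq_of_mul_eq_one_left hu2]
  have hc : ∀ i, Commute u (cj u h i) := commute_cj ((Commute.refl h).pow_right 4) hc1 r1
  obtain ⟨hOfin, hOle⟩ : Finite O ∧ Nat.card O ≤ 16 := by
    have := orb_card (T := (∅ : Finset P)) two_pos (show 0 < 4 by norm_num) r0 hc (by simp) (by
      rw [r1]
      exact mul_mem (Subgroup.subset_closure (Or.inr ⟨1, by simp, rfl⟩))
        (Subgroup.subset_closure (Or.inr ⟨0, by simp, cj_zero u h⟩)))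
    exact ⟨this.1, this.2.trans (by simp)⟩
  haveI := hOfin
  have hπ : ∀ c : F, MonoidHom.id SL(2, F) (xs c) = 1 → c = 0 := fun c e => xs_inj (e.trans xs_zero.symm)
  have hinj : ∀ x ∈ O, ∀ y ∈ O, φ x = φ y → x = y := fun x hx y hy e =>
    orb_injective (p := 2) (MonoidHom.id SL(2, F)) φ z (u := u) (g := h) rfl rfl hπ hg (hF ▸ hOle) hx hy e
  have himg : ∀ x ∈ O, ∃ c : F, φ x = xs c := fun x hx =>
    exists_image (MonoidHom.id SL(2, F)) φ z (u := u) (g := h) rfl rfl hx
  choose w hw hwφ using surj_image (p := 2) (MonoidHom.id SL(2, F)) φ z (u := u) (g := h) rfl rfl hg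
  simp only [MonoidHom.id_apply] at hwφ
  have hnorm : h ∈ Subgroup.normalizer (O : Set P) :=
    Subgroup.mem_normalizer_fintype fun x hx => orb_closed (Commute.refl h)
      (by simpa [cj] using cj_mem u h 1) hx
  have htt : t * t = 1 := by
    have h' : (t * u * t⁻¹) * (t * u * t⁻¹) = (u * t * u) * (u * t * u) := by rw [r4]
    have e1 : (t * u * t⁻¹) * (t * u * t⁻¹) = 1 := by
      rw [show (t * u * t⁻¹) * (t * u * t⁻¹) = t * (u * u) * t⁻¹ by simp [mul_assoc], hu2, mul_one, mul_inv_cancel]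
    have e2 : (u * t * u) * (u * t * u) = u * (t * t) * u := by
      rw [show (u * t * u) * (u * t * u) = u * t * (u * u) * (t * u) by simp [mul_assoc], hu2, mul_one]
      simp [mul_assoc]
    rw [e1, e2] at h'
    calc t * t = u⁻¹ * (u * (t * t) * u) * u⁻¹ := by simp [mul_assoc]
      _ = 1 := by rw [← h', mul_one, ← _root_.mul_inv_rev, hu2, inv_one]
  have hflip : ∀ i : ℕ, t * h ^ i = (h ^ i)⁻¹ * t := by
    intro i
    rw [← mul_inv_eq_iff_eq_mul, ← conj_pow, r3, inv_pow]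
  have hflip' : ∀ i : ℕ, (h ^ i)⁻¹ * t⁻¹ = t⁻¹ * h ^ i := by
    intro i
    calc (h ^ i)⁻¹ * t⁻¹ = (t * h ^ i)⁻¹ := by rw [_root_.mul_inv_rev]
      _ = t⁻¹ * h ^ i := by rw [hflip i, _root_.mul_inv_rev, inv_inv]
  have C : Cells O u h t := by
    refine ⟨hgenP, self_mem u h, hnorm, r3, by rw [htt]; exact one_mem _, fun x hx => ?_⟩
    obtain ⟨c, hxc⟩ := himg x hx
    by_cases hc0 : c = 0
    · left
      obtain rfl : x = 1 := hinj x hx 1 (one_mem _) (by rw [hxc, hc0, xs_zero, map_one])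
      exact one_mem _
    right
    obtain ⟨i, hi⟩ := hgen c hc0
    have hxy : x = cj u h i := hinj x hx _ (cj_mem u h i) (by
      rw [hxc, map_cj, show φ u = MonoidHom.id SL(2, F) (xs 1) from rfl,
        show φ h = MonoidHom.id SL(2, F) (ds z) from rfl, cj_xs, MonoidHom.id_apply, hi, ← pow_mul, ← pow_mul,
        mul_comm i 2])
    have hcl : (h ^ i)⁻¹ * u * h ^ i ∈ O := by
      simpa using (Subgroup.mem_normalizer_iff.1 (inv_mem (pow_mem hnorm i)) u).1 (self_mem u h)
    refine ⟨_, hcl, (h ^ i)⁻¹ * (h ^ i)⁻¹,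
      mul_mem (inv_mem (pow_mem (Subgroup.mem_zpowers h) i)) (inv_mem (pow_mem (Subgroup.mem_zpowers h) i)),
      _, hcl, ?_⟩
    calc t * x * t⁻¹ = (t * h ^ i) * u * ((h ^ i)⁻¹ * t⁻¹) := by rw [hxy]; simp [cj, mul_assoc]
      _ = (h ^ i)⁻¹ * (t * u * t⁻¹) * h ^ i := by rw [hflip i, hflip' i]; simp [mul_assoc]
      _ = (h ^ i)⁻¹ * u * ((t * h ^ i) * ((h ^ i)⁻¹ * u * h ^ i)) := by rw [r4]; simp [mul_assoc]
      _ = _ := by rw [hflip i]; simp [mul_assoc]
  obtain ⟨hfin, hbound⟩ := C.card_le (show 0 < 15 by norm_num) (by rw [r2]; exact one_mem _) w fun y hy => by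
    obtain ⟨c, hc'⟩ := himg y hy
    exact ⟨c, 1, one_mem _, one_mem _, by rw [one_mul]; exact hinj y hy _ (hw c) (hc'.trans (hwφ c).symm)⟩
  haveI := hfin
  have hsurj : Function.Surjective φ := by
    rw [← MonoidHom.range_eq_top, eq_top_iff,
      ← closure_image_eq_top hg z rfl z ⟨1, (pow_one z).symm⟩, Subgroup.closure_le]
    rintro x (rfl | rfl | rfl)
    · exact ⟨u, rfl⟩
    · exact ⟨h, rfl⟩
    · exact ⟨t, rfl⟩
  haveI : Finite SL(2, F) := Finite.of_surjective φ hsurj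
  have hle : Nat.card P ≤ Nat.card SL(2, F) := by
    refine hbound.trans ?_
    rw [card_SL_even, Nat.card_eq_fintype_card (α := F), hF]
    exact le_trans (Nat.mul_le_mul_right _ (Nat.mul_le_mul_right _ hOle)) (by norm_num)
  let e : P ≃* SL(2, F) := MulEquiv.ofBijective φ ((Nat.bijective_iff_surjective_and_card _).2
    ⟨hsurj, le_antisymm hle (Nat.card_le_card_of_surjective φ hsurj)⟩)
  refine ⟨((MonoidHom.snd _ _).comp P.subtype).comp e.symm.toMonoidHom, ?_, ?_, ?_⟩
  · show ((e.symm (e u)) : SL(2, F) × M).2 = U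
    rw [e.symm_apply_apply]
  · show ((e.symm (e h)) : SL(2, F) × M).2 = X
    rw [e.symm_apply_apply]
  · show ((e.symm (e t)) : SL(2, F) × M).2 = W
    rw [e.symm_apply_apply]

end Cfsg.Lib.J3Type
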