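import Cfsg.Agent.Lib.JThree.Outer
import Cfsg.Agent.Lib.JThree.Simple
import Cfsg.Agent.Lib.J3Type.SlTwoData
import Cfsg.Agent.Lib.J3Type.SlTwoSixteen

/-!
# A subgroup `SL₂(16):2` of the third Janko group
-/

set_option autoImplicit false
set_option maxRecDepth 100000
set_option linter.style.haveILetI false
set_option linter.unusedSectionVars false

namespace Cfsg.Lib.J3Type

open Cfsg.Spor Cfsg.Lib.JThree Cfsg.Lib.Concrete Cfsg.Lib.Linear.ShortPres Cfsg.Lib.PermAut
open scoped MatrixGroups Pointwise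

attribute [local irreducible] mmul tget

/-- The matrix of a letter. -/
def slW (j : ℕ) : ℕ := slCode.getD j oneM

/-- Two words with the same matrix up to a scalar. -/
noncomputable def slEq (w v : List ℕ) : Bool :=
  (w.all fun l => Nat.blt l 4) && (v.all fun l => Nat.blt l 4) &&
    (List.range 3).any fun r => Nat.beq (wordC slW w) (mmul (powC scal r) (wordC slW v))

theorem slWit_ok : ((List.range 4).all fun j => witB (slW j) (slWit.getD j (0, 0, 0))) = true := by
  decide +kernel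

theorem sl_facts : slEq [1, 1] [] = true ∧ slEq (List.replicate 15 0) [] = true ∧
    slEq [0, 0, 0, 0, 1] ([0, 1] ++ List.replicate 14 0 ++ [1, 0, 0, 0, 0]) = true ∧
    slEq [2, 0, 2] (List.replicate 14 0) = true ∧ slEq [2, 1, 2] [1, 2, 1] = true ∧ slEq [2, 2] [] = true ∧
    slEq [3, 3] [] = true ∧ slEq [3, 1] [1, 3] = true ∧ slEq [3, 2] [2, 3] = true ∧
    slEq [3, 0] [0, 0, 0, 0, 3] = true := by decide +kernel

theorem sl_torus : ((List.range 3).all fun r => !Nat.beq (wordC slW [0, 0, 0]) (powC scal r)) = true ∧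
    wordC slW [0, 0, 0] < 2 ^ 162 ∧ ((List.range 3).all fun r => Nat.blt (powC scal r) (2 ^ 162)) = true := by
  decide +kernel

variable {F : Type} [Field F] [Fintype F] {ω : F}

/-- A letter in the cover. -/
noncomputable def slT (ω : F) (j : ℕ) : threeJ3 F ω := elT ω (slW j)

/-- A letter in the third Janko group. -/
noncomputable def slG (ω : F) (j : ℕ) : J3 F ω := QuotientGroup.mk (slT ω j)

theorem slT_val (H : Hyp F ω) : ∀ j < 4, ∃ e : F, e ≠ 0 ∧ valT (slT ω j) = e • toM ω (slW j) := fun j hj =>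
  ⟨1, one_ne_zero, by rw [one_smul]; exact elT_val (Has.of_wit H (List.all_eq_true.1 slWit_ok j (List.mem_range.2 hj)))⟩

theorem slG_prod (ω : F) : ∀ w : List ℕ, (QuotientGroup.mk (w.map (slT ω)).prod : J3 F ω) = (w.map (slG ω)).prod
  | [] => rfl
  | l :: w => by rw [List.map_cons, List.prod_cons, List.map_cons, List.prod_cons, QuotientGroup.mk_mul, slG_prod ω w]; rfl

theorem slEq_val (H : Hyp F ω) {w v : List ℕ} (h : slEq w v = true) :
    (w.map (slG ω)).prod = (v.map (slG ω)).prod := by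
  simp only [slEq, Bool.and_eq_true, List.all_eq_true, List.any_eq_true, List.mem_range, Nat.blt, Nat.ble_eq] at h
  obtain ⟨⟨hw, hv⟩, r, -, e⟩ := h
  obtain ⟨a, -, ha⟩ := word_val H (slT_val H) w fun n hn => hw n hn
  obtain ⟨b, hb0, hb⟩ := word_val H (slT_val H) v fun n hn => hv n hn
  rw [← slG_prod, ← slG_prod]
  refine mk_eq_of_smul (e := a * ω ^ r * b⁻¹) ?_
  rw [ha, hb, Nat.eq_of_beq_eq_true e, toM_mmul H.two H.omega, toM_powC H, toM_scal, smul_pow, one_pow,
    Matrix.smul_mul, one_mul, smul_smul, smul_smul, inv_mul_cancel_right₀ hb0]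

theorem slG_cube (hF : Fintype.card F = 4) (H : Hyp F ω) : slG ω 0 ^ 3 ≠ 1 := by
  intro h
  rw [slG, ← QuotientGroup.mk_pow, QuotientGroup.eq_one_iff] at h
  obtain ⟨c, hc, hcv⟩ := center_scalar H h
  obtain ⟨e, he, hev⟩ := word_val H (slT_val H) [0, 0, 0] (by simp)
  obtain ⟨hne, hlt, hlt'⟩ := sl_torus
  have e1 : slT ω 0 ^ 3 = ([0, 0, 0].map (slT ω)).prod := by
    simp only [List.map_cons, List.map_nil, List.prod_cons, List.prod_nil, mul_one, pow_succ, pow_zero, one_mul,
      mul_assoc]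
  rw [e1] at hcv
  change valT _ = _ at hcv
  rw [hev] at hcv
  have hM : toM ω (wordC slW [0, 0, 0]) = (e⁻¹ * c) • (1 : Matrix F9 F9 F) := by
    rw [← smul_smul, ← hcv, smul_smul, inv_mul_cancel₀ he, one_smul]
  obtain ⟨r, hr, hru⟩ : ∃ r < 3, ω ^ r = e⁻¹ * c := by
    classical
    have hd : e⁻¹ * c ≠ 0 := mul_ne_zero (inv_ne_zero he) hc
    have hu : orderOf (Units.mk0 ω H.ne_zero) = 3 := by
      haveI := Fact.mk Nat.prime_three
      rw [← orderOf_units]
      exact orderOf_eq_prime H.cube H.ne_one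
    have htop : Subgroup.zpowers (Units.mk0 ω H.ne_zero) = ⊤ := Subgroup.eq_top_of_card_eq _ (by
      rw [Nat.card_zpowers, hu, Nat.card_eq_fintype_card, Fintype.card_units, hF])
    obtain ⟨m, hm⟩ := (mem_powers_iff_mem_zpowers.2 (htop ▸ Subgroup.mem_top (Units.mk0 _ hd)) :
      Units.mk0 (e⁻¹ * c) hd ∈ Submonoid.powers (Units.mk0 ω H.ne_zero))
    refine ⟨m % 3, Nat.mod_lt _ (by norm_num), ?_⟩
    have h := congrArg Units.val hm
    simp only [Units.val_pow_eq_pow_val, Units.val_mk0] at h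
    rw [← h, pow_eq_pow_mod m H.cube]
  have hr' := List.all_eq_true.1 hne r (List.mem_range.2 hr)
  rw [Bool.not_eq_true', ← Bool.not_eq_true] at hr'
  refine hr' ?_
  rw [Nat.beq_eq]
  refine toM_inj H hlt ?_ ?_
  · exact Nat.lt_of_succ_le (Nat.le_of_ble_eq_true (List.all_eq_true.1 hlt' r (List.mem_range.2 hr)))
  · rw [hM, toM_powC H, toM_scal, smul_pow, one_pow, hru]

/-- The third Janko group has a subgroup `SL₂(16):2`. -/
theorem J3_has_sl16_two (hF : Fintype.card F = 4) (H : Hyp F ω) : ∃ (S : Subgroup (J3 F ω)) (N : Subgroup S) (K : Type)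
    (_ : Field K) (_ : Fintype K), N.Normal ∧ N.index = 2 ∧ Fintype.card K = 16 ∧
      Nonempty (N ≃* Matrix.SpecialLinearGroup (Fin 2) K) := by
  haveI : Finite (J3 F ω) := Nat.finite_of_card_ne_zero (by rw [card_J3 hF H]; norm_num)
  obtain ⟨K, fK, ftK, cK, z, hK, hz, ho⟩ := exists_field_sixteen
  obtain ⟨f1, f2, f3, f4, f5, f6, f7, f8, f9, f10⟩ := sl_facts
  have d1 := slEq_val H f1
  have d2 := slEq_val H f2
  have d3 := slEq_val H f3
  have d4 := slEq_val H f4
  have d5 := slEq_val H f5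
  have d6 := slEq_val H f6
  have d7 := slEq_val H f7
  have d8 := slEq_val H f8
  have d9 := slEq_val H f9
  have d10 := slEq_val H f10
  simp only [List.map_cons, List.map_nil, List.map_append, List.map_replicate, List.prod_cons, List.prod_nil,
    List.prod_append, List.prod_replicate, mul_one] at d1 d2 d3 d4 d5 d6 d7 d8 d9 d10
  have hX := slG_cube hF H
  set X := slG ω 0
  set U := slG ω 1
  set W := slG ω 2
  set σ := slG ω 3
  have hXi : X ^ 14 = X⁻¹ := eq_inv_of_mul_eq_one_left (by rw [← pow_succ]; exact d2)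
  have hWi : W⁻¹ = W := inv_eq_of_mul_eq_one_right d6
  have hσi : σ⁻¹ = σ := inv_eq_of_mul_eq_one_right d7
  have hX4 : X * (X * (X * X)) = X ^ 4 := by simp only [pow_succ, pow_zero, one_mul, mul_assoc]
  obtain ⟨φ, hφU, hφX, hφW⟩ := exists_hom_sixteen hK hz ho (U := U) (X := X) (W := W) (by rw [pow_two, d1]) d2
    (by
      have e1 : X ^ 4 * U = X * U * X⁻¹ * U * X ^ 4 := by
        rw [← hX4, ← hXi]
        simpa only [mul_assoc] using d3
      exact mul_inv_eq_iff_eq_mul.2 e1)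
    (by rw [hWi, ← hXi]; simpa only [mul_assoc] using d4)
    (by rw [hWi]; simpa only [mul_assoc] using d5)
  haveI := simple_SL_sixteen hK
  have hinj : Function.Injective φ := by
    rw [← MonoidHom.ker_eq_bot_iff]
    rcases Subgroup.Normal.eq_bot_or_eq_top (inferInstance : φ.ker.Normal) with h | h
    · exact h
    · refine absurd ?_ hX
      rw [← hφX, show φ (ds z) = 1 from MonoidHom.mem_ker.1 (h ▸ Subgroup.mem_top _), one_pow]
  set R := φ.range
  have hg : Gens 2 ((z : K) ^ 2) := by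
    haveI : Fact (Nat.Prime 2) := ⟨Nat.prime_two⟩
    exact gens_sq (by rw [orderOf_units, ho, hK])
  have htop : Subgroup.closure ({xs 1, ds z, ts} : Set SL(2, K)) = ⊤ :=
    closure_image_eq_top hg z rfl z ⟨1, (pow_one z).symm⟩
  have hconj : ∀ g : SL(2, K), σ * φ g * σ⁻¹ ∈ R := by
    have hle : Subgroup.closure ({xs 1, ds z, ts} : Set SL(2, K)) ≤
        R.comap ((MulAut.conj σ).toMonoidHom.comp φ) := by
      rw [Subgroup.closure_le]
      rintro x (rfl | rfl | rfl)
      · show σ * φ (xs 1) * σ⁻¹ ∈ R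
        exact ⟨xs 1, by rw [hφU, d8, mul_inv_cancel_right]⟩
      · show σ * φ (ds z) * σ⁻¹ ∈ R
        refine ⟨ds z ^ 4, ?_⟩
        rw [map_pow, hφX, d10, ← hX4]
        simp only [mul_assoc, mul_inv_cancel, mul_one]
      · show σ * φ ts * σ⁻¹ ∈ R
        exact ⟨ts, by rw [hφW, d9, mul_inv_cancel_right]⟩
    exact fun g => hle (htop ▸ Subgroup.mem_top g)
  have hnorm : σ ∈ Subgroup.normalizer (R : Set (J3 F ω)) :=
    Subgroup.mem_normalizer_fintype (by rintro _ ⟨g, rfl⟩; exact hconj g)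
  have hσR : σ ∉ R := by
    rintro ⟨s, hs⟩
    have c1 : s * xs 1 = xs 1 * s := hinj (by rw [map_mul, map_mul, hs, hφU, d8])
    have c2 : s * ts = ts * s := hinj (by rw [map_mul, map_mul, hs, hφW, d9])
    have c3 : s * s = 1 := hinj (by rw [map_mul, hs, d7, map_one])
    have h2 : (2 : K) = 0 := CharP.cast_eq_zero K 2
    have a1 := congrArg (fun M : SL(2, K) => (M : Matrix (Fin 2) (Fin 2) K) 0 0) c1
    have a2 := congrArg (fun M : SL(2, K) => (M : Matrix (Fin 2) (Fin 2) K) 0 1) c1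
    have b1 := congrArg (fun M : SL(2, K) => (M : Matrix (Fin 2) (Fin 2) K) 0 0) c2
    have q := congrArg (fun M : SL(2, K) => (M : Matrix (Fin 2) (Fin 2) K) 0 0) c3
    simp [Matrix.SpecialLinearGroup.coe_mul, Matrix.mul_apply, Fin.sum_univ_two, xs_coe, ts_coe] at a1 a2 b1 q
    have hs1 : s = 1 := by
      refine Subtype.ext ?_
      ext i j
      fin_cases i <;> fin_cases j <;> simp
      all_goals grind
    rw [hs1, map_one] at hs
    apply hX
    have e : X = X ^ 4 := by
      rw [← hX4]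
      simpa [← hs] using d10
    exact mul_left_cancel (a := X) (by rw [mul_one, ← pow_succ', ← e])
  have hτ : ∀ x ∈ Subgroup.zpowers σ, x ∈ R ∨ σ * x ∈ R := by
    intro x hx
    obtain ⟨m, rfl⟩ := Subgroup.mem_zpowers_iff.1 hx
    rcases Int.even_or_odd m with ⟨i, rfl⟩ | ⟨i, rfl⟩
    · left
      rw [zpow_add, ← (Commute.refl σ).mul_zpow, d7, one_zpow]
      exact one_mem R
    · right
      rw [zpow_add, two_mul, zpow_add, ← (Commute.refl σ).mul_zpow, d7, one_zpow, one_mul, zpow_one, d7]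
      exact one_mem R
  set S := R ⊔ Subgroup.zpowers σ
  have hRS : R ≤ S := le_sup_left
  have hσS : σ ∈ S := Subgroup.mem_sup_right (Subgroup.mem_zpowers σ)
  have hidx : (R.subgroupOf S).index = 2 := by
    refine Subgroup.index_eq_two_iff'.2 ⟨⟨σ, hσS⟩, fun b => ?_⟩
    simp only [Subgroup.mem_subgroupOf, Subgroup.coe_mul]
    obtain ⟨x, hx, y, hy, hxy⟩ : ∃ x ∈ R, ∃ y ∈ Subgroup.zpowers σ, x * y = (b : J3 F ω) := by
      have hb : (b : J3 F ω) ∈ ((R : Set (J3 F ω)) * (Subgroup.zpowers σ : Set (J3 F ω))) := by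
        rw [← Subgroup.coe_mul_of_right_le_normalizer_left R (Subgroup.zpowers σ) (Subgroup.zpowers_le.2 hnorm)]
        exact b.2
      exact Set.mem_mul.1 hb
    have hxc : σ * x * σ⁻¹ ∈ R := (Subgroup.mem_normalizer_iff.1 hnorm x).1 hx
    rcases hτ y hy with h | h
    · refine Or.inr ⟨hxy ▸ mul_mem hx h, fun hb => hσR ?_⟩
      have := mul_mem hb (inv_mem (hxy ▸ mul_mem hx h : (b : J3 F ω) ∈ R))
      simpa using this
    · have hσb : σ * (b : J3 F ω) ∈ R := by
        rw [← hxy, show σ * (x * y) = σ * x * σ⁻¹ * (σ * y) by group]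
        exact mul_mem hxc h
      refine Or.inl ⟨hσb, fun hb => hσR ?_⟩
      have := mul_mem hσb (inv_mem hb)
      simpa using this
  refine ⟨S, R.subgroupOf S, K, fK, ftK, Subgroup.normal_of_index_eq_two hidx, hidx, hK,
    ⟨(Subgroup.subgroupOfEquivOfLe hRS).trans (MonoidHom.ofInjective hinj).symm⟩⟩

end Cfsg.Lib.J3Type
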